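import Mathlib
import Cfsg.Agent.Lib.QT3.Defs

/-!
Quasithin groups of even type, not of even characteristic: definitions.
-/

set_option autoImplicit false

namespace CfsgLib.QT4

open Cfsg Subgroup CfsgLib.LBal CfsgLib.LAE CfsgLib.QT2 CfsgLib.QT3
open scoped commutatorElement

section K

variable {Y : Type*} [Group Y]

/-- 2-elements -/
def E2 {X : Type*} [Monoid X] (x : X) : Prop := ∃ k, x ^ 2 ^ k = 1

/-- the subgroup generated by the elements of order `p` of `A` -/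
def XP (p : ℕ) (A : Subgroup Y) : Subgroup Y := closure {x | x ∈ A ∧ orderOf x = p}

/-- 2-central involutions -/
def Tc (l : Y) : Prop := orderOf l = 2 ∧ Odd (centralizer ({l} : Set Y)).index

/-- `u` is centralized by a Sylow 2-subgroup of `A` -/
def C2 (A : Subgroup Y) (u : Y) : Prop := u ∈ A ∧ Odd ((centralizer {u}).relIndex A)

/-- all cocycles are coboundaries -/
def H1 (φ : MulAut Y) : Prop := ∀ g, g * φ g = 1 → ∃ u, u⁻¹ * φ u = g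

/-- the subgroup generated by the squares of the elements of `A` -/
def Sq (A : Subgroup Y) : Subgroup Y := closure {x | ∃ a ∈ A, x = a * a}

section

variable (Y)

def G1 : Prop := ∃ U : Sylow 2 Y, ∀ α : MulAut Y, E2 α → (∀ u ∈ U, α u = u) → α ∈ Inn Y

def TC1 : Prop := ∀ a b : Y, Tc a → Tc b → IsConj a b

def AllTC : Prop := ∀ a : Y, orderOf a = 2 → Tc a

/-- the involutions that are not 2-central are conjugate -/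
def TwoC : Prop := ∀ a b : Y, orderOf a = 2 → orderOf b = 2 → ¬ Tc a → ¬ Tc b → IsConj a b

def OAb : Prop := ∀ S : Subgroup (Out Y), IsPGroup 2 S → IsMulCommutative S

def OCyc : Prop := ∀ S : Subgroup (Out Y), IsPGroup 2 S → IsCyclic S

def H1g : Prop := ∀ φ : MulAut Y, φ * φ = 1 → φ ∉ Inn Y → H1 φ

def OutA : Prop := OCyc Y ∧ (¬ 4 ∣ Nat.card (Out Y) ∨ H1g Y)

def OutB : Prop := AllTC Y ∧ H1g Y ∧ Group.IsSolvable (Out Y) ∧ ∀ φ : MulAut Y, φ * φ = 1 → φ ∉ Inn Y →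
  ¬ Group.IsSolvable (fixedSubgroup φ) ∨ (¬ 8 ∣ Nat.card (Out Y) ∧ ∀ ψ : MulAut Y, ψ * ψ = 1 → ψ ∉ Inn Y →
    Group.IsSolvable (fixedSubgroup ψ) → ψ * φ ∈ Inn Y)

/-- every coset of `Inn Y` containing an element of order dividing `p` contains one fixing a noncyclic
elementary abelian `p`-group -/
def PP (p : ℕ) : Prop := p.Prime ∧ p ≠ 2 ∧ ∀ φ : MulAut Y, φ ^ p = 1 →
  ∃ y : Y, (MulAut.conj y * φ) ^ p = 1 ∧ ¬ PRankLE p 1 (fixedSubgroup (MulAut.conj y * φ))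

def UZ : Prop := ∃ U : Sylow 2 Y, ¬ IsMulCommutative (U : Subgroup Y) ∧ ∀ a ∈ U, ∀ b ∈ U, orderOf a = 2 →
  orderOf b = 2 → (∀ u ∈ U, u * a = a * u) → (∀ u ∈ U, u * b = b * u) → a = b

def IN : Prop := ∃ p, PP Y p ∧ ∀ l : Y, Tc l → l ∈ XP p (centralizer {l})

def AB : Prop := OCyc Y ∧ ∃ U : Sylow 2 Y, ∀ u ∈ U, u * u = 1

end

/-- the centre of `U` -/
abbrev ZU (U : Subgroup Y) : Subgroup Y := U ⊓ centralizer (U : Set Y)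

structure ZQU (U : Subgroup Y) : Prop where
  na : ¬ IsMulCommutative U
  el : ∀ a ∈ ZU U, a * a = 1
  out : ∀ α : MulAut Y, E2 α → (∀ u ∈ U, u⁻¹ * α u ∈ ZU U) → α ∈ Inn Y
  cm : ∀ a ∈ U, ∀ b ∈ U, a ∉ ZU U → b ∉ ZU U → ∃ x ∈ U, ∃ y ∈ U, ⁅a, x⁆ = ⁅b, y⁆ ∧ ⁅a, x⁆ ≠ 1
  inv : ∀ a ∈ U, a ∉ ZU U → a * a = 1 → ∀ w ∈ ZU U, ∃ x ∈ U, w = ⁅a, x⁆

def ZQ (Y : Type*) [Group Y] : Prop := ∃ U : Sylow 2 Y, ZQU (U : Subgroup Y)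

def KNC (l : Y) : Prop := ∃ p, PP Y p ∧ ∀ u, Tc u → C2 (centralizer {l}) u → u ∈ XP p (centralizer {l}) ∧
  ∀ (α : MulAut (XP p (centralizer ({l} : Set Y)))) (x : XP p (centralizer ({l} : Set Y))), (x : Y) = u →
    C2 (centralizer {l}) (α x : Y) → IsConj l (l * α x)

/-- a sufficient condition for `KNC` -/
def NCW (l : Y) : Prop := ∃ p, PP Y p ∧ ∃ (W : Subgroup Y) (a : Y), W ≤ centralizer {l} ∧
  centralizer {l} ≤ normalizer (W : Set Y) ∧ (∀ w ∈ W, w * w = 1) ∧ a * l = l * a ∧ orderOf a = p ∧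
  (∀ w ∈ W, a * w = w * a → w = 1) ∧ l ∉ W ∧ ∀ u, Tc u → C2 (centralizer {l}) u → u ∈ W

def KNE (l : Y) : Prop := ¬ 4 ∣ Nat.card (Out Y) ∧ ∃ p, PP Y p ∧
  ∀ c ∈ centralizer (XP p (centralizer ({l} : Set Y)) : Set Y), E2 c → c * c = 1

def KNE2 (l : Y) : Prop := Odd (Nat.card (Out Y)) ∧ ∃ p, PP Y p ∧
  ∀ c ∈ centralizer (XP p (centralizer ({l} : Set Y)) : Set Y),
    (E2 c → c * c = 1) ∧ (orderOf c = 2 → C2 (centralizer {l}) c → c = l)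

/-- the generic facts; `a`: `C(L)` has noncyclic, `b`: rank one Sylow 2-subgroups, `c`: `L₂(2ⁿ)` -/
structure KG (Y : Type*) [Group Y] (a b c : Prop) : Prop where
  g1 : G1 Y
  tc1 : TC1 Y
  oab : OAb Y
  out : OutA Y ∨ OutB Y ∨ (a ∧ OCyc Y)
  nc : ∀ l : Y, orderOf l = 2 → ¬ Tc l → KNC l ∨ KNE2 l ∨ (b ∧ KNE l)
  iv : UZ Y ∨ IN Y ∨ ZQ Y ∨ (c ∧ AB Y)

/-- `Sp₄(q)`: `A`, `B` are the two root groups in the centre of `U` -/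
structure S4U (U A B : Subgroup Y) : Prop where
  zen : ZU U = A ⊔ B
  dis : A ⊓ B = ⊥
  el : ∀ w ∈ A ⊔ B, w * w = 1
  card : Nat.card A = Nat.card B ∧ 4 ≤ Nat.card A
  com : ⁅U, U⁆ = A ⊔ B
  tor : ∀ a ∈ A, ∀ a' ∈ A, ∀ b ∈ B, ∀ b' ∈ B, a ≠ 1 → a' ≠ 1 → b ≠ 1 → b' ≠ 1 →
    ∃ n ∈ normalizer (U : Set Y), n * a * n⁻¹ = a' ∧ n * b * n⁻¹ = b'
  xp : ∀ l, l ∈ A ∨ l ∈ B → l ≠ 1 → l ∈ XP 3 (centralizer {l})
  intr : ∀ w ∈ A ⊔ B, w ≠ 1 → (w ∈ A ∨ w ∈ B ↔ ¬ ∃ a ∈ U, ∃ b ∈ U, a * a = 1 ∧ b * b = 1 ∧ ⁅a, b⁆ = w)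
  v6 : ∀ α : MulAut Y, E2 α → ∀ V ≤ U, U ≤ normalizer (V : Set Y) → (∀ u ∈ U, u⁻¹ * α u ∈ V) → V ⊓ A = ⊥ →
    V ⊓ B = ⊥ → ∃ a, a * a = 1 ∧ α = MulAut.conj a
  jf : ∃ n, U ≤ ⨆ E ∈ {E : Subgroup Y | E ≤ U ∧ (∀ e ∈ E, e * e = 1) ∧ Nat.card E = n}, E ∧
    ∀ φ : MulAut Y, φ * φ = 1 → φ ∉ Inn Y → ∀ E ≤ fixedSubgroup φ, (∀ e ∈ E, e * e = 1) → 2 * Nat.card E < n

structure KS4 (Y : Type*) [Group Y] : Prop where
  all : AllTC Y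
  g1 : G1 Y
  out : OutA Y
  pp : PP Y 3
  ex : ∃ (U : Sylow 2 Y) (A B : Subgroup Y), S4U (U : Subgroup Y) A B

/-- `A₆` with a transposition `φ`; `U = ⟨v, w⟩` is dihedral of order eight with central involution `u` -/
structure S6T (φ : MulAut Y) (U : Subgroup Y) (u v w a b : Y) : Prop where
  mem : ∀ x, x ∈ U ↔ x = 1 ∨ x = u ∨ x = v ∨ x = u * v ∨ x = w ∨ x = u * w ∨ x = v * w ∨ x = w * v
  vv : v * v = 1
  ww : w * w = 1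
  uu : u * u = 1
  u1 : u ≠ 1
  vw : v * w * (v * w) = u
  a1 : φ a = a ∧ orderOf a = 3
  a2 : a * u * a⁻¹ = v ∧ a * v * a⁻¹ = u * v
  b1 : φ b = u * b * u
  b2 : b * u * b⁻¹ = w ∧ b * w * b⁻¹ = u * w
  xp : ∀ x ∈ U, x ∈ XP 3 (fixedSubgroup φ) → x = 1 ∨ x = u ∨ x = v ∨ x = u * v
  cen : ∀ ψ : MulAut Y, E2 ψ → ψ * φ = φ * ψ → (∀ x ∈ U, ψ x ∈ U) →
    ∃ x ∈ U, ψ = MulAut.conj x ∨ ψ = MulAut.conj x * φ

structure KA6 (Y : Type*) [Group Y] : Prop where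
  uz : UZ Y
  all : AllTC Y
  tc1 : TC1 Y
  oab : OAb Y
  o8 : ¬ 8 ∣ Nat.card (Out Y)
  pp : PP Y 3
  out : ∀ φ : MulAut Y, φ * φ = 1 → φ ∉ Inn Y → (H1 φ ∧ ¬ 4 ∣ Nat.card (fixedSubgroup φ)) ∨
    ((∃ U : Sylow 2 Y, (U : Subgroup Y) ≤ fixedSubgroup φ) ∧ ∀ U : Sylow 2 Y, (U : Subgroup Y) ≤ fixedSubgroup φ →
      ∃ u v w a b, S6T φ (U : Subgroup Y) u v w a b)

/-- the image of `l` in the central quotient is a 2-central involution -/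
def Tq (l : Y) : Prop := Tc (QuotientGroup.mk l : Y ⧸ center Y)

/-- double covers: inner pairs of 2-central type -/
structure KD (z : Y) (p : ℕ) : Prop where
  z2 : orderOf z = 2
  cen : ∀ c, c ∈ center Y ↔ c = 1 ∨ c = z
  g1 : G1 Y
  l1 : ∀ l : Y, Tq l → l * l = 1
  l2 : ∀ l : Y, l * l = 1 → l ∉ center Y → Tq l
  tc1 : ∀ a b : Y, Tq a → Tq b → ∃ g, g * a * g⁻¹ = b ∨ g * a * g⁻¹ = b * z
  pp : PP Y p
  zx : ∀ l : Y, Tq l → z ∈ XP p (centralizer {l})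
  asym : ∀ l : Y, Tq l → ∀ (α β : MulAut (XP p (centralizer ({l} : Set Y)))) (x : XP p (centralizer ({l} : Set Y))),
    (x : Y) = z → (α x : Y) = l → (β x : Y) = l * z → False

/-- double covers: the other pairs -/
structure KDo (z : Y) : Prop where
  out : ∀ φ : MulAut Y, φ * φ ∈ Inn Y
  dco : ∀ ψ : MulAut Y, ψ * ψ = 1 → ψ ≠ 1 → (¬ ∃ l, Tq l ∧ ψ = MulAut.conj l) →
    (ψ ∉ Inn Y ∧ z ∈ Sq (fixedSubgroup ψ)) ∨ ∃ p, PP Y p ∧ ∃ v ∈ XP p (fixedSubgroup ψ), v * v = 1 ∧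
      v ∉ centralizer (XP p (fixedSubgroup ψ) : Set Y) ∧ ∃ u, u⁻¹ * ψ u = v

/-- the square roots of `l` in `X` have the same square in a double cover (`M₁₂`) -/
def AS3 (X : Subgroup Y) (l : Y) : Prop := ∃ a ∈ X, ∃ b ∈ X, ∃ c ∈ X, a * a = l ∧ b * b = l ∧
  (∀ x ∈ X, x * x = l → ∃ g ∈ X, g * x * g⁻¹ = a ∨ g * x * g⁻¹ = b) ∧ (∃ g ∈ X, g * b * g⁻¹ = c) ∧
  (∃ g ∈ X, g * b * g⁻¹ = b * c) ∧ a * b = b * a ∧ a * c = c * a ∧ orderOf (a * b) = 2 ∧ ¬ Tc (a * b) ∧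
  orderOf (a * c) = 2 ∧ ¬ Tc (a * c) ∧ Tc (a * (b * c))

/-- facts about the simple group giving `KD` for its double covers -/
structure KB (Y : Type*) [Group Y] (p : ℕ) : Prop where
  g1 : G1 Y
  tc1 : TC1 Y
  two : TwoC Y
  pp : PP Y p
  q8 : ∃ l a b : Y, Tc l ∧ a * a = l ∧ b * b = l ∧ a * b * (a * b) = l
  zx : ∃ l : Y, Tc l ∧ l ∈ XP p (centralizer {l}) ∧
    ((∃ s ∈ XP p (centralizer {l}), orderOf s = 2 ∧ ¬ Tc s) ∨ ∃ (U : Sylow 2 Y) (u : Y),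
      (U : Subgroup Y) ≤ centralizer {l} ∧ u ∈ U ∧ (U : Subgroup Y) ≤ ((U : Subgroup Y) ⊓ XP p (centralizer {l})) ⊔ zpowers u) ∧
    ((AllTC Y ∧ ∃ x ∈ XP p (centralizer {l}), x * x = l) ∨
      ((∀ s : Y, orderOf s = 4 → Tc (s * s)) ∧ ∃ x ∈ XP p (centralizer {l}), x ^ 4 = l) ∨
      ((∃ s ∈ XP p (centralizer {l}), orderOf s = 2 ∧ ¬ Tc s) ∧ AS3 (XP p (centralizer {l})) l))

/-- facts about the simple group giving `KDo` for its double covers -/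
structure KBo (Y : Type*) [Group Y] : Prop where
  out : ∀ φ : MulAut Y, φ * φ ∈ Inn Y
  inn : ∀ l : Y, orderOf l = 2 → ¬ Tc l → (∃ x, orderOf x = 2 ∧ x ≠ l ∧ x * l = l * x ∧ (Tc x ↔ Tc (l * x))) ∧
    ∃ p, PP Y p ∧ ∃ v ∈ XP p (centralizer {l}), Tc v ∧ v ∉ centralizer (XP p (centralizer ({l} : Set Y)) : Set Y) ∧
      IsConj l (l * v)
  outr : ∀ φ : MulAut Y, φ * φ = 1 → φ ∉ Inn Y → (∃ s ∈ fixedSubgroup φ, orderOf s = 2 ∧ ¬ Tc s) ∧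
    ∃ p, PP Y p ∧ ∃ v ∈ XP p (fixedSubgroup φ), Tc v ∧ v ∉ centralizer (XP p (fixedSubgroup φ) : Set Y) ∧
      ∃ u, u⁻¹ * φ u = v

/-- in a proper cover by a 2-group some involution lifts to an element of order greater than two -/
def SQ (Y : Type*) [Group Y] : Prop := ∀ (Γ : Type) [Group Γ] [Finite Γ] (σ : Γ →* Y), IsStemExtension σ →
  IsPGroup 2 σ.ker → σ.ker ≠ ⊥ → ∃ γ : Γ, σ (γ * γ) = 1 ∧ γ * γ ≠ 1

/-- `Aut M₂₂`: an elementary abelian subgroup `B` of order 32 -/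
structure E5 (B : Subgroup (MulAut Y)) (D : Subgroup Y) (O1 O2 : Set (MulAut Y)) : Prop where
  mem : ∀ x, MulAut.conj x ∈ B ↔ x ∈ D
  card : Nat.card D = 16 ∧ O1.ncard = 10 ∧ O2.ncard = 6
  out : ∀ φ, φ ∈ B ∧ φ ∉ Inn Y ↔ φ ∈ O1 ∨ φ ∈ O2
  dis : Disjoint O1 O2
  orb1 : ∀ φ ∈ O1, ∀ ψ, ψ ∈ O1 ↔ ∃ n ∈ normalizer (D : Set Y), MulAut.conj n * φ * (MulAut.conj n)⁻¹ = ψ
  orb2 : ∀ φ ∈ O2, ∀ ψ, ψ ∈ O2 ↔ ∃ n ∈ normalizer (D : Set Y), MulAut.conj n * φ * (MulAut.conj n)⁻¹ = ψ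
  irr : ∀ D₀ ≤ D, Nat.card D₀ = 8 → ¬ normalizer (D : Set Y) ≤ normalizer (D₀ : Set Y)
  x10 : ∀ φ ∈ O1, ∃ v ∈ XP 3 (fixedSubgroup φ), orderOf v = 2 ∧ ∃ u, u⁻¹ * φ u = v
  x6 : ∀ φ ∈ O2, ∀ ψ : MulAut Y, ψ * φ = φ * ψ → ψ ^ 3 = 1 → ψ = 1
  big : ∀ N₀ ≤ normalizer (D : Set Y), (∀ n ∈ N₀, ∀ φ ∈ O2, φ n = n) →
    120 * Nat.card N₀ ≤ Nat.card (normalizer (D : Set Y))
  sy : ∃ (U : Sylow 2 Y) (a b : Y), a * a = 1 ∧ b * b = 1 ∧ a ∈ normalizer (D : Set Y) ∧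
    b ∈ normalizer (D : Set Y) ∧ (U : Subgroup Y) = D ⊔ closure {a, b} ∧ D ⊓ closure {a, b} = ⊥

structure K22 (Y : Type*) [Group Y] : Prop where
  all : AllTC Y
  pp : PP Y 3
  out : ¬ 4 ∣ Nat.card (Out Y)
  cx : ∀ l : Y, orderOf l = 2 → ∀ α : MulAut Y, E2 α → (∀ x ∈ XP 3 (centralizer ({l} : Set Y)), α x = x) →
    α = 1 ∨ α = MulAut.conj l
  ex : ∀ φ : MulAut Y, φ * φ = 1 → φ ∉ Inn Y →
    ∃ B : Subgroup (MulAut Y), φ ∈ B ∧ (∀ β ∈ B, β * β = 1) ∧ Nat.card B = 32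
  str : ∀ B : Subgroup (MulAut Y), (∀ β ∈ B, β * β = 1) → Nat.card B = 32 → ∃ D O1 O2, E5 B D O1 O2

/-- `2·L₃(4)`: the centre of `U` is `⟨z⟩ × {1, f, h f h⁻¹, h² f h⁻²}` -/
structure L34U (z : Y) (U F : Subgroup Y) (h : Y) : Prop where
  zen : ∀ w, w ∈ ZU U ↔ w ∈ F ∨ w * z ∈ F
  zF : z ∉ F
  card : Nat.card F = 4
  hU : h ∈ normalizer (U : Set Y)
  hF : ∀ f ∈ F, h * f * h⁻¹ ∈ F ∧ (h * f = f * h → f = 1)
  inv : ∀ α : MulAut Y, (∀ u ∈ U, α u ∈ U) → ∀ f ∈ F, α f ∈ F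
  cls : ∀ x : Y, x * x = 1 → ∃ g, g * x * g⁻¹ ∈ ZU U
  cm : ∀ a ∈ U, a ∉ ZU U → ∃ x ∈ U, ∃ y ∈ U, ⁅a, x⁆ ≠ 1 ∧ ⁅a, y⁆ ≠ 1 ∧ ⁅a, x⁆ ≠ ⁅a, y⁆
  sqz : ∀ a ∈ U, a * a ∈ ZU U
  na : ∃ a ∈ U, a * a ≠ 1
  out : ∀ α : MulAut Y, E2 α → (∀ u ∈ U, u⁻¹ * α u ∈ ZU U) → α ∈ Inn Y
  sq : ∀ α : MulAut Y, E2 α → (∀ u ∈ U, α u ∈ U) → α ∉ Inn Y →
    ∃ d ∈ closure {x | ∃ u ∈ U, x = u⁻¹ * α u}, d * d ≠ 1 ∧ α (d * d) = d * d

structure K34 (z : Y) : Prop where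
  z2 : orderOf z = 2
  cen : ∀ c, c ∈ center Y ↔ c = 1 ∨ c = z
  lift : ∀ x : Y, x * x ≠ z
  oute : ∀ φ ∈ Sq (⊤ : Subgroup (MulAut Y)), E2 φ → φ ∈ Inn Y
  outc : ∀ ψ : MulAut Y, ψ * ψ = 1 → ψ ∉ Inn Y → ∃ v ∈ Sq (fixedSubgroup ψ), v * v = 1 ∧ v ∉ center Y ∧
    ∃ u, u⁻¹ * ψ u = v
  ex : ∃ (U : Sylow 2 Y) (F : Subgroup Y) (h : Y), L34U z (U : Subgroup Y) F h

end K

section Amb

variable {G : Type*} [Group G]

/-- the centralizer of a subgroup -/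
abbrev cen (L : Subgroup G) : Subgroup G := centralizer (L : Set G)

/-- the normalizer of a subgroup -/
abbrev nor (L : Subgroup G) : Subgroup G := normalizer (L : Set G)

/-- the elements inducing inner automorphisms -/
abbrev LK (L : Subgroup G) : Subgroup G := L ⊔ cen L

def aG1 (L : Subgroup G) : Prop := ∀ U, IsSylowIn 2 U L → ∀ r ∈ nor L, E2 r → r ∈ cen U → r ∈ LK L

def aTC1 (L : Subgroup G) : Prop := ∀ a b, TC L a → TC L b → ∃ g ∈ L, g * a * g⁻¹ = b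

def aAll (L : Subgroup G) : Prop := ∀ a ∈ L, orderOf a = 2 → TC L a

def aOAb (L : Subgroup G) : Prop := ∀ S ≤ nor L, IsPGroup 2 S → ∀ a ∈ S, ∀ b ∈ S, ⁅a, b⁆ ∈ LK L

def aOCyc (L : Subgroup G) : Prop := ∀ S ≤ nor L, IsPGroup 2 S → ∃ s ∈ S, S ≤ LK L ⊔ zpowers s

def aO (n : ℕ) (L : Subgroup G) : Prop := ∀ S ≤ nor L, IsPGroup 2 S → (LK L).relIndex S ≤ n

def aH1 (L : Subgroup G) (r : G) : Prop := ∀ l ∈ L, l * r * (l * r) = 1 → ∃ u ∈ L, u⁻¹ * r * u = l * r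

def aH1g (L : Subgroup G) : Prop := ∀ r ∈ nor L, r * r = 1 → r ∉ LK L → aH1 L r

def aOutB (L : Subgroup G) : Prop := aAll L ∧ aH1g L ∧ (∀ D ≤ nor L, ⁅D, D⁆ = D → D ≤ LK L) ∧
  ∀ r ∈ nor L, r * r = 1 → r ∉ LK L → ¬ Group.IsSolvable (L ⊓ centralizer {r} : Subgroup G) ∨
    (aO 4 L ∧ ∀ s ∈ nor L, s * s = 1 → s ∉ LK L → Group.IsSolvable (L ⊓ centralizer {s} : Subgroup G) →
      s * r ∈ LK L)

/-- elements of order `p` commuting with an involution of `C(L)` lie in `L` -/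
def XT (L : Subgroup G) (p : ℕ) : Prop := ∀ k ∈ cen L, orderOf k = 2 → ∀ x, orderOf x = p → x * k = k * x → x ∈ L

def aUZ (L : Subgroup G) : Prop := ∀ U, IsSylowIn 2 U L → ¬ U ≤ cen U ∧ ∀ a ∈ ZU U, ∀ b ∈ ZU U, orderOf a = 2 →
  orderOf b = 2 → a = b

def aIN (L : Subgroup G) : Prop := ∃ p, XT L p ∧ ∀ l, TC L l → l ∈ XP p (L ⊓ centralizer {l})

structure aZQU (L U : Subgroup G) : Prop where
  na : ¬ U ≤ cen U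
  el : ∀ a ∈ ZU U, a * a = 1
  out : ∀ r ∈ nor L, E2 r → (∀ u ∈ U, ⁅u, r⁆ ∈ ZU U) → r ∈ LK L
  cm : ∀ a ∈ U, ∀ b ∈ U, a ∉ ZU U → b ∉ ZU U → ∃ x ∈ U, ∃ y ∈ U, ⁅a, x⁆ = ⁅b, y⁆ ∧ ⁅a, x⁆ ≠ 1
  inv : ∀ a ∈ U, a ∉ ZU U → a * a = 1 → ∀ w ∈ ZU U, ∃ x ∈ U, w = ⁅a, x⁆

def aZQ (L : Subgroup G) : Prop := ∀ U, IsSylowIn 2 U L → aZQU L U

def aAB (L : Subgroup G) : Prop := aOCyc L ∧ ∀ U, IsSylowIn 2 U L → ∀ u ∈ U, u * u = 1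

def aNC (L : Subgroup G) (l : G) : Prop := ∃ p, XT L p ∧ ∀ u, TC L u → C2 (L ⊓ centralizer {l}) u →
  u ∈ XP p (L ⊓ centralizer {l}) ∧ ∀ σ ∈ nor (XP p (L ⊓ centralizer {l})),
    C2 (L ⊓ centralizer {l}) (σ * u * σ⁻¹) → ∃ g ∈ L, g * l * g⁻¹ = l * (σ * u * σ⁻¹)

def aNE (L : Subgroup G) (l : G) : Prop := aO 2 L ∧ ∃ p, XT L p ∧
  ∀ c ∈ L, c ∈ cen (XP p (L ⊓ centralizer {l})) → E2 c → c * c = 1

def aNE2 (L : Subgroup G) (l : G) : Prop := aO 1 L ∧ ∃ p, XT L p ∧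
  ∀ c ∈ L, c ∈ cen (XP p (L ⊓ centralizer {l})) →
    (E2 c → c * c = 1) ∧ (orderOf c = 2 → C2 (L ⊓ centralizer {l}) c → c = l)

/-- `KG` inside `G` -/
structure GA (L : Subgroup G) (a b c : Prop) : Prop where
  g1 : aG1 L
  tc1 : aTC1 L
  oab : aOAb L
  out : (aOCyc L ∧ (aO 2 L ∨ aH1g L)) ∨ aOutB L ∨ (a ∧ aOCyc L)
  nc : ∀ l ∈ L, orderOf l = 2 → ¬ TC L l → aNC L l ∨ aNE2 L l ∨ (b ∧ aNE L l)
  iv : aUZ L ∨ aIN L ∨ aZQ L ∨ (c ∧ aAB L)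

/-- `M` is conjugate to `L` -/
def Cj (L M : Subgroup G) : Prop := ∃ g, cj g L = M

/-- `P` holds for all conjugates of `L` -/
def Al (P : Subgroup G → Prop) (L : Subgroup G) : Prop := ∀ M, Cj L M → P M

/-- `y` centralizes a conjugate of `L` -/
def KT (L : Subgroup G) (y : G) : Prop := ∃ M, Cj L M ∧ y ∈ cen M

/-- the conjugates of `L` normalized by `S` -/
def Gam (S L : Subgroup G) : Set (Subgroup G) := {M | Cj L M ∧ S ≤ nor M}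

/-- `T` normalizes a second conjugate of `L` -/
def Full (T : Sylow 2 G) (L : Subgroup G) : Prop := ∃ M ∈ Gam (T : Subgroup G) L, M ≠ L

/-- the hypotheses -/
structure Sd (T : Sylow 2 G) (z : G) (L : Subgroup G) : Prop extends Su T z L where
  simple : IsSimpleGroup G
  ncomm : ¬ IsMulCommutative G
  std : IsStandardSubgroup L

/-- a pair of conjugates -/
structure Pr (T : Sylow 2 G) (z : G) (L M P : Subgroup G) : Prop extends Sd T z L where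
  cj : Cj L M
  ne : M ≠ L
  syl : IsSylowIn 2 P (nor L ⊓ nor M)
  le : P ≤ T
  ne1 : P ⊓ cen M ≠ ⊥

/-- a maximal pair with `P < T` -/
structure Mp (T : Sylow 2 G) (z : G) (L M P : Subgroup G) : Prop extends Pr T z L M P where
  lt : ¬ (T : Subgroup G) ≤ P
  max : ∀ A B, Cj L A → Cj L B → A ≠ B → ∀ R ≤ nor A ⊓ nor B, IsPGroup 2 R → R ⊓ cen B ≠ ⊥ →
    Nat.card R ≤ Nat.card P

/-- `x` induces an involution on `N(P) / P` -/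
def Iv (P : Subgroup G) (x : G) : Prop := x ∈ nor P ∧ x ∉ P ∧ x * x ∈ P

end Amb

end CfsgLib.QT4
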