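import Mathlib
import Cfsg.Agent.Lib.QT4.Defs
import Cfsg.Agent.Lib.QT3.Congr

/-!
Transport of the K-facts.
-/

set_option autoImplicit false
set_option linter.unusedSectionVars false

namespace CfsgLib.QT4

open Cfsg Subgroup CfsgLib.LBal CfsgLib.LAE CfsgLib.QT2 CfsgLib.QT3
open scoped MatrixGroups commutatorElement

section

variable {Y Y' : Type*} [Group Y] [Group Y'] {p : ℕ}

theorem E2.map {F : Type*} [FunLike F Y Y'] [MonoidHomClass F Y Y'] (f : F) {x : Y} (h : E2 x) : E2 (f x) :=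
  let ⟨k, hk⟩ := h; ⟨k, by rw [← map_pow, hk, map_one]⟩

theorem E2.of_equiv (e : Y ≃* Y') {x : Y} (h : E2 (e x)) : E2 x := by simpa using h.map e.symm

theorem mem_map_e (e : Y ≃* Y') {A : Subgroup Y} {x : Y} : e x ∈ A.map e.toMonoidHom ↔ x ∈ A :=
  mem_map_iff_mem (f := e.toMonoidHom) e.injective

theorem mem_cen_e (e : Y ≃* Y') {A : Subgroup Y} {x : Y} :
    e x ∈ centralizer (A.map e.toMonoidHom : Set Y') ↔ x ∈ centralizer (A : Set Y) :=
  (CRel.mk (e := e) (φ := 1) (φ' := 1) (fun _ => rfl) rfl).cent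

theorem mem_c1_e (e : Y ≃* Y') {x y : Y} : e x ∈ centralizer ({e y} : Set Y') ↔ x ∈ centralizer ({y} : Set Y) := by
  rw [← cent_congr, mem_map_e]

theorem congr_apply (e : Y ≃* Y') (α : MulAut Y) (x : Y) : MulAut.congr e α (e x) = e (α x) := by simp

theorem congr_conj (e : Y ≃* Y') (y : Y) : MulAut.congr e (MulAut.conj y) = MulAut.conj (e y) := by
  ext x; simp

theorem inn_e (e : Y ≃* Y') {α : MulAut Y} : MulAut.congr e α ∈ Inn Y' ↔ α ∈ Inn Y :=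
  ⟨fun ⟨y, h⟩ => ⟨e.symm y, (MulAut.congr e).injective (by rw [← h]; exact (congr_conj e _).trans (by simp))⟩,
    fun ⟨y, h⟩ => ⟨e y, h ▸ (congr_conj e y).symm⟩⟩

theorem fix_e (e : Y ≃* Y') (φ : MulAut Y) :
    (fixedSubgroup φ).map e.toMonoidHom = fixedSubgroup (MulAut.congr e φ) :=
  (CRel.mk (L := ⊥) (congr_apply e φ) rfl).fix

/-- `Out Y ≃ Out Y'` -/
def outE (e : Y ≃* Y') : Out Y ≃* Out Y' := QuotientGroup.congr _ _ (MulAut.congr e) (by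
  ext α
  obtain ⟨α, rfl⟩ := (MulAut.congr e).surjective α
  exact (mem_map_e (MulAut.congr e)).trans (inn_e e).symm)

theorem card_out_e (e : Y ≃* Y') : Nat.card (Out Y) = Nat.card (Out Y') := Nat.card_congr (outE e).toEquiv

/-- the isomorphism of a subgroup with its image -/
noncomputable def subE (e : Y ≃* Y') (A : Subgroup Y) {B : Subgroup Y'} (h : A.map e.toMonoidHom = B) : A ≃* B :=
  (A.equivMapOfInjective e.toMonoidHom e.injective).trans (MulEquiv.subgroupCongr h)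

theorem subE_coe (e : Y ≃* Y') (A : Subgroup Y) {B : Subgroup Y'} (h : A.map e.toMonoidHom = B) (x : A) :
    (subE e A h x : Y') = e x := rfl

/-- the preimage of a Sylow subgroup -/
def sylE (e : Y ≃* Y') (U : Sylow p Y') : Sylow p Y :=
  U.comapOfInjective e.toMonoidHom e.injective (by rw [MonoidHom.range_eq_top.2 e.surjective]; exact le_top)

theorem mem_sylE (e : Y ≃* Y') (U : Sylow p Y') {x : Y} : x ∈ sylE e U ↔ e x ∈ U := Iff.rfl

theorem map_sylE (e : Y ≃* Y') (U : Sylow p Y') : (sylE e U : Subgroup Y).map e.toMonoidHom = U :=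
  map_comap_eq_self_of_surjective e.surjective _

theorem isConj_e (e : Y ≃* Y') {a b : Y} : IsConj (e a) (e b) ↔ IsConj a b :=
  ⟨CRel.isConj e, fun h => e.toMonoidHom.map_isConj h⟩

theorem C2.congr (e : Y ≃* Y') {A : Subgroup Y} {u : Y} : C2 (A.map e.toMonoidHom) (e u) ↔ C2 A u := by
  rw [C2, C2, mem_map_e, ← cent_congr, relIndex_map_map_of_injective _ _ e.injective]

theorem ZU_e (e : Y ≃* Y') {U : Subgroup Y} {a : Y} : e a ∈ ZU (U.map e.toMonoidHom) ↔ a ∈ ZU U :=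
  and_congr (mem_map_e e) (mem_cen_e e)

theorem Sq_e (e : Y ≃* Y') (A : Subgroup Y) : (Sq A).map e.toMonoidHom = Sq (A.map e.toMonoidHom) := by
  rw [Sq, MonoidHom.map_closure]
  congr 1
  ext x
  exact ⟨by rintro ⟨_, ⟨a, ha, rfl⟩, rfl⟩; exact ⟨_, mem_map_of_mem _ ha, map_mul _ _ _⟩,
    by rintro ⟨_, ⟨a, ha, rfl⟩, rfl⟩; exact ⟨_, ⟨a, ha, rfl⟩, map_mul _ _ _⟩⟩

end

variable {Y Y' : Type*} [Group Y] [Group Y'] [Finite Y] {p : ℕ}

theorem Tc.congr (e : Y ≃* Y') {l : Y} : Tc (e l) ↔ Tc l := by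
  rw [Tc, Tc, e.orderOf_eq, ← cent_congr]
  exact and_congr_right fun _ => by rw [← index_map_equiv _ e]; rfl

theorem map_XP (e : Y ≃* Y') (A : Subgroup Y) : (XP p A).map e.toMonoidHom = XP p (A.map e.toMonoidHom) := by
  rw [XP, MonoidHom.map_closure]
  congr 1
  ext x
  exact ⟨by rintro ⟨y, ⟨h1, h2⟩, rfl⟩; exact ⟨mem_map_of_mem _ h1, (e.orderOf_eq y).trans h2⟩,
    by rintro ⟨⟨y, h1, rfl⟩, h2⟩; exact ⟨y, ⟨h1, (e.orderOf_eq y).symm.trans h2⟩, rfl⟩⟩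

theorem XPc_e (e : Y ≃* Y') (l : Y) :
    (XP p (centralizer {l})).map e.toMonoidHom = XP p (centralizer ({e l} : Set Y')) := by rw [map_XP, cent_congr]

theorem XPf_e (e : Y ≃* Y') (φ : MulAut Y) :
    (XP p (fixedSubgroup φ)).map e.toMonoidHom = XP p (fixedSubgroup (MulAut.congr e φ)) := by rw [map_XP, fix_e]

theorem mem_XPc (e : Y ≃* Y') {l x : Y} : e x ∈ XP p (centralizer ({e l} : Set Y')) ↔ x ∈ XP p (centralizer {l}) := by
  rw [← XPc_e, mem_map_e]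

theorem C2c (e : Y ≃* Y') {l u : Y} : C2 (centralizer {e l}) (e u) ↔ C2 (centralizer {l}) u := by
  rw [← cent_congr, C2.congr]

theorem G1.congr (e : Y ≃* Y') (h : G1 Y') : G1 Y :=
  let ⟨U, h⟩ := h
  ⟨sylE e U, fun α h1 h2 => (inn_e e).1 (h _ (h1.map _) fun u hu => by
    obtain ⟨u, rfl⟩ := e.surjective u
    rw [congr_apply, h2 u hu])⟩

theorem G1.all (h : G1 Y) (U : Sylow 2 Y) (α : MulAut Y) (h1 : E2 α) (h2 : ∀ u ∈ U, α u = u) : α ∈ Inn Y := by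
  obtain ⟨V, h⟩ := h
  obtain ⟨g, rfl⟩ := MulAction.exists_smul_eq Y V U
  refine (inn_e (MulAut.conj g⁻¹)).1 (h _ (h1.map _) fun u hu => ?_)
  obtain ⟨u, rfl⟩ := (MulAut.conj g⁻¹).surjective u
  rw [congr_apply, h2 u (mem_conjS.2 (show g⁻¹ * u * g ∈ V by simpa using hu))]

theorem TC1.congr (e : Y ≃* Y') (h : TC1 Y') : TC1 Y := fun _ _ ha hb =>
  (isConj_e e).1 (h _ _ ((Tc.congr e).2 ha) ((Tc.congr e).2 hb))

theorem AllTC.congr (e : Y ≃* Y') (h : AllTC Y') : AllTC Y := fun a ha =>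
  (Tc.congr e).1 (h _ ((e.orderOf_eq a).trans ha))

theorem TwoC.congr (e : Y ≃* Y') (h : TwoC Y') : TwoC Y := fun a b ha hb h1 h2 =>
  (isConj_e e).1 (h _ _ ((e.orderOf_eq a).trans ha) ((e.orderOf_eq b).trans hb) (mt (Tc.congr e).1 h1)
    (mt (Tc.congr e).1 h2))

theorem OAb.congr (e : Y ≃* Y') (h : OAb Y') : OAb Y := fun S hS =>
  have := h _ (hS.map (outE e).toMonoidHom)
  ⟨⟨fun a b => (subE (outE e) S rfl).injective (by rw [map_mul, map_mul, this.is_comm.comm])⟩⟩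

theorem OCyc.congr (e : Y ≃* Y') (h : OCyc Y') : OCyc Y := fun S hS =>
  have := h _ (hS.map (outE e).toMonoidHom)
  isCyclic_of_surjective _ (subE (outE e) S rfl).symm.surjective

theorem H1.congr (e : Y ≃* Y') {φ : MulAut Y} (h : H1 (MulAut.congr e φ)) : H1 φ := fun g hg => by
  obtain ⟨u, hu⟩ := h (e g) (by rw [congr_apply, ← map_mul, hg, map_one])
  obtain ⟨u, rfl⟩ := e.surjective u
  exact ⟨u, e.injective (by rw [← hu, congr_apply, map_mul, map_inv])⟩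

theorem H1g.congr (e : Y ≃* Y') (h : H1g Y') : H1g Y := fun _ h1 h2 =>
  (h _ (by rw [← map_mul, h1, map_one]) (mt (inn_e e).1 h2)).congr e

theorem OutA.congr (e : Y ≃* Y') (h : OutA Y') : OutA Y :=
  ⟨h.1.congr e, h.2.imp (card_out_e e ▸ id) (.congr e)⟩

theorem solv_fix_e (e : Y ≃* Y') (φ : MulAut Y) :
    Group.IsSolvable (fixedSubgroup (MulAut.congr e φ)) ↔ Group.IsSolvable (fixedSubgroup φ) :=
  have f := subE e _ (fix_e e φ)
  ⟨fun _ => Group.isSolvable_of_isSolvable_injective (f := f.toMonoidHom) f.injective,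
    fun _ => Group.isSolvable_of_surjective (f := f.toMonoidHom) f.surjective⟩

theorem OutB.congr (e : Y ≃* Y') (h : OutB Y') : OutB Y :=
  have := h.2.2.1
  ⟨h.1.congr e, h.2.1.congr e, Group.isSolvable_of_isSolvable_injective (f := (outE e).toMonoidHom) (outE e).injective,
    fun φ h1 h2 => (h.2.2.2 _ (by rw [← map_mul, h1, map_one]) (mt (inn_e e).1 h2)).imp (mt (solv_fix_e e φ).2)
      fun k => ⟨card_out_e e ▸ k.1, fun ψ k1 k2 k3 => (inn_e e).1 (map_mul (MulAut.congr e) ψ φ ▸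
        k.2 _ (by rw [← map_mul, k1, map_one]) (mt (inn_e e).1 k2) ((solv_fix_e e ψ).2 k3))⟩⟩

theorem PP.congr (e : Y ≃* Y') (h : PP Y' p) : PP Y p := ⟨h.1, h.2.1, fun φ hφ => by
  obtain ⟨y, h1, h2⟩ := h.2.2 (MulAut.congr e φ) (by rw [← map_pow, hφ, map_one])
  obtain ⟨y, rfl⟩ := e.surjective y
  rw [← congr_conj, ← map_mul] at h1 h2
  refine ⟨y, (MulAut.congr e).injective (by rw [map_pow, h1, map_one]), fun k => h2 ?_⟩
  exact (SylTools.pRankLE_congr (subE e _ (fix_e e (MulAut.conj y * φ)))).1 k⟩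

theorem comm_e (e : Y ≃* Y') {U : Subgroup Y} (h : ¬ IsMulCommutative (U.map e.toMonoidHom)) :
    ¬ IsMulCommutative U := fun k => h ⟨⟨fun a b => (subE e U rfl).symm.injective (by
      rw [map_mul, map_mul, k.is_comm.comm])⟩⟩

theorem UZ.congr (e : Y ≃* Y') (h : UZ Y') : UZ Y := by
  obtain ⟨U, h1, h2⟩ := h
  have k : ∀ a, (∀ u ∈ sylE e U, u * a = a * u) → ∀ u ∈ U, u * e a = e a * u := fun a h u hu => by
    obtain ⟨u, rfl⟩ := e.surjective u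
    rw [← map_mul, h u hu, map_mul]
  exact ⟨sylE e U, comm_e e (map_sylE e U ▸ h1), fun a ha b hb a2 b2 k1 k2 => e.injective
    (h2 _ ha _ hb ((e.orderOf_eq a).trans a2) ((e.orderOf_eq b).trans b2) (k a k1) (k b k2))⟩

theorem IN.congr (e : Y ≃* Y') (h : IN Y') : IN Y :=
  let ⟨p, h1, h2⟩ := h; ⟨p, h1.congr e, fun _ k => (mem_XPc e).1 (h2 _ ((Tc.congr e).2 k))⟩

theorem AB.congr (e : Y ≃* Y') (h : AB Y') : AB Y :=
  let ⟨h1, U, h2⟩ := h
  ⟨h1.congr e, sylE e U, fun u hu => e.injective (by rw [map_mul, h2 (e u) hu, map_one])⟩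

theorem ZQU.congr (e : Y ≃* Y') {U : Subgroup Y} (h : ZQU (U.map e.toMonoidHom)) : ZQU U where
  na := comm_e e h.na
  el a ha := e.injective (by rw [map_mul, h.el _ ((ZU_e e).2 ha), map_one])
  out α h1 h2 := (inn_e e).1 (h.out _ (h1.map _) (by
    rintro _ ⟨u, hu, rfl⟩
    have := (ZU_e e).2 (h2 u hu)
    rwa [map_mul, map_inv, ← congr_apply] at this))
  cm a ha b hb h1 h2 := by
    obtain ⟨_, ⟨x, hx, rfl⟩, _, ⟨y, hy, rfl⟩, k1, k2⟩ := h.cm _ ((mem_map_e e).2 ha) _ ((mem_map_e e).2 hb)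
      (mt (ZU_e e).1 h1) (mt (ZU_e e).1 h2)
    exact ⟨x, hx, y, hy, e.injective (by rw [map_commutatorElement, map_commutatorElement]; exact k1),
      fun k => k2 (by simpa [map_commutatorElement] using congrArg e k)⟩
  inv a ha h1 h2 w hw := by
    obtain ⟨_, ⟨x, hx, rfl⟩, k⟩ := h.inv _ ((mem_map_e e).2 ha) (mt (ZU_e e).1 h1)
      (by rw [← map_mul, h2, map_one]) _ ((ZU_e e).2 hw)
    exact ⟨x, hx, e.injective (by rw [map_commutatorElement]; exact k)⟩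

theorem ZQ.congr (e : Y ≃* Y') (h : ZQ Y') : ZQ Y :=
  let ⟨U, h⟩ := h; ⟨sylE e U, .congr e ((map_sylE e U).symm ▸ h)⟩

theorem ZQ.all (h : ZQ Y) (U : Sylow 2 Y) : ZQU (U : Subgroup Y) := by
  obtain ⟨V, h⟩ := h
  obtain ⟨g, rfl⟩ := MulAction.exists_smul_eq Y U V
  exact .congr (MulAut.conj g) h

theorem KNC.congr (e : Y ≃* Y') {l : Y} (h : KNC (e l)) : KNC l := by
  obtain ⟨p, h1, h2⟩ := h
  refine ⟨p, h1.congr e, fun u k1 k2 => ?_⟩
  obtain ⟨m1, m2⟩ := h2 _ ((Tc.congr e).2 k1) ((C2c e).2 k2)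
  refine ⟨(mem_XPc e).1 m1, fun α x hx k => (isConj_e e).1 ?_⟩
  have := m2 (MulAut.congr (subE e _ (XPc_e e l)) α) (subE e _ (XPc_e e l) x) (congrArg e hx)
  rw [congr_apply, subE_coe] at this
  exact map_mul e _ _ ▸ this ((C2c e).2 k)

theorem mem_cen_XPc (e : Y ≃* Y') {l c : Y} (h : c ∈ centralizer (XP p (centralizer ({l} : Set Y)) : Set Y)) :
    e c ∈ centralizer (XP p (centralizer ({e l} : Set Y')) : Set Y') := XPc_e (p := p) e l ▸ (mem_cen_e e).2 h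

theorem KNE.congr (e : Y ≃* Y') {l : Y} (h : KNE (e l)) : KNE l :=
  let ⟨h0, p, h1, h2⟩ := h
  ⟨card_out_e e ▸ h0, p, h1.congr e, fun c k1 k2 => e.injective (by
    rw [map_mul, h2 _ (mem_cen_XPc e k1) (k2.map e), map_one])⟩

theorem KNE2.congr (e : Y ≃* Y') {l : Y} (h : KNE2 (e l)) : KNE2 l :=
  let ⟨h0, p, h1, h2⟩ := h
  ⟨card_out_e e ▸ h0, p, h1.congr e, fun c k1 => ⟨fun k2 => e.injective (by
    rw [map_mul, (h2 _ (mem_cen_XPc e k1)).1 (k2.map e), map_one]), fun k2 k3 => e.injective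
      ((h2 _ (mem_cen_XPc e k1)).2 ((e.orderOf_eq c).trans k2) ((C2c e).2 k3))⟩⟩

theorem KG.congr {a b c : Prop} (e : Y ≃* Y') (h : KG Y' a b c) : KG Y a b c where
  g1 := h.g1.congr e
  tc1 := h.tc1.congr e
  oab := h.oab.congr e
  out := h.out.imp (.congr e) (.imp (.congr e) (.imp_right (.congr e)))
  nc l h1 h2 := (h.nc _ ((e.orderOf_eq l).trans h1) (mt (Tc.congr e).1 h2)).imp (.congr e)
    (.imp (.congr e) (.imp_right (.congr e)))
  iv := h.iv.imp (.congr e) (.imp (.congr e) (.imp (.congr e) (.imp_right (.congr e))))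

theorem KG.mono {a b c a' b' c' : Prop} (h : KG Y a b c) (ha : a → a') (hb : b → b') (hc : c → c') :
    KG Y a' b' c' :=
  ⟨h.g1, h.tc1, h.oab, h.out.imp_right (.imp_right (.imp_left ha)),
    fun l h1 h2 => (h.nc l h1 h2).imp_right (.imp_right (.imp_left hb)),
    h.iv.imp_right (.imp_right (.imp_right (.imp_left hc)))⟩

theorem SQ.congr (e : Y ≃* Y') (h : SQ Y') : SQ Y := fun Γ _ _ σ h1 h2 h3 => by
  obtain ⟨h4, h5⟩ := stem_comp_equiv h1 e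
  rw [← h5] at h2 h3
  obtain ⟨γ, k1, k2⟩ := h Γ _ h4 h2 h3
  exact ⟨γ, e.injective (k1.trans (map_one e).symm), k2⟩

theorem AS3.congr (e : Y ≃* Y') {X : Subgroup Y} {l : Y} (h : AS3 (X.map e.toMonoidHom) (e l)) : AS3 X l := by
  obtain ⟨_, ⟨a, ha, rfl⟩, _, ⟨b, hb, rfl⟩, _, ⟨c, hc, rfl⟩, h1, h2, h3, ⟨_, ⟨g, hg, rfl⟩, h4⟩,
    ⟨_, ⟨g', hg', rfl⟩, h5⟩, h6⟩ := h
  simp only [MulEquiv.coe_toMonoidHom, ← map_mul, ← map_inv, e.apply_eq_iff_eq, e.orderOf_eq, Tc.congr] at *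
  refine ⟨a, ha, b, hb, c, hc, h1, h2, fun x hx k => ?_, ⟨g, hg, h4⟩, ⟨g', hg', h5⟩, h6⟩
  obtain ⟨_, ⟨g, hg, rfl⟩, k⟩ := h3 _ ((mem_map_e e).2 hx) (by rw [← map_mul, k])
  simp only [MulEquiv.coe_toMonoidHom, ← map_mul, ← map_inv, e.apply_eq_iff_eq] at k
  exact ⟨g, hg, k⟩

theorem KB.congr (e : Y ≃* Y') (h : KB Y' p) : KB Y p := by
  have s : ∀ l, (∃ s ∈ XP p (centralizer {e l}), orderOf s = 2 ∧ ¬ Tc s) →
      ∃ s ∈ XP p (centralizer {l}), orderOf s = 2 ∧ ¬ Tc s := fun l ⟨s, h1, h2, h3⟩ => by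
    obtain ⟨s, rfl⟩ := e.surjective s
    exact ⟨s, (mem_XPc e).1 h1, (e.orderOf_eq s).symm.trans h2, mt (Tc.congr e).2 h3⟩
  refine ⟨h.g1.congr e, h.tc1.congr e, h.two.congr e, h.pp.congr e, ?_, ?_⟩
  · obtain ⟨l, a, b, k⟩ := h.q8
    obtain ⟨l, rfl⟩ := e.surjective l
    obtain ⟨a, rfl⟩ := e.surjective a
    obtain ⟨b, rfl⟩ := e.surjective b
    simp only [← map_mul, e.apply_eq_iff_eq, Tc.congr] at k
    exact ⟨l, a, b, k⟩
  · obtain ⟨l, h1, h2, h3, h4⟩ := h.zx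
    obtain ⟨l, rfl⟩ := e.surjective l
    refine ⟨l, (Tc.congr e).1 h1, (mem_XPc e).1 h2, h3.imp (s l) fun ⟨U, u, k1, k2, k3⟩ => ?_,
      h4.imp (fun ⟨k1, x, k2, k3⟩ => ?_) (.imp (fun ⟨k1, x, k2, k3⟩ => ?_)
        fun k => ⟨s l k.1, .congr e ((XPc_e e l).symm ▸ k.2)⟩)⟩
    · obtain ⟨u, rfl⟩ := e.surjective u
      refine ⟨sylE e U, u, fun x hx => (mem_c1_e e).1 (k1 hx), k2, fun x hx => (mem_map_e e).1 ?_⟩
      rw [Subgroup.map_sup, map_inf _ _ _ e.injective, map_sylE, XPc_e, MonoidHom.map_zpowers]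
      exact k3 hx
    · obtain ⟨x, rfl⟩ := e.surjective x
      exact ⟨k1.congr e, x, (mem_XPc e).1 k2, e.injective (map_mul e _ _ ▸ k3)⟩
    · obtain ⟨x, rfl⟩ := e.surjective x
      exact ⟨fun s k => (Tc.congr e).1 (map_mul e _ _ ▸ k1 _ ((e.orderOf_eq s).trans k)), x, (mem_XPc e).1 k2,
        e.injective (map_pow e _ _ ▸ k3)⟩

theorem sq_inn_e (e : Y ≃* Y') (h : ∀ φ : MulAut Y', φ * φ ∈ Inn Y') (φ : MulAut Y) : φ * φ ∈ Inn Y :=
  (inn_e e).1 (map_mul (MulAut.congr e) φ φ ▸ h _)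

theorem KBo.congr (e : Y ≃* Y') (h : KBo Y') : KBo Y where
  out := sq_inn_e e h.out
  inn l h1 h2 := by
    obtain ⟨⟨x, k⟩, p, k1, v, k2, k3, k4, k5⟩ := h.inn _ ((e.orderOf_eq l).trans h1) (mt (Tc.congr e).1 h2)
    obtain ⟨x, rfl⟩ := e.surjective x
    obtain ⟨v, rfl⟩ := e.surjective v
    simp only [← map_mul, ne_eq, e.apply_eq_iff_eq, Tc.congr, e.orderOf_eq, isConj_e] at k k3 k5
    exact ⟨⟨x, k⟩, p, k1.congr e, v, (mem_XPc e).1 k2, k3, mt (mem_cen_XPc e) k4, k5⟩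
  outr φ h1 h2 := by
    obtain ⟨⟨s, m1, m2⟩, p, k1, v, k2, k3, k4, u, k5⟩ := h.outr (MulAut.congr e φ)
      (by rw [← map_mul, h1, map_one]) (mt (inn_e e).1 h2)
    obtain ⟨s, rfl⟩ := e.surjective s
    obtain ⟨v, rfl⟩ := e.surjective v
    obtain ⟨u, rfl⟩ := e.surjective u
    rw [← fix_e, mem_map_e] at m1
    rw [← XPf_e] at k2 k4
    simp only [congr_apply, ← map_mul, ← map_inv, e.apply_eq_iff_eq, Tc.congr, e.orderOf_eq] at m2 k3 k5
    exact ⟨⟨s, m1, m2⟩, p, k1.congr e, v, (mem_map_e e).1 k2, k3, mt (mem_cen_e e).2 k4, u, k5⟩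

end CfsgLib.QT4
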