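import Mathlib
import Cfsg.Agent.Lib.QT4.CG
import Cfsg.Agent.Lib.QT3.CTKA
import Cfsg.Agent.Lib.QT3.KSp4A
import Cfsg.Agent.Lib.Coprime.Gaschutz
import Cfsg.Agent.Lib.SylTools.Rank

/-!
Tools for the K-facts.
-/

set_option autoImplicit false
set_option linter.unusedSectionVars false
set_option linter.unusedVariables false

namespace CfsgLib.QT4

open Cfsg Subgroup CfsgLib.LBal CfsgLib.LAE CfsgLib.QT2 CfsgLib.QT3
open scoped MatrixGroups commutatorElement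

variable {Y : Type*} [Group Y] [Finite Y]

theorem kt_o2 {X : Type*} [Group X] {a : X} : orderOf a = 2 ↔ a * a = 1 ∧ a ≠ 1 := by
  rw [orderOf_eq_prime_iff, sq]

theorem kt_e2 {X : Type*} [Group X] {l : X} (h : orderOf l = 2) : E2 l :=
  ⟨1, by rw [pow_one, ← h, pow_orderOf_eq_one]⟩

theorem c2_conj_mem {A S : Subgroup Y} {u : Y} (h : C2 A u) (h2 : E2 u) (hS : IsSylowIn 2 S A) :
    ∃ g ∈ A, g * u * g⁻¹ ∈ ZU S := by
  obtain ⟨k, hk⟩ := h2
  have hu : zpowers u ≤ A ⊓ centralizer {u} := by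
    rw [zpowers_le]; exact ⟨h.1, mem_centralizer_singleton_iff.2 rfl⟩
  obtain ⟨S0, h0, h1⟩ := exists_isSylowIn_ge (isPGroup_zpowers_of hk) hu
  have h3 : IsSylowIn 2 S0 A := by
    refine isSylowIn_of_not_dvd_relIndex (h0.le.trans inf_le_left) h0.isPGroup ?_
    rw [← relIndex_mul_relIndex S0 (A ⊓ centralizer {u}) A h0.le inf_le_left, Nat.prime_two.dvd_mul, not_or]
    refine ⟨h0.not_dvd_relIndex, ?_⟩
    rw [inf_comm, inf_relIndex_right, ← even_iff_two_dvd, Nat.not_even_iff_odd]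
    exact h.2
  obtain ⟨g, hg, rfl⟩ := h3.exists_conj hS
  refine ⟨g, hg, conj_mem_conjS.2 (h1 (mem_zpowers u)), fun x hx => ?_⟩
  obtain ⟨y, hy, rfl⟩ := exists_of_mem_conjS hx
  have := mem_centralizer_singleton_iff.1 (h0.le hy).2
  calc g * y * g⁻¹ * (g * u * g⁻¹) = g * (y * u) * g⁻¹ := by group
    _ = g * u * g⁻¹ * (g * y * g⁻¹) := by rw [this]; group

theorem tc_of_sylow (U : Sylow 2 Y) {l : Y} (h2 : orderOf l = 2) (h : ∀ u ∈ U, u * l = l * u) : Tc l := by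
  refine ⟨h2, ?_⟩
  have hle : (U : Subgroup Y) ≤ centralizer {l} := fun u hu => mem_centralizer_singleton_iff.2 (h u hu)
  have := index_dvd_of_le hle
  rw [← Nat.not_even_iff_odd, even_iff_two_dvd]
  exact fun h' => U.not_dvd_index (h'.trans this)

theorem Tc.conj_mem {l : Y} (h : Tc l) (U : Sylow 2 Y) : ∃ g, g * l * g⁻¹ ∈ ZU (U : Subgroup Y) := by
  obtain ⟨g, -, hg⟩ := c2_conj_mem (A := ⊤) ⟨mem_top _, by rw [relIndex_top_right]; exact h.2⟩ (kt_e2 h.1)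
    (isSylowIn_top U)
  exact ⟨g, hg⟩

theorem Tc.isConj {a b : Y} (h : Tc a) (h' : IsConj a b) : Tc b := by
  obtain ⟨g, rfl⟩ := isConj_iff.1 h'
  exact (Tc.congr (MulAut.conj g)).2 h

theorem C2.conj_mem {A S : Subgroup Y} {u : Y} (h : C2 A u) (h2 : E2 u) (hS : IsSylowIn 2 S A) :
    ∃ g ∈ A, g * u * g⁻¹ ∈ ZU S := c2_conj_mem h h2 hS

theorem allTC_of_conj (h : ∀ a b : Y, orderOf a = 2 → orderOf b = 2 → IsConj a b) : AllTC Y := by
  intro a ha
  obtain ⟨U, hU⟩ := (isPGroup_zpowers_of (p := 2) (k := 1) (x := a)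
    (by rw [pow_one, ← ha, pow_orderOf_eq_one])).exists_le_sylow
  replace hU := hU (mem_zpowers a)
  have hne : (U : Subgroup Y) ≠ ⊥ := fun e => by
    rw [e, mem_bot] at hU; rw [hU, orderOf_one] at ha; omega
  have := inf_centralizer_ne_bot U.isPGroup' U.isPGroup' le_normalizer hne
  have h2 : IsPGroup 2 (ZU (U : Subgroup Y)) := U.isPGroup'.to_le inf_le_left
  obtain ⟨k, hk⟩ := h2.exists_card_eq
  have hk0 : k ≠ 0 := fun e => this (card_eq_one.1 (by rw [hk, e, pow_zero]))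
  obtain ⟨l, hl⟩ := exists_prime_orderOf_dvd_card' (G := ZU (U : Subgroup Y)) 2 (by rw [hk]; exact dvd_pow_self 2 hk0)
  rw [← orderOf_coe] at hl
  exact (tc_of_sylow U hl fun u hu => l.2.2 u hu).isConj (h _ _ hl ha)

theorem tc1_aux (U : Sylow 2 Y) (h : ∀ a ∈ ZU (U : Subgroup Y), ∀ b ∈ ZU (U : Subgroup Y), orderOf a = 2 →
    orderOf b = 2 → IsConj a b) : TC1 Y := by
  intro a b ha hb
  obtain ⟨g, hg⟩ := ha.conj_mem U
  obtain ⟨k, hk⟩ := hb.conj_mem U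
  have h1 : IsConj a (g * a * g⁻¹) := isConj_iff.2 ⟨g, rfl⟩
  have h2 : IsConj b (k * b * k⁻¹) := isConj_iff.2 ⟨k, rfl⟩
  exact h1.trans ((h _ hg _ hk (ha.isConj h1).1 (hb.isConj h2).1).trans h2.symm)

theorem UZ.tc1 (h : UZ Y) : TC1 Y := by
  obtain ⟨U, -, hU⟩ := h
  refine tc1_aux U fun a ha b hb h1 h2 => ?_
  rw [hU a ha.1 b hb.1 h1 h2 (fun u hu => ha.2 u hu) (fun u hu => hb.2 u hu)]

theorem tc1_of (U : Sylow 2 Y) (h : ∀ a ∈ ZU (U : Subgroup Y), ∀ b ∈ ZU (U : Subgroup Y), orderOf a = 2 →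
    orderOf b = 2 → IsConj a b) : TC1 Y := tc1_aux U h

theorem ZQ.g1 (h : ZQ Y) : G1 Y := by
  obtain ⟨U, hU⟩ := h
  exact ⟨U, fun α h1 h2 => hU.out α h1 fun u hu => by rw [h2 u hu, inv_mul_cancel]; exact one_mem _⟩

theorem inn_of_odd (h : Odd (Nat.card (Out Y))) {α : MulAut Y} (h2 : E2 α) : α ∈ Inn Y := by
  obtain ⟨k, hk⟩ := h2
  rw [← QuotientGroup.eq_one_iff, ← orderOf_eq_one_iff]
  have h1 : orderOf (α : Out Y) ∣ 2 ^ k := orderOf_dvd_of_pow_eq_one (by rw [← QuotientGroup.mk_pow, hk]; rfl)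
  exact Nat.eq_one_of_dvd_coprimes ((Nat.coprime_two_left.2 h).pow_left k) h1 (orderOf_dvd_natCard _)

theorem g1_of_odd (h : Odd (Nat.card (Out Y))) : G1 Y :=   ⟨default, fun _ h1 _ => inn_of_odd h h1⟩

theorem OCyc.oab (h : OCyc Y) : OAb Y := fun S hS =>
  haveI := h S hS
  ⟨⟨fun a b => (IsCyclic.commGroup (α := S)).mul_comm a b⟩⟩

theorem ocyc_of_cyclic (h : IsCyclic (Out Y)) : OCyc Y := fun S _ => Subgroup.isCyclic S

theorem outA_of (h : ¬ 4 ∣ Nat.card (Out Y)) : OutA Y := by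
  refine ⟨fun S hS => ?_, Or.inl h⟩
  obtain ⟨k, hk⟩ := hS.exists_card_eq
  have h1 : 2 ^ k ∣ Nat.card (Out Y) := hk ▸ card_subgroup_dvd_card S
  have h2 : k < 2 := by
    by_contra h3
    exact h ((pow_dvd_pow 2 (not_lt.1 h3)).trans h1)
  refine isCyclic_of_card_dvd_prime (p := 2) ?_
  rw [hk]; interval_cases k <;> norm_num

open scoped IsMulCommutative in
theorem inner_of_fix {M : Type*} [Group M] [Finite M] (hM : centralizer (pCore 2 M : Set M) ≤ pCore 2 M)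
    (S : Sylow 2 M) (β : M →* M) (h : ∀ u ∈ S, β u = u) : ∃ c ∈ S, ∀ m, β m = c * m * c⁻¹ := by
  let K : Subgroup M := centralizer (pCore 2 M : Set M)
  have hO : pCore 2 M ≤ S := pCore_le_sylow S
  haveI hN : (pCore 2 M).Normal := inferInstance
  haveI : K.Normal := inferInstance
  haveI : IsMulCommutative K := ⟨⟨fun a b => Subtype.ext (b.2 a (hM a.2))⟩⟩
  have hf : ∀ g, β g * g⁻¹ ∈ K := by
    intro g x hx
    have h1 := h _ (hO (hN.conj_mem' x hx g))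
    rw [map_mul, map_mul, map_inv, h x (hO hx)] at h1
    calc x * (β g * g⁻¹) = β g * ((β g)⁻¹ * x * β g) * g⁻¹ := by group
      _ = β g * g⁻¹ * x := by rw [h1]; group
  have hK : IsPGroup 2 K := isPGroup_pCore.to_le hM
  obtain ⟨k, hk⟩ := hK.exists_card_eq
  obtain ⟨c, hc⟩ := Coprime.exists_coboundary_of_index (ψ := (MulAut.conjNormal : M →* MulAut K))
    (U := (S : Subgroup M)) (f := fun g => ⟨β g * g⁻¹, hf g⟩)
    (fun x _ y _ => Subtype.ext (by simp [mul_assoc])) (fun u hu => Subtype.ext (by simp [h u hu]))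
    (by rw [hk]; exact (Nat.prime_two.coprime_iff_not_dvd.2 S.not_dvd_index).pow_left k)
  refine ⟨c, hO (hM c.2), fun m => ?_⟩
  have := congrArg Subtype.val (hc m)
  simp only [coe_mul, MulAut.conjNormal_apply] at this
  calc β m = β m * m⁻¹ * (m * c * m⁻¹) * m * (c : M)⁻¹ := by group
    _ = c * m * (c : M)⁻¹ := by rw [this]

theorem inner_on {H : Subgroup Y} (hH : IsCharP 2 H) (U : Sylow 2 Y) (hU : (U : Subgroup Y) ≤ H) (α : MulAut Y)
    (h : ∀ u ∈ U, α u = u) (h1 : ∀ x ∈ H, α x ∈ H) : ∃ c ∈ ZU (U : Subgroup Y), ∀ x ∈ H, α x = c * x * c⁻¹ := by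
  obtain ⟨c, hc, e⟩ := inner_of_fix (isCharP_iff.1 hH) (U.subtype hU)
    ((α.toMonoidHom.comp H.subtype).codRestrict H fun x => h1 x x.2) fun u hu => Subtype.ext (h u hu)
  have e' : ∀ x ∈ H, α x = c * x * (c : Y)⁻¹ := fun x hx => congrArg Subtype.val (e ⟨x, hx⟩)
  refine ⟨c, ⟨hc, fun u hu => ?_⟩, e'⟩
  have := e' u (hU hu)
  rw [h u hu] at this
  exact eq_mul_inv_iff_mul_eq.1 this

/-- `α` is inner on each `N(V)` by an element of `Z(U) = ⟨l⟩` -/
theorem g1_of_amalgam (U : Sylow 2 Y) {l : Y} (hl : l ∈ ZU (U : Subgroup Y))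
    (hZ : ∀ a ∈ ZU (U : Subgroup Y), a = 1 ∨ a = l) {V : Subgroup Y}
    (h1 : V ≤ U) (h2 : (U : Subgroup Y) ≤ normalizer (V : Set Y)) (h3 : IsCharP 2 (centralizer ({l} : Set Y)))
    (h4 : IsCharP 2 (normalizer (V : Set Y))) (h5 : centralizer {l} ⊔ normalizer (V : Set Y) = ⊤) : G1 Y := by
  refine ⟨U, fun α _ hα => ?_⟩
  have hU1 : (U : Subgroup Y) ≤ centralizer {l} := fun u hu => mem_centralizer_singleton_iff.2 (hl.2 u hu)
  obtain ⟨c, hc, e1⟩ := inner_on h3 U hU1 α hα fun x hx => by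
    rw [mem_centralizer_singleton_iff] at hx ⊢
    rw [← hα l hl.1, ← map_mul, hx, map_mul]
  obtain ⟨d, hd, e2⟩ := inner_on h4 U h2 α hα fun x hx => by
    refine mem_normalizer_of_conjS_le (conjS_le_iff_forall.2 fun v hv => ?_)
    have h6 := conj_mem_of_mem_normalizer hx hv
    rw [← hα v (h1 hv), ← map_inv, ← map_mul, ← map_mul, hα _ (h1 h6)]
    exact h6
  have key : ∀ e ∈ ZU (U : Subgroup Y), ∀ x ∈ centralizer ({l} : Set Y), e * x * e⁻¹ = x := by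
    intro e he x hx
    rcases hZ e he with rfl | rfl
    · simp
    · rw [← mem_centralizer_singleton_iff.1 hx]; simp
  refine ⟨d, MulEquiv.ext fun x => ?_⟩
  have : (⊤ : Subgroup Y) ≤ (MulAut.conj d).toMonoidHom.eqLocus α.toMonoidHom := by
    rw [← h5]
    refine sup_le (fun y hy => ?_) fun y hy => (e2 y hy).symm
    show d * y * d⁻¹ = α y
    rw [e1 y hy, key c hc y hy, key d hd y hy]
  exact this (mem_top x)

theorem h1_of_local (hc : center Y = ⊥) {φ : MulAut Y} (h2 : φ * φ = 1) (U : Sylow 2 Y) (hU : ∀ u ∈ U, φ u ∈ U)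
    (h : ∀ g ∈ U, g * φ g = 1 → ∃ u : Y, u⁻¹ * φ u = g) : H1 φ := by
  intro g hg
  have hφ : ∀ x, φ (φ x) = x := fun x => by rw [← MulAut.mul_apply, h2, MulAut.one_apply]
  have hψ : (MulAut.conj g * φ) ^ 2 ^ 1 = 1 := by
    ext x
    simp only [pow_one, sq, MulAut.mul_apply, MulAut.conj_apply, map_mul, map_inv, hφ, MulAut.one_apply]
    rw [eq_inv_of_mul_eq_one_right hg]; group
  obtain ⟨W, -, hW⟩ := inv_sylow_top (conj_injective_of hc) hψ (Q := ⊥) IsPGroup.of_bot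
    (fun x hx => by rw [mem_bot.1 hx, map_one]; exact one_mem _)
  obtain ⟨k, hk⟩ := MulAction.exists_smul_eq Y W U
  have hm : ∀ x, x ∈ U ↔ k⁻¹ * x * k ∈ W := fun x => by
    rw [← hk]
    show x ∈ conjS k (W : Subgroup Y) ↔ _
    exact mem_conjS
  set b := k * g * (φ k)⁻¹ with hb
  have hb1 : φ b = b⁻¹ := by
    rw [hb, map_mul, map_mul, map_inv, hφ, eq_inv_of_mul_eq_one_right hg]; group
  obtain ⟨-, m, hm'⟩ := exists_odd_pow_mem U (b := b) fun u hu => by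
    have := hW _ ((hm _).1 (hU u hu))
    rw [hm]
    simp only [MulAut.mul_apply, MulAut.conj_apply, map_mul, map_inv, hφ] at this
    convert this using 1
    rw [hb]; group
  obtain ⟨u, hu⟩ := h _ hm' (by rw [map_pow, hb1, inv_pow, mul_inv_cancel])
  refine ⟨u * b ^ m * k, ?_⟩
  rw [map_mul, map_mul, map_pow, hb1]
  calc (u * b ^ m * k)⁻¹ * (φ u * b⁻¹ ^ m * φ k) = k⁻¹ * ((b ^ m)⁻¹ * (u⁻¹ * φ u) * (b ^ m)⁻¹) * φ k := by
        rw [inv_pow]; group
    _ = k⁻¹ * b * φ k := by rw [hu]; group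
    _ = g := by rw [hb]; group

theorem H1.twist (hc : center Y = ⊥) {φ ψ : MulAut Y} (h : H1 φ) (h2 : φ * φ = 1) (h3 : ψ * ψ = 1)
    (h4 : ψ * φ ∈ Inn Y) : H1 ψ := by
  have hφ : ∀ x, φ (φ x) = x := fun x => by rw [← MulAut.mul_apply, h2, MulAut.one_apply]
  obtain ⟨y, hy⟩ := h4
  have e : ∀ x, ψ x = y * φ x * y⁻¹ := fun x => by
    have := congrArg (fun α : MulAut Y => α (φ x)) hy
    simpa only [MulAut.mul_apply, MulAut.conj_apply, hφ] using this.symm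
  have hy1 : y * φ y = 1 := by
    rw [← mem_bot, ← hc, mem_center_iff]
    intro x
    have : ψ (ψ x) = x := by rw [← MulAut.mul_apply, h3, MulAut.one_apply]
    rw [e, e, map_mul, map_mul, map_inv, hφ] at this
    calc x * (y * φ y) = y * (φ y * x * (φ y)⁻¹) * y⁻¹ * (y * φ y) := by rw [this]
      _ = y * φ y * x := by group
  obtain ⟨u, hu⟩ := h y hy1
  intro g hg
  obtain ⟨w, hw⟩ := h (g * y) (by
    rw [map_mul, eq_inv_of_mul_eq_one_right hy1, ← hg, e]; group)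
  refine ⟨u⁻¹ * w, ?_⟩
  rw [e, map_mul, map_inv]
  calc (u⁻¹ * w)⁻¹ * (y * ((φ u)⁻¹ * φ w) * y⁻¹) = w⁻¹ * u * y * (φ u)⁻¹ * φ w * y⁻¹ := by group
    _ = w⁻¹ * φ w * y⁻¹ := by rw [← hu]; group
    _ = g := by rw [hw]; group

theorem pp_aux {p : ℕ} (hp : p.Prime) (h2 : p ≠ 2) (S : Subgroup (MulAut Y)) (h1 : S ⊓ Inn Y = ⊥)
    (h3 : ∀ φ : MulAut Y, φ ^ p = 1 → ∃ y : Y, MulAut.conj y * φ ∈ S) (E : Subgroup Y)
    (h4 : ∀ σ ∈ S, ∀ e ∈ E, σ e = e) (hr : ¬ PRankLE p 1 E) : PP Y p := by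
  refine ⟨hp, h2, fun φ hφ => ?_⟩
  obtain ⟨y, hy⟩ := h3 φ hφ
  refine ⟨y, ?_, fun h => hr (SylTools.pRankLE_mono (fun e he => h4 _ hy e he) h)⟩
  rw [← mem_bot, ← h1]
  refine ⟨pow_mem hy p, ?_⟩
  have : ((MulAut.conj y : MulAut Y) : Out Y) = 1 := (QuotientGroup.eq_one_iff _).2 ⟨y, rfl⟩
  show _ ∈ Inn Y
  rw [← QuotientGroup.eq_one_iff, QuotientGroup.mk_pow, QuotientGroup.mk_mul, this, one_mul,
    ← QuotientGroup.mk_pow, hφ]
  rfl

theorem pp_of_out {p : ℕ} (hp : p.Prime) (h2 : p ≠ 2) (h : ¬ p ∣ Nat.card (Out Y)) (hr : ¬ PRankLE p 1 Y) :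
    PP Y p := by
  refine pp_aux hp h2 ⊥ (bot_inf_eq _) (fun φ hφ => ?_) ⊤ (fun σ hσ e _ => by rw [mem_bot.1 hσ]; rfl)
    fun h' => hr fun A hA hA' => ?_
  · have h1 : orderOf (φ : Out Y) ∣ p := orderOf_dvd_of_pow_eq_one (by rw [← QuotientGroup.mk_pow, hφ]; rfl)
    have h3 := Nat.eq_one_of_dvd_coprimes (hp.coprime_iff_not_dvd.2 h) h1 (orderOf_dvd_natCard _)
    rw [orderOf_eq_one_iff, QuotientGroup.eq_one_iff] at h3
    obtain ⟨x, rfl⟩ := h3
    exact ⟨x⁻¹, by rw [← map_mul, inv_mul_cancel, map_one]; exact one_mem _⟩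
  · have := h' (A.subgroupOf ⊤) inferInstance fun a ha => Subtype.ext (hA' a ha)
    rwa [Nat.card_congr (subgroupOfEquivOfLe le_top).toEquiv] at this

theorem pp_of_compl {p : ℕ} (hp : p.Prime) (h2 : p ≠ 2) (S : Subgroup (MulAut Y)) (h1 : S ⊓ Inn Y = ⊥)
    (h3 : ∀ φ : MulAut Y, φ ^ p = 1 → ∃ y : Y, MulAut.conj y * φ ∈ S) (E : Subgroup Y)
    (h4 : ∀ σ ∈ S, ∀ e ∈ E, σ e = e) (hr : ¬ PRankLE p 1 E) : PP Y p := pp_aux hp h2 S h1 h3 E h4 hr

theorem not_rank_of {p : ℕ} (hp : p.Prime) {a b : Y} (ha : orderOf a = p) (hb : orderOf b = p) (h : a * b = b * a)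
    (h' : b ∉ zpowers a) {E : Subgroup Y} (h1 : a ∈ E) (h2 : b ∈ E) : ¬ PRankLE p 1 E := by
  intro hr
  let a' : E := ⟨a, h1⟩
  let b' : E := ⟨b, h2⟩
  have hc : ∀ x ∈ ({a', b'} : Set E), ∀ y ∈ ({a', b'} : Set E), x * y = y * x := by
    rintro x (rfl | rfl) y (rfl | rfl)
    exacts [rfl, Subtype.ext h, Subtype.ext h.symm, rfl]
  have hcm : IsMulCommutative (closure ({a', b'} : Set E)) := isMulCommutative_closure hc
  have ha' : orderOf a' = p := by rw [← orderOf_coe]; exact ha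
  have hb' : orderOf b' = p := by rw [← orderOf_coe]; exact hb
  have h3 := hr _ hcm fun x hx => by
    induction hx using closure_induction with
    | mem x hx => rcases hx with rfl | rfl; exacts [ha' ▸ pow_orderOf_eq_one _, hb' ▸ pow_orderOf_eq_one _]
    | one => exact one_pow p
    | mul x y hx hy e1 e2 =>
      have : Commute x y := congrArg Subtype.val (hcm.is_comm.comm ⟨x, hx⟩ ⟨y, hy⟩)
      rw [this.mul_pow, e1, e2, one_mul]
    | inv x _ e => rw [inv_pow, e, inv_one]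
  have h4 : zpowers a' = closure {a', b'} :=
    eq_of_le_of_card_ge (zpowers_le.2 (subset_closure (Or.inl rfl))) (by rwa [Nat.card_zpowers, ha', ← pow_one p])
  have h5 : b' ∈ zpowers a' := h4 ▸ subset_closure (Or.inr rfl)
  obtain ⟨k, hk⟩ := h5
  exact h' ⟨k, congrArg Subtype.val hk⟩

theorem comm_mem_XP {p : ℕ} {A : Subgroup Y} {a w : Y} (ha : a ∈ A) (hp : orderOf a = p) (hw : w ∈ A) :
    ⁅w, a⁆ ∈ XP p A := by
  have h1 : a ∈ XP p A := subset_closure ⟨ha, hp⟩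
  have h2 : w * a * w⁻¹ ∈ XP p A := subset_closure ⟨mul_mem (mul_mem hw ha) (inv_mem hw), by
    rw [← hp]; exact (MulAut.conj w).orderOf_eq a⟩
  exact mul_mem h2 (inv_mem h1)

theorem c2_map (e : MulAut Y) {a u : Y} : C2 (centralizer {e a}) (e u) ↔ C2 (centralizer {a}) u := by
  rw [C2, C2, ← cent_congr, ← cent_congr, relIndex_map_map_of_injective _ _ e.injective]
  exact and_congr_left' (mem_map_iff_mem e.injective)

theorem xp_map (e : MulAut Y) {p : ℕ} {a u : Y} :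
    e u ∈ XP p (centralizer ({e a} : Set Y)) ↔ u ∈ XP p (centralizer ({a} : Set Y)) := by
  rw [← cent_congr, ← map_XP]
  exact mem_map_iff_mem e.injective

theorem cxp_map (e : MulAut Y) {p : ℕ} {a c : Y} (h : e c ∈ centralizer (XP p (centralizer ({e a} : Set Y)) : Set Y)) :
    c ∈ centralizer (XP p (centralizer ({a} : Set Y)) : Set Y) := fun x hx =>
  e.injective (by rw [map_mul, map_mul]; exact h _ ((xp_map e).2 hx))

theorem e2_map (e : MulAut Y) {c : Y} (h : E2 (e c)) : E2 c := by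
  obtain ⟨k, hk⟩ := h
  exact ⟨k, e.injective (by rw [map_pow, hk, map_one])⟩

theorem KNC.isConj {a b : Y} (h : KNC a) (h' : IsConj a b) : KNC b := by
  obtain ⟨g, rfl⟩ := isConj_iff.1 h'
  obtain ⟨p, hp, h⟩ := h
  let e : MulAut Y := MulAut.conj g
  show KNC (e a)
  refine ⟨p, hp, fun u hu hc => ?_⟩
  obtain ⟨u, rfl⟩ := e.surjective u
  obtain ⟨h1, h2⟩ := h u ((Tc.congr e).1 hu) ((c2_map e).1 hc)
  refine ⟨(xp_map e).2 h1, fun α x hx hα => ?_⟩
  let ι : XP p (centralizer ({a} : Set Y)) ≃* XP p (centralizer ({e a} : Set Y)) :=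
    (e.subgroupMap _).trans (MulEquiv.subgroupCongr (by rw [← cent_congr, ← map_XP]; rfl))
  have hι : ∀ y, (ι y : Y) = e y := fun _ => rfl
  obtain ⟨x, rfl⟩ := ι.surjective x
  obtain ⟨y, hy⟩ := ι.surjective (α (ι x))
  have h3 : (ι.trans (α.trans ι.symm)) x = y := by simp [← hy]
  have h4 := h2 (ι.trans (α.trans ι.symm)) x (e.injective hx)
  rw [h3] at h4
  rw [← hy, hι] at hα ⊢
  rw [← map_mul]
  exact e.toMonoidHom.map_isConj (h4 ((c2_map e).1 hα))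

theorem KNE.isConj {a b : Y} (h : KNE a) (h' : IsConj a b) : KNE b := by
  obtain ⟨g, rfl⟩ := isConj_iff.1 h'
  obtain ⟨h0, p, hp, h⟩ := h
  let e : MulAut Y := MulAut.conj g
  show KNE (e a)
  refine ⟨h0, p, hp, fun c hc h2 => ?_⟩
  obtain ⟨c, rfl⟩ := e.surjective c
  rw [← map_mul, h c (cxp_map e hc) (e2_map e h2), map_one]

theorem KNE2.isConj {a b : Y} (h : KNE2 a) (h' : IsConj a b) : KNE2 b := by
  obtain ⟨g, rfl⟩ := isConj_iff.1 h'
  obtain ⟨h0, p, hp, h⟩ := h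
  let e : MulAut Y := MulAut.conj g
  show KNE2 (e a)
  refine ⟨h0, p, hp, fun c hc => ?_⟩
  obtain ⟨c, rfl⟩ := e.surjective c
  obtain ⟨h1, h2⟩ := h c (cxp_map e hc)
  refine ⟨fun h3 => ?_, fun h3 h4 => ?_⟩
  · rw [← map_mul, h1 (e2_map e h3), map_one]
  · rw [h2 (by rwa [e.orderOf_eq] at h3) ((c2_map e).1 h4)]

theorem fpf_inj {H : Type*} [Group H] {V : Subgroup H} {a : H} (hf : ∀ w ∈ V, a * w = w * a → w = 1) {w w' : H}
    (hw : w ∈ V) (hw' : w' ∈ V) (h : ⁅w, a⁆ = ⁅w', a⁆) : w = w' := by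
  rw [commutatorElement_def, commutatorElement_def, mul_left_inj] at h
  have := hf _ (mul_mem (inv_mem hw') hw) (by
    calc a * (w'⁻¹ * w) = w'⁻¹ * (w' * a * w'⁻¹) * w := by group
      _ = w'⁻¹ * w * a := by rw [← h]; group)
  exact (inv_mul_eq_one.1 this).symm

theorem comm_mem_of {H : Type*} [Group H] {V : Subgroup H} {a : H} (ha : ∀ w ∈ V, a * w * a⁻¹ ∈ V) {w : H}
    (hw : w ∈ V) : ⁅w, a⁆ ∈ V := by
  have := mul_mem hw (ha _ (inv_mem hw))
  rwa [← mul_assoc, ← mul_assoc] at this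

theorem comm_mem_normal {H : Type*} [Group H] {V : Subgroup H} (hV : V.Normal) {w : H} (hw : w ∈ V) (a : H) :
    ⁅w, a⁆ ∈ V := comm_mem_of (fun x hx => hV.conj_mem x hx a) hw

theorem fpf_surj {H : Type*} [Group H] [Finite H] {V : Subgroup H} {a : H} (ha : ∀ w ∈ V, a * w * a⁻¹ ∈ V)
    (hf : ∀ w ∈ V, a * w = w * a → w = 1) : ∀ u ∈ V, ∃ w ∈ V, ⁅w, a⁆ = u := by
  intro u hu
  have : Function.Injective fun w : V => (⟨⁅(w : H), a⁆, comm_mem_of ha w.2⟩ : V) := fun w w' e =>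
    Subtype.ext (fpf_inj hf w.2 w'.2 (congrArg Subtype.val e))
  obtain ⟨w, hw⟩ := Finite.surjective_of_injective this ⟨u, hu⟩
  exact ⟨w, w.2, congrArg Subtype.val hw⟩

theorem NCW.knc {l : Y} (h : NCW l) (h2 : TwoC Y) (h3 : orderOf l = 2) (h4 : ¬ Tc l) : KNC l := by
  obtain ⟨p, hp, W, a, hW, hn, he, hal, hap, hf, hl, hu⟩ := h
  have haC : a ∈ centralizer ({l} : Set Y) := mem_centralizer_singleton_iff.2 hal
  have hWX : W ≤ XP p (centralizer {l}) := fun u hu => by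
    obtain ⟨w, hw, rfl⟩ := fpf_surj (fun w hw => conj_mem_of_mem_normalizer (hn haC) hw) hf u hu
    exact comm_mem_XP haC hap (hW hw)
  have hXC : XP p (centralizer ({l} : Set Y)) ≤ centralizer {l} := (closure_le _).2 fun x hx => hx.1
  refine ⟨p, hp, fun u h5 h6 => ⟨hWX (hu u h5 h6), fun α x hx hα => ?_⟩⟩
  have hll : l * l = 1 := (kt_o2.1 h3).1
  have hv2 : orderOf (α x : Y) = 2 := by rw [orderOf_coe, α.orderOf_eq, ← orderOf_coe, hx]; exact h5.1
  have hvl := mem_centralizer_singleton_iff.1 hα.1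
  by_contra hcon
  have h7 : l * α x ∈ W := by
    by_cases h1 : l * α x = 1
    · rw [h1]; exact one_mem _
    have h8 : orderOf (l * α x) = 2 := kt_o2.2 ⟨by
      calc l * α x * (l * α x) = l * (α x * l) * α x := by group
        _ = l * l * (α x * α x) := by rw [hvl]; group
        _ = 1 := by rw [hll, (kt_o2.1 hv2).1, one_mul], h1⟩
    by_cases h9 : Tc (l * α x)
    · refine hu _ h9 ⟨mul_mem (mem_centralizer_singleton_iff.2 rfl) hα.1, ?_⟩
      have := hα.2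
      rw [← inf_relIndex_right] at this ⊢
      convert this using 2
      ext y
      simp only [mem_inf, mem_centralizer_singleton_iff]
      refine and_congr_left fun hy => ?_
      rw [← mul_assoc, hy, mul_assoc, mul_assoc, mul_right_inj]
    · exact absurd (h2 _ _ h3 h8 h4 h9) hcon
  -- inside `X`
  let X := XP p (centralizer ({l} : Set Y))
  have hlX : l ∈ X := by
    have := mul_mem (hWX h7) (inv_mem (α x).2)
    rwa [mul_inv_cancel_right] at this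
  let a' : X := ⟨a, subset_closure ⟨haC, hap⟩⟩
  let l' : X := ⟨l, hlX⟩
  let W1 : Subgroup X := W.subgroupOf X
  haveI hN : W1.Normal := normal_subgroupOf_of_le (hXC.trans hn)
  let W2 : Subgroup X := W1.map α.toMonoidHom
  have hN2 : W2.Normal := hN.map _ α.surjective
  have hx1 : x ∈ W1 := by show (x : Y) ∈ W; rw [hx]; exact hu u h5 h6
  have hv : α x ∈ W2 := ⟨x, hx1, rfl⟩
  have hl' : ∀ y : X, y * l' = l' * y := fun y => Subtype.ext (mem_centralizer_singleton_iff.1 (hXC y.2))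
  have hf' : ∀ w ∈ W1, a' * w = w * a' → w = 1 := fun w hw e => Subtype.ext (hf w hw (congrArg Subtype.val e))
  have h8 : l' * α x ∈ W1 := h7
  have h9 : ⁅l' * α x, a'⁆ = ⁅α x, a'⁆ := by
    rw [commutatorElement_def, commutatorElement_def, ← hl' (α x), mul_assoc (α x) l', ← hl' a']; group
  obtain ⟨w, hw, e⟩ := fpf_surj (V := W1 ⊓ W2) (a := a') (fun w hw => ⟨hN.conj_mem w hw.1 _, hN2.conj_mem w hw.2 _⟩)
    (fun w hw => hf' w hw.1) ⁅l' * α x, a'⁆ ⟨comm_mem_normal hN h8 _, h9 ▸ comm_mem_normal hN2 hv _⟩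
  have h10 := fpf_inj hf' hw.1 h8 e
  have h11 : l' ∈ W2 := by
    have := mul_mem (h10 ▸ hw.2) (inv_mem hv)
    rwa [mul_inv_cancel_right] at this
  obtain ⟨y, hy, e'⟩ := h11
  have h12 := hf' y hy (α.injective (by
    have e'' : α y = l' := e'
    rw [map_mul, map_mul, e'', hl']))
  rw [h12, map_one] at e'
  exact (kt_o2.1 h3).2 (congrArg Subtype.val e').symm

theorem knc_of {l : Y} {p : ℕ} (hp : PP Y p) (h1 : ∀ u, Tc u → C2 (centralizer {l}) u → u ∈ XP p (centralizer {l}))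
    (h2 : ∀ x ∈ XP p (centralizer ({l} : Set Y)), orderOf x = 2 → C2 (centralizer {l}) x → IsConj l (l * x)) :
    KNC l :=   ⟨p, hp, fun u h3 h4 => ⟨h1 u h3 h4, fun α x hx hα => h2 _ (α x).2
    (by rw [orderOf_coe, α.orderOf_eq, ← orderOf_coe, hx]; exact h3.1) hα⟩⟩

theorem knc_of_sq {l : Y} {p : ℕ} (hp : PP Y p)
    (h1 : ∀ u, Tc u → C2 (centralizer {l}) u → ∃ x ∈ XP p (centralizer {l}), u = x * x)
    (h2 : ∀ x ∈ XP p (centralizer ({l} : Set Y)), orderOf (x * x) = 2 → C2 (centralizer {l}) (x * x) →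
      IsConj l (l * (x * x))) : KNC l := by
  refine ⟨p, hp, fun u h3 h4 => ?_⟩
  obtain ⟨y, hy, rfl⟩ := h1 u h3 h4
  refine ⟨mul_mem hy hy, fun α x hx hα => ?_⟩
  have h5 : orderOf (α x : Y) = 2 := by rw [orderOf_coe, α.orderOf_eq, ← orderOf_coe, hx]; exact h3.1
  have h6 : x = ⟨y, hy⟩ * ⟨y, hy⟩ := Subtype.ext hx
  rw [h6, map_mul, coe_mul] at h5 hα ⊢
  exact h2 _ (α _).2 h5 hα

/-- one class of involutions, centre of order two -/
theorem kg_of_uz {a b c : Prop} (h1 : ∀ a b : Y, orderOf a = 2 → orderOf b = 2 → IsConj a b) (h2 : UZ Y) (h3 : G1 Y)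
    (h4 : ¬ 4 ∣ Nat.card (Out Y)) : KG Y a b c :=   ⟨h3, h2.tc1, (outA_of h4).1.oab, Or.inl (outA_of h4), fun l h5 h6 => absurd (allTC_of_conj h1 l h5) h6, Or.inl h2⟩


end CfsgLib.QT4
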