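import Mathlib
import Cfsg.Agent.S1754
import Cfsg.Agent.Lib.QT4.Defs
import Cfsg.Agent.Lib.QT3.MainA
import Cfsg.Agent.Lib.QT3.NC
import Cfsg.Agent.Lib.StdR2.Gen

/-!
Basic facts on pairs.
-/

set_option autoImplicit false
set_option linter.unusedSectionVars false

namespace CfsgLib.QT4

open Cfsg Subgroup CfsgLib.LBal CfsgLib.LAE CfsgLib.QT2 CfsgLib.QT3
open scoped MatrixGroups commutatorElement

variable {G : Type*} [Group G] [Finite G] {T : Sylow 2 G} {z : G} {L M P : Subgroup G}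

theorem Cj.refl (L : Subgroup G) : Cj L L := ⟨1, conjS_one L⟩

theorem Cj.symm (h : Cj L M) : Cj M L := let ⟨g, e⟩ := h; ⟨g⁻¹, St.cj_eq_inv e⟩

theorem Cj.trans {N : Subgroup G} (h : Cj L M) (h' : Cj M N) : Cj L N :=
  let ⟨g, e⟩ := h; let ⟨g', e'⟩ := h'; ⟨g' * g, by rw [St.cj_mul, e, e']⟩

theorem Cj.cj (h : Cj L M) (g : G) : Cj L (cj g M) := h.trans ⟨g, rfl⟩

theorem Al.self {Q : Subgroup G → Prop} (h : Al Q L) : Q L := h L (.refl L)

theorem Al.cj {Q : Subgroup G → Prop} (h : Al Q L) (h' : Cj L M) : Al Q M := fun N k => h N (h'.trans k)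

theorem Al.mono {Q Q' : Subgroup G → Prop} (h : Al Q L) (h' : ∀ M, Q M → Q' M) : Al Q' L :=
  fun N k => h' N (h N k)

theorem Cj.equiv (h : Cj L M) : Nonempty (L ≃* M) := let ⟨g, e⟩ := h; e ▸ ⟨conjSEquiv g L⟩

theorem Cj.center (h : Cj L M) (h0 : center L = ⊥) : center M = ⊥ := by
  obtain ⟨g, rfl⟩ := h
  refine St.center_bot.2 fun x hx h1 => ?_
  rw [← St.cj_cent, St.mem_cj] at h1
  rw [show x = g * (g⁻¹ * x * g) * g⁻¹ by group, St.center_bot.1 h0 _ (St.mem_cj.1 hx) h1, mul_one, mul_inv_cancel]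

theorem cj_cen (g : G) (L : Subgroup G) : cj g (cen L) = cen (cj g L) := St.cj_cent g L

theorem cj_nor (g : G) (L : Subgroup G) : cj g (nor L) = nor (cj g L) := St.cj_norm g L

theorem cj_inf (g : G) (A B : Subgroup G) : cj g (A ⊓ B) = cj g A ⊓ cj g B := conjS_inf g A B

theorem KT.conj {y : G} (h : KT L y) (g : G) : KT L (g * y * g⁻¹) :=
  let ⟨M, h1, h2⟩ := h; ⟨_, h1.cj g, cj_cen g M ▸ St.conj_mem_cj.2 h2⟩

theorem KT.isConj {y y' : G} (h : KT L y) (h' : IsConj y y') : KT L y' :=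
  let ⟨g, e⟩ := isConj_iff.1 h'; e ▸ h.conj g

theorem XT.cj {p : ℕ} (h : XT L p) (h' : Cj L M) : XT M p := by
  obtain ⟨g, rfl⟩ := h'
  intro k hk k2 x hx e
  rw [← cj_cen, St.mem_cj] at hk
  have o : ∀ a : G, orderOf (g⁻¹ * a * g) = orderOf a := fun a => by simpa using Tech.orderOf_conj_eq g⁻¹ a
  exact St.mem_cj.2 (h _ hk ((o k).trans k2) _ ((o x).trans hx) (by
    rw [show g⁻¹ * x * g * (g⁻¹ * k * g) = g⁻¹ * (x * k) * g by group, e]; group))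

theorem XP_le (p : ℕ) (A : Subgroup G) : XP p A ≤ A := (closure_le _).2 fun _ h => h.1

theorem XP_mono (p : ℕ) {A B : Subgroup G} (h : A ≤ B) : XP p A ≤ XP p B :=
  closure_mono fun _ k => ⟨h k.1, k.2⟩

theorem mem_XP {p : ℕ} {A : Subgroup G} {x : G} (h : x ∈ A) (h' : orderOf x = p) : x ∈ XP p A :=
  subset_closure ⟨h, h'⟩

theorem cj_XP (p : ℕ) (g : G) (A : Subgroup G) : cj g (XP p A) = XP p (cj g A) := by
  rw [XP, cj, MonoidHom.map_closure]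
  congr 1
  ext x
  constructor
  · rintro ⟨y, ⟨h1, h2⟩, rfl⟩
    exact ⟨mem_map_of_mem _ h1, (Tech.orderOf_conj_eq g y).trans h2⟩
  · rintro ⟨⟨y, h1, rfl⟩, h2⟩
    exact ⟨y, ⟨h1, (Tech.orderOf_conj_eq g y).symm.trans h2⟩, rfl⟩

theorem nor_XP (p : ℕ) (A : Subgroup G) : nor A ≤ nor (XP p A) := fun g h =>
  St.norm_iff.2 (by rw [cj_XP, St.norm_iff.1 h])

theorem mem_LK {r : G} : r ∈ LK L ↔ ∃ l ∈ L, ∃ c ∈ cen L, r = l * c := by
  rw [St.mem_sup (le_centralizer_iff.1 le_rfl)]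
  exact ⟨fun ⟨a, h1, b, h2, e⟩ => ⟨a, h1, b, h2, e.symm⟩, fun ⟨a, h1, b, h2, e⟩ => ⟨a, h1, b, h2, e.symm⟩⟩

theorem nor_LK : nor L ≤ nor (LK L) := fun _ h => St.norm_sup h (St.norm_cent h)

theorem LK_le : LK L ≤ nor L := sup_le le_normalizer (centralizer_le_normalizer _)

theorem cj_LK (g : G) (L : Subgroup G) : cj g (LK L) = LK (cj g L) := by rw [St.cj_sup, St.cj_cent]

theorem odd_of_le {A U H : Subgroup G} (hU : IsSylowIn 2 U A) (h : U ≤ H) : Odd (H.relIndex A) :=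
  Nat.not_even_iff_odd.1 fun e => hU.not_dvd_relIndex ((even_iff_two_dvd.1 e).trans (relIndex_dvd_of_le_left A h))

theorem tc_of_le {U : Subgroup G} {l : G} (hU : IsSylowIn 2 U L) (hl : l ∈ L) (h2 : orderOf l = 2)
    (h : U ≤ centralizer {l}) : TC L l := ⟨hl, h2, odd_of_le hU h⟩

theorem sylow_of_odd {A U H : Subgroup G} (h : Odd (H.relIndex A)) (hU : IsSylowIn 2 U (A ⊓ H)) :
    IsSylowIn 2 U A := by
  refine isSylowIn_of_not_dvd_relIndex (hU.le.trans inf_le_left) hU.isPGroup fun e => ?_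
  rw [← relIndex_mul_relIndex U (A ⊓ H) A hU.le inf_le_left, inf_comm, inf_relIndex_right] at e
  exact (Nat.prime_two.dvd_mul.1 e).elim (inf_comm A H ▸ hU.not_dvd_relIndex) h.not_two_dvd_nat

/-- a Sylow subgroup of `C_L(l)` is one of `L` -/
theorem TC.sylow {l : G} (h : TC L l) {U : Subgroup G} (hU : IsSylowIn 2 U (L ⊓ centralizer {l})) :
    IsSylowIn 2 U L := sylow_of_odd h.2.2 hU

theorem TC.exists_sylow {l : G} (h : TC L l) : ∃ U, IsSylowIn 2 U L ∧ U ≤ centralizer {l} :=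
  let ⟨U, k⟩ := exists_isSylowIn 2 (L ⊓ centralizer {l}); ⟨U, TC.sylow h k, k.le.trans inf_le_right⟩

theorem TC.conj {l : G} (h : TC L l) (g : G) : TC (cj g L) (g * l * g⁻¹) :=
  ⟨St.conj_mem_cj.2 h.1, (Tech.orderOf_conj_eq g l).trans h.2.1, by
    rw [← St.cj_cent1]; exact (relIndex_conjS g _ L).symm ▸ h.2.2⟩

theorem c2_of_le {A U : Subgroup G} {u : G} (hU : IsSylowIn 2 U A) (hu : u ∈ A) (h : U ≤ centralizer {u}) :
    C2 A u := ⟨hu, odd_of_le hU h⟩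

theorem aOAb_of_aOCyc (h : aOCyc L) : aOAb L := fun S hS h2 a ha b hb => by
  obtain ⟨s, hs, k⟩ := h S hS h2
  have n : zpowers s ≤ nor (LK L) := zpowers_le.2 (nor_LK (hS hs))
  obtain ⟨u, hu, _, ⟨i, rfl⟩, rfl⟩ := (mem_sup_iff_of_right_le_normalizer n).1 (k ha)
  obtain ⟨v, hv, _, ⟨j, rfl⟩, rfl⟩ := (mem_sup_iff_of_right_le_normalizer n).1 (k hb)
  have e : ⁅u * s ^ i, v * s ^ j⁆ = u * (s ^ i * v * (s ^ i)⁻¹) * (s ^ j * u⁻¹ * (s ^ j)⁻¹) * v⁻¹ := by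
    simp only [commutatorElement_def]; group
  rw [e]
  exact mul_mem (mul_mem (mul_mem hu (St.conj_mem (n (zpow_mem (mem_zpowers s) i)) hv))
    (St.conj_mem (n (zpow_mem (mem_zpowers s) j)) (inv_mem hu))) (inv_mem hv)

theorem ncard_image {X : Type*} (f : G → X) (H N : Subgroup G) (hf : ∀ a b, f a = f b ↔ a⁻¹ * b ∈ H) :
    {x | ∃ n ∈ N, f n = x}.ncard = H.relIndex N := by
  rw [← Nat.card_coe_set_eq, relIndex, index]
  refine (Nat.card_congr (Equiv.ofBijective (fun q : N ⧸ H.subgroupOf N => q.liftOn'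
    (fun n => (⟨f n, n, n.2, rfl⟩ : {x | ∃ n ∈ N, f n = x})) fun a b e =>
      Subtype.ext ((hf _ _).2 (QuotientGroup.leftRel_apply.1 e :))) ⟨?_, ?_⟩)).symm
  · rintro ⟨a⟩ ⟨b⟩ e
    exact QuotientGroup.eq.2 ((hf _ _).1 (congrArg Subtype.val e))
  · rintro ⟨_, n, hn, rfl⟩
    exact ⟨QuotientGroup.mk ⟨n, hn⟩, rfl⟩

theorem ncard_orbit (N L : Subgroup G) : {M | ∃ n ∈ N, cj n L = M}.ncard = (nor L).relIndex N :=
  ncard_image (fun n => cj n L) _ _ fun a b => by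
    rw [St.norm_iff, St.cj_mul]
    exact ⟨fun e => St.cj_eq_inv e, fun e => by rw [← e, St.cj_cj_inv, e]⟩

theorem ncard_orbit' (N : Subgroup G) (y : G) :
    {x | ∃ n ∈ N, n * y * n⁻¹ = x}.ncard = (centralizer {y}).relIndex N :=
  ncard_image (fun n => n * y * n⁻¹) _ _ fun a b => by
    rw [St.mc1]
    exact ⟨fun e => by rw [show a⁻¹ * b * y = a⁻¹ * (b * y * b⁻¹) * b by group, ← e]; group,
      fun e => by rw [show b * y * b⁻¹ = a * (a⁻¹ * b * y) * b⁻¹ by group, e]; group⟩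

/-- orbits of overgroups of `T` -/
theorem odd_orbit {N : Subgroup G} (hN : (T : Subgroup G) ≤ N) (hL : (T : Subgroup G) ≤ nor L) :
    Odd {M | ∃ n ∈ N, cj n L = M}.ncard := ncard_orbit N L ▸ odd_of_le (isSylowIn_of_le T hN) hL

theorem odd_orbit' {N : Subgroup G} (hN : (T : Subgroup G) ≤ N) {y : G} (hy : (T : Subgroup G) ≤ centralizer {y}) :
    Odd {x | ∃ n ∈ N, n * y * n⁻¹ = x}.ncard := ncard_orbit' N y ▸ odd_of_le (isSylowIn_of_le T hN) hy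

theorem coe_smul (g : G) (T : Sylow 2 G) : ((g • T : Sylow 2 G) : Subgroup G) = cj g T := rfl

theorem smul_eq {n : G} (h : n ∈ nor (T : Subgroup G)) : n • T = T := Sylow.ext (St.norm_iff.1 h)

theorem std_cj (h : IsStandardSubgroup L) (g : G) : IsStandardSubgroup (cj g L) := by
  have e : ∀ (x : G) (K : Subgroup G), cj x (cj g K) = cj g (cj (g⁻¹ * x * g) K) := fun x K => by
    rw [← St.cj_mul, ← St.cj_mul]; congr 1; group
  refine ⟨St.qs_cj h.1 g, ⟨?_, fun x hx => ?_⟩, fun x hx k => ?_, ?_⟩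
  · rw [← St.cj_cent, St.card_cj]; exact h.2.1.1
  · rw [← St.cj_cent, ← St.cj_norm, St.mem_cj] at hx
    rw [← St.cj_cent, ← cj, e]
    have := h.2.1.2 _ hx
    rwa [← St.card_cj g, cj_inf] at this
  · rw [← cj, e] at hx k
    refine h.2.2.1 (g⁻¹ * x * g) (fun m => hx (congrArg (cj g) m)) (conjS_eq_bot_iff (g := g).1 ?_)
    rw [conjS_commutator]
    exact k
  · rw [← St.cj_cent, ← St.cj_norm, ← St.cj_norm, h.2.2.2]

theorem Cj.std (h : Cj L M) (h' : IsStandardSubgroup L) : IsStandardSubgroup M :=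
  let ⟨g, e⟩ := h; e ▸ std_cj h' g

theorem e2_of_mem {S : Subgroup G} (hS : IsPGroup 2 S) {x : G} (h : x ∈ S) : E2 x := isPGroup_iff_forall_mem.1 hS x h

theorem e2_of_two {x : G} (h : orderOf x = 2) : E2 x := ⟨1, by rw [pow_one, ← h, pow_orderOf_eq_one]⟩

theorem mem_of_cent {y : G} (h1 : E2 y) (h2 : (T : Subgroup G) ≤ centralizer {y}) : y ∈ (T : Subgroup G) :=
  (isSylowIn_top T).le_of_normalizes (isPGroup_zpowers h1) le_top (zpowers_le.2 (St.cn (St.le_c1.1 h2)))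
    (mem_zpowers y)

namespace Sd

variable (h : Sd T z L)
include h

theorem conj (g : G) : Sd (g • T) (g * z * g⁻¹) (cj g L) :=
  ⟨h.toSu.conj g, h.simple, h.ncomm, std_cj h.std g⟩

/-- change of the involution -/
theorem of_mem {y : G} (h1 : y ∈ cen L) (h2 : orderOf y = 2) (h3 : (T : Subgroup G) ≤ centralizer {y}) :
    Sd T y L :=
  have k := Cfsg.Agent.S1754.result L h.std y h2 h1
  ⟨⟨h.qt, h.ev, mem_of_cent (e2_of_two h2) h3, fun _ ht => St.mc1.1 (h3 ht), h2,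
    rc_iff.2 ⟨St.le_c1.2 h1, k.2⟩, k.1⟩, h.simple, h.ncomm, h.std⟩

theorem qs : IsQuasisimple L := h.std.1

theorem two : IsPGroup 2 (center L) := center_two_of_rc h.ev h.z2 h.rc

theorem te {A B : Subgroup G} (hA : Cj L A) (hB : Cj L B) {y : G} (h1 : y ∈ cen A) (h2 : y ∈ cen B) (h3 : E2 y)
    (h4 : y ≠ 1) : A = B := by
  obtain ⟨g, rfl⟩ := hA.symm.trans hB
  have k := hA.std h.std
  by_contra e
  obtain ⟨j, hj⟩ := h3
  exact h4 (StdR2.eq_one_of_two k.2.1 (g := g) (fun m => e (St.norm_iff.1 (k.2.2.2 ▸ m)).symm) h1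
    (by rwa [← cj_cen] at h2) hj)

theorem cent_le (hM : Cj L M) {y : G} (h1 : y ∈ cen M) (h2 : orderOf y = 2) : centralizer {y} ≤ nor M :=
  (Cfsg.Agent.S1754.result M (hM.std h.std) y h2 h1).1

theorem nor_cen (hM : Cj L M) : nor (cen M) = nor M := (hM.std h.std).2.2.2.symm

theorem dec {r : G} (h1 : r ∈ (T : Subgroup G)) (h2 : r ∈ LK L) :
    ∃ l ∈ (T : Subgroup G) ⊓ L, ∃ c ∈ (T : Subgroup G) ⊓ cen L, r = l * c := by
  obtain ⟨l, hl, c, hc, rfl⟩ := mem_LK.1 h2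
  obtain ⟨k, hk⟩ := e2_of_mem T.isPGroup' h1
  rw [Commute.mul_pow (hc l hl), mul_eq_one_iff_eq_inv] at hk
  obtain ⟨m, hm⟩ := e2_of_mem (St.center_two h.two) (x := l ^ 2 ^ k) ⟨pow_mem hl _, hk ▸ inv_mem (pow_mem hc _)⟩
  have := h.sylL.le_of_normalizes (isPGroup_zpowers ⟨k + m, by rw [pow_add, pow_mul, hm]⟩) (zpowers_le.2 hl)
    (zpowers_le.2 (St.norm_of_le (conjS_le_iff_forall.2 fun u hu => mem_inf.2 ⟨by
      rw [show l * u * l⁻¹ = l * c * (c⁻¹ * u) * l⁻¹ by group, ← inv_mem hc u hu.2,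
        show l * c * (u * c⁻¹) * l⁻¹ = l * c * u * (l * c)⁻¹ by group]
      exact mul_mem (mul_mem h1 hu.1) (inv_mem h1), mul_mem (mul_mem hl hu.2) (inv_mem hl)⟩))) (mem_zpowers l)
  exact ⟨l, this, c, ⟨(mul_mem_cancel_left (mem_inf.1 this).1).1 h1, hc⟩, rfl⟩

theorem xp {p : ℕ} (hp : XT L p) {A B : Subgroup G} (hA : Cj L A) (hB : Cj L B) {k y : G} (h1 : k ∈ cen A)
    (h2 : orderOf k = 2) (h3 : y ∈ cen B) (h4 : orderOf y = 2) :
    XP p (A ⊓ centralizer {y}) = XP p (A ⊓ B) ∧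
      XP p (centralizer {k} ⊓ centralizer {y}) = XP p (A ⊓ B) :=
  ⟨le_antisymm (closure_mono fun x m => ⟨⟨m.1.1, hp.cj hB y h3 h4 x m.2 (St.mc1.1 m.1.2)⟩, m.2⟩)
      (XP_mono p (inf_le_inf_left A (St.le_c1.2 h3))),
    le_antisymm (closure_mono fun x m => ⟨⟨hp.cj hA k h1 h2 x m.2 (St.mc1.1 m.1.1),
      hp.cj hB y h3 h4 x m.2 (St.mc1.1 m.1.2)⟩, m.2⟩) (XP_mono p (inf_le_inf (St.le_c1.2 h1) (St.le_c1.2 h3)))⟩

theorem gam (hM : M ∈ Gam (T : Subgroup G) L) : ∃ n ∈ nor (T : Subgroup G), cj n L = M := by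
  obtain ⟨⟨g, rfl⟩, k⟩ := hM
  obtain ⟨m, hm, e⟩ := (h.conj g).syl.exists_conj (isSylowIn_of_le T k)
  exact ⟨m * g, St.norm_iff.2 ((St.cj_mul m g _).trans e), by rw [St.cj_mul, St.norm_iff.1 hm]⟩

theorem gam_sd (hM : M ∈ Gam (T : Subgroup G) L) : ∃ y, IsConj z y ∧ Sd T y M := by
  obtain ⟨n, hn, rfl⟩ := h.gam hM
  have := h.conj n
  rw [smul_eq hn] at this
  exact ⟨_, isConj_iff.2 ⟨n, rfl⟩, this⟩

theorem self_gam : L ∈ Gam (T : Subgroup G) L := ⟨.refl L, h.TN⟩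

theorem gam_eq : Gam (T : Subgroup G) L = {M | ∃ n ∈ nor (T : Subgroup G), cj n L = M} :=
  Set.ext fun M => ⟨h.gam, fun ⟨n, hn, e⟩ => ⟨⟨n, e⟩, by
    rw [← e, ← cj_nor, ← St.norm_iff.1 hn]; exact map_mono h.TN⟩⟩

theorem gam_odd : Odd (Gam (T : Subgroup G) L).ncard := h.gam_eq ▸ odd_orbit le_normalizer h.TN

theorem three (hF : Full T L) : ∃ A ∈ Gam (T : Subgroup G) L, ∃ B ∈ Gam (T : Subgroup G) L,
    A ≠ L ∧ B ≠ L ∧ A ≠ B := by
  obtain ⟨A, h1, h2⟩ := hF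
  have e := Set.ncard_sdiff_singleton_add_one h.self_gam
  have o := h.gam_odd
  have p : 0 < (Gam (T : Subgroup G) L \ {L}).ncard := (Set.ncard_pos (Set.toFinite _)).2 ⟨A, h1, h2⟩
  obtain ⟨a, ha, b, hb, k⟩ := (Set.one_lt_ncard (s := Gam (T : Subgroup G) L \ {L})).1 (by
    obtain ⟨m, hm⟩ := o; omega)
  exact ⟨a, ha.1, b, hb.1, ha.2, hb.2, k⟩

theorem full_of {A B : Subgroup G} (hA : Cj L A) (hB : Cj L B) (hne : A ≠ B) (S : Sylow 2 G)
    (hS : (S : Subgroup G) ≤ nor A ⊓ nor B) : Full T L := by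
  obtain ⟨a, e⟩ := hA.symm
  obtain ⟨m, hm, k⟩ := (isSylowIn_of_le (a • S) (H := nor L) (by
    rw [← e, ← cj_nor]; exact map_mono (hS.trans inf_le_left))).exists_conj h.syl
  refine ⟨cj m (cj a B), ⟨(hB.cj a).cj m, ?_⟩, fun r => hne (St.cj_inj a (St.cj_inj m ?_))⟩
  · rw [← k, ← cj_nor, ← cj_nor]
    exact map_mono (map_mono (hS.trans inf_le_right))
  · rw [r, e, St.norm_iff.1 hm]

theorem full_of_kt {y : G} (h1 : (T : Subgroup G) ≤ centralizer {y}) (h2 : orderOf y = 2) (h3 : KT L y)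
    (h4 : y ∉ cen L) : Full T L :=
  let ⟨M, k1, k2⟩ := h3; ⟨M, ⟨k1, h1.trans (h.cent_le k1 k2 h2)⟩, fun e => h4 (e ▸ k2)⟩

theorem full_iff {T' : Sylow 2 G} {z' : G} (h' : Sd T' z' M) (hM : Cj L M) : Full T L ↔ Full T' M :=
  ⟨fun ⟨_, k1, k2⟩ => h'.full_of hM.symm (hM.symm.trans k1.1) k2.symm T (le_inf h.TN k1.2),
    fun ⟨_, k1, k2⟩ => h.full_of hM (hM.trans k1.1) k2.symm T' (le_inf h'.TN k1.2)⟩

theorem ne_bot : (T : Subgroup G) ⊓ cen L ≠ ⊥ := fun e => by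
  have : z ∈ (T : Subgroup G) ⊓ cen L := ⟨h.zT, h.zL⟩
  rw [e, mem_bot] at this
  simpa [this] using h.z2

theorem pr_of_gam (hM : M ∈ Gam (T : Subgroup G) L) (hne : M ≠ L) : Pr T z L M T :=
  let ⟨_, _, k⟩ := h.gam_sd hM
  ⟨h, hM.1, hne, isSylowIn_of_le T (le_inf h.TN hM.2), le_rfl, k.ne_bot⟩

theorem exists_pr (hM : Cj L M) (hne : M ≠ L) {R : Subgroup G} (h1 : R ≤ nor L ⊓ nor M) (h2 : IsPGroup 2 R)
    (h3 : R ⊓ cen M ≠ ⊥) : ∃ g ∈ nor L, ∃ P, Pr (g • T) (g * z * g⁻¹) L M P ∧ R ≤ P := by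
  obtain ⟨P, k1, k2⟩ := exists_isSylowIn_ge h2 h1
  obtain ⟨g, hg, k3⟩ := h.syl.exists_le_conj k1.isPGroup (k1.le.trans inf_le_left)
  have := h.conj g
  rw [St.norm_iff.1 hg] at this
  exact ⟨g, hg, P, ⟨this, hM, hne, k1, k3, fun e => h3 (eq_bot_iff.2 (e ▸ inf_le_inf_right _ k2))⟩, k2⟩

end Sd

namespace Pr

variable (h : Pr T z L M P)
include h

theorem two' : IsPGroup 2 P := h.syl.isPGroup

theorem PL : P ≤ nor L := h.syl.le.trans inf_le_left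

theorem PM : P ≤ nor M := h.syl.le.trans inf_le_right

theorem eq : P = (T : Subgroup G) ⊓ nor M :=
  (h.syl.eq_of_le _ (T.isPGroup'.to_le inf_le_left) (le_inf h.le h.PM) (inf_le_inf_right _ h.TN)).symm

theorem cent_le' {y : G} (h1 : y ∈ cen M) (h2 : orderOf y = 2) : (T : Subgroup G) ⊓ centralizer {y} ≤ P :=
  h.eq ▸ inf_le_inf_left _ (h.cent_le h.cj h1 h2)

theorem zP : z ∈ P := by
  obtain ⟨y, h1, h2⟩ := StdR2.exists_inv_of_pgroup (h.two'.to_le inf_le_left) h.ne1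
  exact h.cent_le' h1.2 h2 ⟨h.zT, St.mc1.2 (h.zc y (h.le h1.1)).symm⟩

theorem disj {y : G} (h1 : y ∈ cen L) (h2 : y ∈ cen M) (h3 : E2 y) : y = 1 :=
  by_contra fun e => h.ne (h.te h.cj (.refl L) h2 h1 h3 e)

theorem comm {a b : G} (ha : a ∈ P ⊓ cen L) (hb : b ∈ P ⊓ cen M) : a * b = b * a :=
  commutatorElement_eq_one_iff_mul_comm.1 (h.disj (St.comm_mem_left ha.2 (St.norm_cent (h.PL hb.1)))
    (St.comm_mem_right (St.norm_cent (h.PM ha.1)) hb.2) (e2_of_mem h.two' (St.comm_mem_left ha.1 (le_normalizer hb.1))))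

theorem exists_y {V : Subgroup G} (h1 : P ≤ nor V) (h2 : P ⊓ cen M ⊓ V ≠ ⊥) :
    ∃ y ∈ P ⊓ cen M ⊓ V, orderOf y = 2 ∧ P ≤ centralizer {y} :=
  let ⟨y, k1, k2, k3⟩ := LBal.exists_central h.two' (inf_le_left.trans inf_le_left) (LAE.le_normalizer_inf
    (LAE.le_normalizer_inf le_normalizer fun _ m => St.norm_cent (h.PM m)) h1) h2
  ⟨y, k1, k2, St.le_c1.2 k3⟩

theorem syl_cent {y : G} (h1 : y ∈ cen M) (h2 : orderOf y = 2) (h3 : P ≤ centralizer {y}) :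
    IsSylowIn 2 P (nor L ⊓ centralizer {y}) ∧ IsSylowIn 2 (P ⊓ L) (L ⊓ centralizer {y}) := by
  have k := h.syl.mono (le_inf h.PL h3) (inf_le_inf_left _ (h.cent_le h.cj h1 h2))
  have := k.inf_of_normal (N := L ⊓ centralizer {y}) (inf_le_inf_right _ le_normalizer)
    (LAE.le_normalizer_inf inf_le_left (inf_le_right.trans le_normalizer))
  rw [← inf_assoc, inf_eq_left.2 (inf_le_left.trans h3)] at this
  exact ⟨k, this⟩

theorem ne1' : P ⊓ cen L ≠ ⊥ := fun e => by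
  have : z ∈ P ⊓ cen L := ⟨h.zP, h.zL⟩
  rw [e, mem_bot] at this
  simpa [this] using h.z2

theorem symm : ∃ (T' : Sylow 2 G) (z' : G), IsConj z z' ∧ Pr T' z' M L P := by
  obtain ⟨g, e⟩ := h.cj
  have k := h.conj g
  rw [e] at k
  obtain ⟨a, -, Q, k1, k2⟩ := k.exists_pr h.cj.symm h.ne.symm (le_inf h.PM h.PL) h.two' h.ne1'
  obtain rfl := h.syl.eq_of_le Q k1.two' k2 (le_inf k1.PM k1.PL)
  exact ⟨_, _, (isConj_iff.2 ⟨g, rfl⟩).trans (isConj_iff.2 ⟨a, rfl⟩), k1⟩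

theorem sylM : IsSylowIn 2 (P ⊓ cen M) (cen M ⊓ nor L) := by
  have := h.syl.inf_of_normal (N := cen M ⊓ nor L) (le_inf inf_le_right (inf_le_left.trans
    (centralizer_le_normalizer _))) (LAE.le_normalizer_inf (fun _ m => St.norm_cent m.2)
      (inf_le_left.trans le_normalizer))
  rwa [← inf_assoc, inf_eq_left.2 (inf_le_left.trans h.PL)] at this

theorem sylK : IsSylowIn 2 (P ⊓ cen L) (cen L ⊓ nor M) := let ⟨_, _, _, k⟩ := h.symm; k.sylM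

theorem exists_R0 : ∃ R ≤ cen L ⊓ nor M, Nonempty (R ≃* (P ⊓ cen M : Subgroup G)) := by
  obtain ⟨g, e⟩ := h.cj
  obtain ⟨S, k1, k2⟩ := exists_isSylowIn_ge (h.two'.to_le inf_le_left) (le_sup_right : P ⊓ cen M ≤ cen L ⊔ _)
  have e1 : (cen L).map (MulAut.conj g).toMonoidHom ⊓ normalizer (cen L : Set G) = cen M ⊓ nor L := by
    rw [← e, ← cj_cen, ← h.nor_cen (.refl L)]
  obtain ⟨-, -, m1, -, m2⟩ := Cfsg.Agent.S1910.result (cen L) h.std.2.1 g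
    (fun m => h.ne (e.symm.trans (St.norm_iff.1 (h.std.2.2.2 ▸ m)))) (P ⊓ cen M) h.ne1 (e1 ▸ h.sylM.le)
    ⟨h.sylM.isPGroup, e1 ▸ h.sylM.not_dvd_relIndex⟩ S k2 k1.le ⟨k1.isPGroup, k1.not_dvd_relIndex⟩
  obtain ⟨y, h1, h2⟩ := StdR2.exists_inv_of_pgroup (h.two'.to_le inf_le_left) h.ne1
  exact ⟨_, le_inf inf_le_right ((St.le_c1.2 (commutator_eq_bot_iff_le_centralizer.1 m1 h1)).trans
    (h.cent_le h.cj h1.2 h2)), m2⟩

theorem card_le : Nat.card (P ⊓ cen M : Subgroup G) ≤ Nat.card (P ⊓ cen L : Subgroup G) := by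
  obtain ⟨R, h1, ⟨e⟩⟩ := h.exists_R0
  rw [← Nat.card_congr e.toEquiv]
  exact h.sylK.card_le (h.sylM.isPGroup.of_equiv e.symm) h1

theorem iso : Nonempty ((P ⊓ cen L : Subgroup G) ≃* (P ⊓ cen M : Subgroup G)) := by
  obtain ⟨R, h1, ⟨e⟩⟩ := h.exists_R0
  obtain ⟨_, _, _, k⟩ := h.symm
  obtain ⟨g, -, m⟩ := (isSylowIn_of_card_eq h.sylK h1 (h.sylM.isPGroup.of_equiv e.symm)
    (k.card_le.trans (Nat.card_congr e.toEquiv).ge)).exists_conj h.sylK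
  exact m ▸ ⟨(conjSEquiv g R).symm.trans e⟩

theorem card_eq : Nat.card (P ⊓ cen L : Subgroup G) = Nat.card (P ⊓ cen M : Subgroup G) :=
  let ⟨e⟩ := h.iso; Nat.card_congr e.toEquiv

end Pr

theorem Mp.card_lt (h : Mp T z L M P) : Nat.card P < Nat.card (T : Subgroup G) :=
  card_lt_of_lt' (lt_of_le_not_ge h.le h.lt)

theorem Mp.not_full (h : Mp T z L M P) : ¬ Full T L := fun ⟨A, h1, h2⟩ =>
  (h.max L A (.refl L) h1.1 h2.symm T (le_inf h.TN h1.2) T.isPGroup' (h.pr_of_gam h1 h2).ne1).not_gt h.card_lt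

theorem Mp.symm (h : Mp T z L M P) : ∃ (T' : Sylow 2 G) (z' : G), IsConj z z' ∧ Mp T' z' M L P := by
  obtain ⟨T', z', h1, h2⟩ := h.toPr.symm
  refine ⟨T', z', h1, h2, fun e => ?_, fun A B hA hB => h.max A B (h.cj.trans hA) (h.cj.trans hB)⟩
  exact ((isSylowIn_top T).card_eq (isSylowIn_top T') ▸ card_le_of_le e).not_gt h.card_lt

end CfsgLib.QT4
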