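import Mathlib
import Cfsg.Agent.Lib.QT4.BS
import Cfsg.Agent.Lib.QT4.CG

/-!
From automorphisms of `L` to the normalizer of `L`.
-/

set_option autoImplicit false
set_option linter.unusedSectionVars false

namespace CfsgLib.QT4

open Cfsg Subgroup CfsgLib.LBal CfsgLib.LAE CfsgLib.QT2 CfsgLib.QT3
open scoped MatrixGroups commutatorElement

variable {G : Type*} [Group G] [Finite G] {T : Sylow 2 G} {z : G} {L M P : Subgroup G}

/-- the automorphism of `L` induced by `r` -/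
def aut {r : G} (hr : r ∈ nor L) : MulAut L := L.normalizerMonoidHom ⟨r, hr⟩

theorem aut_coe {r : G} (hr : r ∈ nor L) (l : L) : (aut hr l : G) = r * l * r⁻¹ := rfl

theorem aut_conj {r : G} (hr : r ∈ nor L) (l : L) : aut hr = MulAut.conj l ↔ (l : G)⁻¹ * r ∈ cen L := by
  refine ⟨fun e x hx => ?_, fun e => MulEquiv.ext fun x => Subtype.ext ?_⟩
  · have : r * x * r⁻¹ = l * x * (l : G)⁻¹ := congrArg (fun φ : MulAut L => (φ ⟨x, hx⟩ : G)) e
    rw [show (l : G)⁻¹ * r * x = (l : G)⁻¹ * (r * x * r⁻¹) * r by group, this]; group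
  · change r * x * r⁻¹ = l * x * (l : G)⁻¹
    rw [show r * x * r⁻¹ = l * ((l : G)⁻¹ * r * x) * r⁻¹ by group, ← e x x.2]; group

theorem aut_inn {r : G} (hr : r ∈ nor L) : aut hr ∈ Inn L ↔ r ∈ LK L :=
  ⟨fun ⟨l, e⟩ => mem_LK.2 ⟨l, l.2, _, (aut_conj hr l).1 e.symm, by group⟩, fun h =>
    let ⟨l, hl, c, hc, e⟩ := mem_LK.1 h
    ⟨⟨l, hl⟩, ((aut_conj hr ⟨l, hl⟩).2 (by simpa [e] using hc)).symm⟩⟩

theorem aut_one {r : G} (hr : r ∈ nor L) : aut hr = 1 ↔ r ∈ cen L := by simpa using aut_conj hr 1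

theorem aut_mul {r s : G} (hr : r ∈ nor L) (hs : s ∈ nor L) : aut (mul_mem hr hs) = aut hr * aut hs :=
  map_mul L.normalizerMonoidHom ⟨r, hr⟩ ⟨s, hs⟩

theorem aut_pow {r : G} (hr : r ∈ nor L) (n : ℕ) : aut (pow_mem hr n) = aut hr ^ n :=
  map_pow L.normalizerMonoidHom ⟨r, hr⟩ n

theorem aut_self (l : L) : aut (le_normalizer l.2) = MulAut.conj l := (aut_conj _ l).2 (by simp)

theorem aut_sq {r : G} (hr : r ∈ nor L) (h : r * r = 1) : aut hr * aut hr = 1 :=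
  aut_mul hr hr ▸ (aut_one _).2 (h ▸ one_mem _)

theorem e2_coe {A : Subgroup G} {x : A} : E2 (x : G) ↔ E2 x :=
  exists_congr fun _ => by rw [← coe_pow, OneMemClass.coe_eq_one]

theorem aut_e2 {r : G} (hr : r ∈ nor L) (h : E2 r) : E2 (aut hr) :=
  (e2_coe (x := ⟨r, hr⟩).1 h).map L.normalizerMonoidHom

theorem aut_fix {r : G} (hr : r ∈ nor L) (l : L) : aut hr l = l ↔ (l : G) ∈ centralizer {r} := by
  rw [St.mc1, Subtype.ext_iff, aut_coe, mul_inv_eq_iff_eq_mul, eq_comm]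

theorem map_fix {r : G} (hr : r ∈ nor L) : (fixedSubgroup (aut hr)).map L.subtype = L ⊓ centralizer {r} :=
  Subgroup.ext fun x => ⟨by rintro ⟨l, h, rfl⟩; exact ⟨l.2, (aut_fix hr l).1 h⟩,
    fun h => ⟨⟨x, h.1⟩, (aut_fix hr _).2 h.2, rfl⟩⟩

theorem comap_cent (l : L) : (centralizer {(l : G)}).subgroupOf L = centralizer {l} :=
  Subgroup.ext fun x => by rw [mem_subgroupOf, St.mc1, St.mc1, Subtype.ext_iff]; rfl

theorem map_cent (l : L) : (centralizer {l}).map L.subtype = L ⊓ centralizer {(l : G)} := by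
  rw [← comap_cent, subgroupOf_map_subtype, inf_comm]

theorem map_XP_sub (p : ℕ) (A : Subgroup L) : (XP p A).map L.subtype = XP p (A.map L.subtype) := by
  rw [XP, MonoidHom.map_closure]
  congr 1
  ext x
  exact ⟨by rintro ⟨y, ⟨h1, h2⟩, rfl⟩; exact ⟨mem_map_of_mem _ h1, (orderOf_coe y).trans h2⟩,
    by rintro ⟨⟨y, h1, rfl⟩, h2⟩; exact ⟨y, ⟨h1, (orderOf_coe y).symm.trans h2⟩, rfl⟩⟩

theorem map_XPc (p : ℕ) (l : L) : (XP p (centralizer {l})).map L.subtype = XP p (L ⊓ centralizer {(l : G)}) := by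
  rw [map_XP_sub, map_cent]

theorem map_XPf (p : ℕ) {r : G} (hr : r ∈ nor L) :
    (XP p (fixedSubgroup (aut hr))).map L.subtype = XP p (L ⊓ centralizer {r}) := by rw [map_XP_sub, map_fix]

theorem mem_map_sub {A : Subgroup L} {x : L} : (x : G) ∈ A.map L.subtype ↔ x ∈ A :=
  mem_map_iff_mem (f := L.subtype) L.subtype_injective

theorem mem_cen_sub {A : Subgroup L} {x : L} : (x : G) ∈ cen (A.map L.subtype) ↔ x ∈ cen A :=
  ⟨fun h a ha => Subtype.ext (h _ (mem_map_sub.2 ha)), by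
    rintro h _ ⟨a, ha, rfl⟩; exact congrArg Subtype.val (h a ha)⟩

theorem ZU_sub {A : Subgroup L} {x : L} : (x : G) ∈ ZU (A.map L.subtype) ↔ x ∈ ZU A :=
  and_congr mem_map_sub mem_cen_sub

theorem tc_iff (l : L) : Tc l ↔ TC L (l : G) := by
  rw [Tc, TC, orderOf_coe, relIndex, comap_cent, and_iff_right l.2]

theorem c2_sub {A : Subgroup L} {u : L} : C2 (A.map L.subtype) (u : G) ↔ C2 A u := by
  rw [C2, C2, mem_map_sub, ← relIndex_comap, ← comap_cent]; rfl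

theorem isConj_sub {a b : L} (h : IsConj a b) : ∃ g ∈ L, g * a * g⁻¹ = b :=
  let ⟨g, e⟩ := isConj_iff.1 h; ⟨g, g.2, congrArg Subtype.val e⟩

theorem exists_sylow_sub {U : Subgroup G} (hU : IsSylowIn 2 U L) :
    ∃ S : Sylow 2 L, (S : Subgroup L).map L.subtype = U := hU.exists_sylow

theorem G1.amb (h : G1 L) : aG1 L := fun U hU r hr h1 h2 => by
  obtain ⟨S, rfl⟩ := exists_sylow_sub hU
  exact (aut_inn hr).1 (h.all S _ (aut_e2 hr h1) fun u hu =>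
    (aut_fix hr u).2 (St.mc1.2 (h2 _ (mem_map_sub.2 hu))))

theorem TC1.amb (h : TC1 L) : aTC1 L := fun a b ha hb =>
  isConj_sub (h ⟨a, ha.1⟩ ⟨b, hb.1⟩ ((tc_iff _).2 ha) ((tc_iff _).2 hb))

theorem AllTC.amb (h : AllTC L) : aAll L := fun a ha h2 =>
  (tc_iff ⟨a, ha⟩).1 (h _ ((orderOf_coe _).symm.trans h2))

/-- the outer action -/
def outOn {S : Subgroup G} (hS : S ≤ nor L) : S →* Out L :=
  (QuotientGroup.mk' (Inn L)).comp (L.normalizerMonoidHom.comp (inclusion hS))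

theorem outOn_one {S : Subgroup G} (hS : S ≤ nor L) {s : S} : outOn hS s = 1 ↔ (s : G) ∈ LK L :=
  (QuotientGroup.eq_one_iff _).trans (aut_inn (hS s.2))

theorem card_outOn {S : Subgroup G} (hS : S ≤ nor L) : Nat.card (outOn hS).range = (LK L).relIndex S := by
  rw [← index_ker, relIndex]
  congr 1
  exact Subgroup.ext fun _ => outOn_one hS

theorem two_outOn {S : Subgroup G} (hS : S ≤ nor L) (h : IsPGroup 2 S) : IsPGroup 2 (outOn hS).range :=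
  h.of_surjective _ (outOn hS).rangeRestrict_surjective

theorem OAb.amb (h : OAb L) : aOAb L := fun S hS h2 a ha b hb =>
  (outOn_one hS (s := ⁅(⟨a, ha⟩ : S), (⟨b, hb⟩ : S)⁆)).1 (by
    rw [map_commutatorElement, commutatorElement_eq_one_iff_mul_comm]
    exact SylTools.isMulCommutative_iff_forall.1 (h _ (two_outOn hS h2)) _ ⟨_, rfl⟩ _ ⟨_, rfl⟩)

theorem OCyc.amb (h : OCyc L) : aOCyc L := fun S hS h2 => by
  obtain ⟨⟨_, s, rfl⟩, k⟩ := (h _ (two_outOn hS h2)).exists_zpow_surjective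
  refine ⟨s, s.2, fun a ha => ?_⟩
  obtain ⟨i, e⟩ := k ⟨_, ⟨a, ha⟩, rfl⟩
  have := (outOn_one hS (s := ⟨a, ha⟩ * (s ^ i)⁻¹)).1 (by
    rw [map_mul, map_inv, map_zpow, mul_inv_eq_one]; exact (congrArg Subtype.val e).symm)
  rw [← inv_mul_cancel_right a (s ^ i)]
  exact mul_mem_sup this (zpow_mem (mem_zpowers _) i)

theorem aO_of {k : ℕ} (h : ¬ 2 ^ (k + 1) ∣ Nat.card (Out L)) : aO (2 ^ k) L := fun S hS h2 => by
  obtain ⟨m, hm⟩ := (two_outOn hS h2).exists_card_eq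
  rw [← card_outOn hS, hm]
  exact Nat.pow_le_pow_right two_pos (Nat.lt_succ_iff.1 (lt_of_not_ge fun e =>
    h ((pow_dvd_pow 2 e).trans (hm ▸ card_subgroup_dvd_card _))))

theorem H1.amb {r : G} (hr : r ∈ nor L) (h2 : r * r = 1) (h : H1 (aut hr)) : aH1 L r := fun l hl e => by
  obtain ⟨u, hu⟩ := h ⟨l, hl⟩ (Subtype.ext (by
    change l * (r * l * r⁻¹) = 1
    rw [inv_eq_of_mul_eq_one_right h2, ← e]; group))
  have : (u : G)⁻¹ * (r * u * r⁻¹) = l := congrArg Subtype.val hu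
  exact ⟨u, u.2, by rw [← this]; group⟩

theorem H1g.amb (h : H1g L) : aH1g L := fun _ hr h1 h2 =>
  (h _ (aut_sq hr h1) (mt (aut_inn hr).1 h2)).amb hr h1

theorem solv_fix {r : G} (hr : r ∈ nor L) :
    Group.IsSolvable (fixedSubgroup (aut hr)) ↔ Group.IsSolvable (L ⊓ centralizer {r} : Subgroup G) :=
  have f := ((fixedSubgroup (aut hr)).equivMapOfInjective _ L.subtype_injective).trans
    (MulEquiv.subgroupCongr (map_fix hr))
  ⟨fun _ => Group.isSolvable_of_surjective (f := f.toMonoidHom) f.surjective,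
    fun _ => Group.isSolvable_of_isSolvable_injective (f := f.toMonoidHom) f.injective⟩

theorem le_LK_of_perfect (h : Group.IsSolvable (Out L)) {D : Subgroup G} (h1 : D ≤ nor L) (h2 : ⁅D, D⁆ = D) :
    D ≤ LK L := fun d hd => by
  have e : ⁅(⊤ : Subgroup D), ⊤⁆ = ⊤ := map_injective D.subtype_injective (by
    rw [map_commutator, ← MonoidHom.range_eq_map, range_subtype, h2])
  by_contra k
  refine (Group.IsSolvable.commutator_lt_of_ne_bot (H := (outOn h1).range) fun m => k ?_).ne ?_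
  · exact (outOn_one h1 (s := ⟨d, hd⟩)).1 (mem_bot.1 (m ▸ ⟨_, rfl⟩))
  · rw [MonoidHom.range_eq_map, ← map_commutator, e]

theorem OutB.amb (h : OutB L) : aOutB L :=
  ⟨h.1.amb, h.2.1.amb, fun _ => le_LK_of_perfect h.2.2.1, fun _ hr h1 h2 =>
    (h.2.2.2 _ (aut_sq hr h1) (mt (aut_inn hr).1 h2)).imp (mt (solv_fix hr).2) fun k =>
      ⟨aO_of (k := 2) k.1, fun _ hs k1 k2 k3 => (aut_inn (mul_mem hs hr)).1 (aut_mul hs hr ▸
        k.2 _ (aut_sq hs k1) (mt (aut_inn hs).1 k2) ((solv_fix hs).2 k3))⟩⟩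

theorem UZ.all {Y : Type*} [Group Y] [Finite Y] (h : UZ Y) (U : Sylow 2 Y) : ¬ IsMulCommutative (U : Subgroup Y) ∧
    ∀ a ∈ ZU (U : Subgroup Y), ∀ b ∈ ZU (U : Subgroup Y), orderOf a = 2 → orderOf b = 2 → a = b := by
  obtain ⟨V, h1, h2⟩ := h
  obtain ⟨g, rfl⟩ := MulAction.exists_smul_eq Y U V
  refine ⟨comm_e (MulAut.conj g) h1, fun a ha b hb a2 b2 => (MulAut.conj g).injective ?_⟩
  have k1 := (ZU_e (MulAut.conj g)).2 ha
  have k2 := (ZU_e (MulAut.conj g)).2 hb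
  exact h2 _ k1.1 _ k2.1 ((MulEquiv.orderOf_eq _ a).trans a2) ((MulEquiv.orderOf_eq _ b).trans b2) k1.2 k2.2

theorem na_sub {S : Subgroup L} (h : ¬ IsMulCommutative S) : ¬ S.map L.subtype ≤ cen (S.map L.subtype) :=
  fun k => h (SylTools.isMulCommutative_iff_forall.2 fun a ha _ hb => mem_cen_sub.1 (k (mem_map_sub.2 hb)) a ha)

theorem UZ.amb (h : UZ L) : aUZ L := fun U hU => by
  obtain ⟨S, rfl⟩ := exists_sylow_sub hU
  obtain ⟨h1, h2⟩ := h.all S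
  refine ⟨na_sub h1, fun a ha b hb a2 b2 => ?_⟩
  obtain ⟨a, -, rfl⟩ := id ha.1
  obtain ⟨b, -, rfl⟩ := id hb.1
  exact congrArg Subtype.val (h2 a (ZU_sub.1 ha) b (ZU_sub.1 hb) ((orderOf_coe _).symm.trans a2)
    ((orderOf_coe _).symm.trans b2))

theorem ZQ.amb (h : ZQ L) : aZQ L := fun U hU => by
  obtain ⟨S, rfl⟩ := exists_sylow_sub hU
  have k := h.all S
  refine ⟨na_sub k.na, fun a ha => ?_, fun r hr h1 h2 => (aut_inn hr).1 (k.out _ (aut_e2 hr h1) fun u hu => ?_),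
    ?_, ?_⟩
  · obtain ⟨a, -, rfl⟩ := id ha.1
    exact congrArg Subtype.val (k.el a (ZU_sub.1 ha))
  · refine ZU_sub.1 ?_
    simpa [commutatorElement_def, aut_coe, mul_assoc] using h2 _ (inv_mem (mem_map_sub.2 hu))
  · rintro _ ⟨a, ha, rfl⟩ _ ⟨b, hb, rfl⟩ h1 h2
    obtain ⟨x, hx, y, hy, k1, k2⟩ := k.cm a ha b hb (mt ZU_sub.2 h1) (mt ZU_sub.2 h2)
    exact ⟨x, mem_map_sub.2 hx, y, mem_map_sub.2 hy, congrArg Subtype.val k1, fun e => k2 (Subtype.ext e)⟩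
  · rintro _ ⟨a, ha, rfl⟩ h1 h2 w hw
    obtain ⟨w, -, rfl⟩ := id hw.1
    obtain ⟨x, hx, k1⟩ := k.inv a ha (mt ZU_sub.2 h1) (Subtype.ext h2) w (ZU_sub.1 hw)
    exact ⟨x, mem_map_sub.2 hx, congrArg Subtype.val k1⟩

theorem AB.amb (h : AB L) : aAB L := ⟨h.1.amb, fun U hU => by
  obtain ⟨S, rfl⟩ := exists_sylow_sub hU
  obtain ⟨V, k⟩ := h.2
  obtain ⟨g, rfl⟩ := MulAction.exists_smul_eq L S V
  rintro _ ⟨u, hu, rfl⟩
  exact congrArg Subtype.val ((MulAut.conj g).injective ((map_mul _ u u).trans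
    ((k _ (St.conj_mem_cj.2 hu)).trans (map_one _).symm)))⟩

theorem Sd.xt (h : Sd T z L) {p : ℕ} (hp : PP L p) : XT L p := fun k hk k2 x hx e => by
  obtain ⟨hp, p2, h1⟩ := hp
  have := Fact.mk hp
  have xk : x ∈ centralizer {k} := St.mc1.2 e
  have xn := h.cent_le (.refl L) hk k2 xk
  obtain ⟨y, h2, h3⟩ := h1 (aut xn) (aut_pow xn p ▸ (aut_one _).2 (hx ▸ pow_orderOf_eq_one x ▸ one_mem _))
  have wn := mul_mem (le_normalizer y.2) xn
  rw [← aut_self, ← aut_mul] at h2 h3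
  rw [← aut_pow, aut_one] at h2
  rw [← SylTools.pRankLE_map_iff _ L.subtype_injective, map_fix, SylTools.pRankLE_subgroup_iff] at h3
  push Not at h3
  obtain ⟨E, e1, e2, e3, e4⟩ := h3
  have Lk : L ≤ centralizer {k} := St.le_c1.2 hk
  obtain ⟨m, hm⟩ := (SylTools.isPGroup_of_pow_eq_one e3).exists_card_eq
  have r : ∀ c ∈ centralizer {k}, c ∈ cen E → c ^ p = 1 → c ∈ L := fun c c1 c2 c3 =>
    (e1 (St.mem_of_rank hp (St.rank_cent h.qt hp p2 k2) (e1.trans (inf_le_left.trans Lk)) e2 e3 (by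
      rw [hm] at e4 ⊢
      exact Nat.pow_le_pow_right hp.pos ((Nat.pow_lt_pow_iff_right hp.one_lt).1 e4)) c1 c2 c3)).1
  have c : p.Coprime (Nat.card (cen L ⊓ centralizer {k} : Subgroup G)) := hp.coprime_iff_not_dvd.2 fun d => by
    obtain ⟨c, c1, c2⟩ := St.exists_orderOf hp d
    have c3 : c ^ p = 1 := c2 ▸ pow_orderOf_eq_one c
    exact hp.ne_one (c2.symm.trans (orderOf_eq_one_iff.2 (St.eq_one_of (St.center_two h.two) hp p2
      ⟨r c c1.2 (centralizer_le (e1.trans inf_le_left) c1.1) c3, c1.1⟩ c3)))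
  have pw : ∀ d ∈ cen L ⊓ centralizer {k}, d ^ Nat.card (cen L ⊓ centralizer {k} : Subgroup G) = 1 := fun d hd =>
    orderOf_dvd_iff_pow_eq_one.1 (orderOf_dvd_natCard _ hd)
  have wk := mul_mem (Lk y.2) xk
  have w1 : y * x ∈ LK L := mem_of_pow_mem_of_pow_mem c (mem_sup_right h2) (mem_sup_left (r _ (pow_mem wk _)
    (pow_mem (St.le_c1.1 (e1.trans inf_le_right)) _) (by
      rw [← pow_mul, pow_mul']; exact pw _ ⟨h2, pow_mem wk _⟩)))
  obtain ⟨l, hl, d, hd, rfl⟩ := mem_LK.1 ((mul_mem_cancel_left (mem_sup_left y.2)).1 w1)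
  refine mem_of_pow_mem_of_pow_mem c (hx ▸ pow_orderOf_eq_one (l * d) ▸ one_mem L) ?_
  rw [Commute.mul_pow (hd l hl), pw d ⟨hd, (mul_mem_cancel_left (Lk hl)).1 xk⟩, mul_one]
  exact pow_mem hl _

theorem Sd.ain (h : Sd T z L) (k : IN L) : aIN L :=
  let ⟨p, h1, h2⟩ := k
  ⟨p, h.xt h1, fun l hl => map_XPc p ⟨l, hl.1⟩ ▸ mem_map_sub.2 (h2 ⟨l, hl.1⟩ ((tc_iff _).2 hl))⟩

theorem Sd.anc (h : Sd T z L) {l : L} (k : KNC l) : aNC L l := by
  obtain ⟨p, h1, h2⟩ := k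
  refine ⟨p, h.xt h1, fun u hu k => ?_⟩
  rw [← map_XPc, ← map_cent] at *
  obtain ⟨m1, m2⟩ := h2 ⟨u, hu.1⟩ ((tc_iff _).2 hu) (c2_sub.1 k)
  refine ⟨mem_map_sub.2 m1, fun σ hσ k' => ?_⟩
  let f := (XP p (centralizer {l})).equivMapOfInjective _ L.subtype_injective
  have e : ((MulAut.congr f.symm (aut hσ) ⟨_, m1⟩ : L) : G) = σ * u * σ⁻¹ :=
    congrArg Subtype.val (f.apply_symm_apply (aut hσ (f ⟨_, m1⟩)))
  rw [← e] at k' ⊢
  exact isConj_sub (m2 _ _ rfl (c2_sub.1 k'))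

theorem Sd.ane (h : Sd T z L) {l : L} (k : KNE l) : aNE L l :=
  let ⟨h0, p, h1, h2⟩ := k
  ⟨aO_of (k := 1) h0, p, h.xt h1, fun c hc k1 k2 => congrArg Subtype.val
    (h2 ⟨c, hc⟩ (mem_cen_sub.1 ((map_XPc p l).symm ▸ k1)) (e2_coe.1 k2))⟩

theorem Sd.ane2 (h : Sd T z L) {l : L} (k : KNE2 l) : aNE2 L l :=
  let ⟨h0, p, h1, h2⟩ := k
  ⟨aO_of (k := 0) h0.not_two_dvd_nat, p, h.xt h1, fun c hc k1 =>
    have k := h2 ⟨c, hc⟩ (mem_cen_sub.1 ((map_XPc p l).symm ▸ k1))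
    ⟨fun k2 => congrArg Subtype.val (k.1 (e2_coe.1 k2)), fun k2 k3 => congrArg Subtype.val
      (k.2 ((orderOf_coe _).symm.trans k2) (c2_sub.1 ((map_cent l).symm ▸ k3)))⟩⟩

theorem OutA.amb (h : OutA L) : aOCyc L ∧ (aO 2 L ∨ aH1g L) := ⟨h.1.amb, h.2.imp (aO_of (k := 1)) H1g.amb⟩

theorem Sd.ga0 (h : Sd T z L) {a b c : Prop} (k : KG L a b c) : GA L a b c := by
  refine ⟨k.g1.amb, k.tc1.amb, k.oab.amb, ?_, fun l hl h1 h2 => ?_, ?_⟩
  · rcases k.out with m | m | m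
    exacts [.inl m.amb, .inr (.inl m.amb), .inr (.inr ⟨m.1, m.2.amb⟩)]
  · rcases k.nc ⟨l, hl⟩ ((orderOf_coe _).symm.trans h1) (mt (tc_iff ⟨l, hl⟩).1 h2) with m | m | m
    · exact .inl (h.anc (l := ⟨l, hl⟩) m)
    · exact .inr (.inl (h.ane2 (l := ⟨l, hl⟩) m))
    · exact .inr (.inr ⟨m.1, h.ane (l := ⟨l, hl⟩) m.2⟩)
  · rcases k.iv with m | m | m | m
    exacts [.inl m.amb, .inr (.inl (h.ain m)), .inr (.inr (.inl m.amb)), .inr (.inr (.inr ⟨m.1, m.2.amb⟩))]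

theorem Sd.ga (h : Sd T z L) {a b c : Prop} (k : KG L a b c) : Al (fun M => GA M a b c) L := by
  rintro _ ⟨g, rfl⟩
  exact (h.conj g).ga0 (k.congr (conjSEquiv g L).symm)

theorem G1.al (h : G1 L) : Al aG1 L := fun _ k => let ⟨e⟩ := k.equiv; (h.congr e.symm).amb

theorem TC1.al (h : TC1 L) : Al aTC1 L := fun _ k => let ⟨e⟩ := k.equiv; (h.congr e.symm).amb

theorem AllTC.al (h : AllTC L) : Al aAll L := fun _ k => let ⟨e⟩ := k.equiv; (h.congr e.symm).amb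

theorem OAb.al (h : OAb L) : Al aOAb L := fun _ k => let ⟨e⟩ := k.equiv; (h.congr e.symm).amb

theorem OCyc.al (h : OCyc L) : Al aOCyc L := fun _ k => let ⟨e⟩ := k.equiv; (h.congr e.symm).amb

theorem H1g.al (h : H1g L) : Al aH1g L := fun _ k => let ⟨e⟩ := k.equiv; (h.congr e.symm).amb

theorem OutB.al (h : OutB L) : Al aOutB L := fun _ k => let ⟨e⟩ := k.equiv; (h.congr e.symm).amb

theorem UZ.al (h : UZ L) : Al aUZ L := fun _ k => let ⟨e⟩ := k.equiv; (h.congr e.symm).amb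

theorem ZQ.al (h : ZQ L) : Al aZQ L := fun _ k => let ⟨e⟩ := k.equiv; (h.congr e.symm).amb

theorem AB.al (h : AB L) : Al aAB L := fun _ k => let ⟨e⟩ := k.equiv; (h.congr e.symm).amb

end CfsgLib.QT4
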