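import Mathlib
import Cfsg.Agent.Lib.QT4.CG

/-!
Transport of the special K-facts.
-/

set_option autoImplicit false
set_option linter.unusedSectionVars false

namespace CfsgLib.QT4

open Cfsg Subgroup CfsgLib.LBal CfsgLib.LAE CfsgLib.QT2 CfsgLib.QT3
open scoped MatrixGroups commutatorElement

section basic

variable {X X' : Type*} [Group X] [Group X'] (e : X ≃* X')

theorem ch_sub : Function.Surjective fun A : Subgroup X => A.map e.toMonoidHom := fun A =>
  ⟨_, map_comap_eq_self_of_surjective e.surjective A⟩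

theorem ch_top : (⊤ : Subgroup X') = (⊤ : Subgroup X).map e.toMonoidHom :=
  (map_top_of_surjective _ e.surjective).symm

theorem ch_sq (A : Subgroup X) : Sq (A.map e.toMonoidHom) = (Sq A).map e.toMonoidHom := by
  rw [Sq, Sq, MonoidHom.map_closure]
  congr 1
  ext x
  constructor
  · rintro ⟨_, ⟨a, ha, rfl⟩, rfl⟩
    exact ⟨_, ⟨a, ha, rfl⟩, map_mul _ _ _⟩
  · rintro ⟨_, ⟨a, ha, rfl⟩, rfl⟩
    exact ⟨_, ⟨a, ha, rfl⟩, map_mul _ _ _⟩

/-- elements -/
theorem ch0 : (∀ P : X' → Prop, (∀ y, P y) ↔ ∀ x, P (e x)) ∧ (∀ P : X' → Prop, (∃ y, P y) ↔ ∃ x, P (e x)) ∧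
    (∀ a b, e a * e b = e (a * b)) ∧ (∀ a, (e a)⁻¹ = e a⁻¹) ∧ (∀ a (n : ℕ), e a ^ n = e (a ^ n)) ∧
    (∀ a b, ⁅e a, e b⁆ = e ⁅a, b⁆) ∧ (∀ a b, e a = e b ↔ a = b) ∧ (∀ a, e a = 1 ↔ a = 1) ∧
    (∀ a, orderOf (e a) = orderOf a) ∧ (∀ a, E2 (e a) ↔ E2 a) ∧ (∀ a, e a ∈ center X' ↔ a ∈ center X) ∧
    (∀ a (A : Subgroup X), e a ∈ A.map e.toMonoidHom ↔ a ∈ A) ∧
    (∀ a (S : Set X), e a ∈ e '' S ↔ a ∈ S) ∧ ∀ S : Set X, (e '' S).ncard = S.ncard :=
  ⟨fun _ => e.surjective.forall, fun _ => e.surjective.exists, fun a b => (map_mul e a b).symm,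
    fun a => (map_inv e a).symm, fun a n => (map_pow e a n).symm,
    fun a b => (map_commutatorElement e a b).symm, fun _ _ => e.apply_eq_iff_eq,
    fun _ => map_eq_one_iff _ e.injective, e.orderOf_eq,
    fun a => exists_congr fun k => by rw [← map_pow, map_eq_one_iff _ e.injective],
    fun _ => mem_center_congr e, fun _ _ => mem_map_iff_mem e.injective,
    fun _ _ => e.injective.mem_set_image, Set.ncard_image_of_injective (H := e.injective)⟩

/-- subgroups -/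
theorem ch1 : (∀ P : Subgroup X' → Prop, (∀ B, P B) ↔ ∀ A : Subgroup X, P (A.map e.toMonoidHom)) ∧
    (∀ P : Subgroup X' → Prop, (∃ B, P B) ↔ ∃ A : Subgroup X, P (A.map e.toMonoidHom)) ∧
    (∀ A B : Subgroup X, A.map e.toMonoidHom = B.map e.toMonoidHom ↔ A = B) ∧
    (∀ A B : Subgroup X, A.map e.toMonoidHom ≤ B.map e.toMonoidHom ↔ A ≤ B) ∧
    (∀ A : Subgroup X, A.map e.toMonoidHom = ⊥ ↔ A = ⊥) ∧
    (∀ A B : Subgroup X, A.map e.toMonoidHom ⊓ B.map e.toMonoidHom = (A ⊓ B).map e.toMonoidHom) ∧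
    (∀ A B : Subgroup X, A.map e.toMonoidHom ⊔ B.map e.toMonoidHom = (A ⊔ B).map e.toMonoidHom) ∧
    (∀ A B : Subgroup X, ⁅A.map e.toMonoidHom, B.map e.toMonoidHom⁆ = ⁅A, B⁆.map e.toMonoidHom) ∧
    (∀ A : Subgroup X, Nat.card (A.map e.toMonoidHom) = Nat.card A) ∧
    (∀ A : Subgroup X, normalizer (A.map e.toMonoidHom : Set X') = (normalizer (A : Set X)).map e.toMonoidHom) ∧
    (∀ A : Subgroup X, centralizer (A.map e.toMonoidHom : Set X') =
      (centralizer (A : Set X)).map e.toMonoidHom) ∧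
    (∀ a, centralizer {e a} = (centralizer {a}).map e.toMonoidHom) ∧
    (∀ a b, closure {e a, e b} = (closure {a, b}).map e.toMonoidHom) ∧
    ∀ A : Subgroup X, Sq (A.map e.toMonoidHom) = (Sq A).map e.toMonoidHom :=
  ⟨fun _ => (ch_sub e).forall, fun _ => (ch_sub e).exists, fun _ _ => (map_injective e.injective).eq_iff,
    fun _ _ => map_le_map_iff_of_injective e.injective, fun A => A.map_eq_bot_iff_of_injective e.injective,
    fun A B => (map_inf A B _ e.injective).symm, fun A B => (Subgroup.map_sup A B _).symm,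
    fun A B => (map_commutator A B _).symm, fun _ => card_map_of_injective e.injective,
    fun A => (map_equiv_normalizer_eq A e).symm, fun A => by rw [map_centralizer_equiv]; rfl,
    fun a => (cent_congr e a).symm, fun a b => by rw [MonoidHom.map_closure, Set.image_pair]; rfl, ch_sq e⟩

/-- automorphisms -/
theorem ch2 : (∀ φ x, MulAut.congr e φ (e x) = e (φ x)) ∧
    (∀ φ, fixedSubgroup (MulAut.congr e φ) = (fixedSubgroup φ).map e.toMonoidHom) ∧
    (∀ φ, MulAut.congr e φ ∈ Inn X' ↔ φ ∈ Inn X) ∧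
    (∀ x, MulAut.conj (e x) = MulAut.congr e (MulAut.conj x)) ∧ Nat.card (Out X') = Nat.card (Out X) :=
  ⟨fun φ x => by simp,
    fun φ => (CRel.fix (L := ⊥) (L' := _) ⟨fun x => by simp, rfl⟩).symm,
    fun φ => ⟨fun ⟨g, h⟩ => ⟨e.symm g, (MulAut.congr e).injective (h ▸ by ext y; simp)⟩,
      fun h => mem_inn_congr e (by rwa [MulEquiv.symm_apply_apply])⟩,
    fun x => by ext y; simp, Nat.card_congr (outEquiv e).toEquiv.symm⟩

end basic

variable {Y Y' : Type*} [Group Y] [Group Y'] [Finite Y] {p : ℕ}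

theorem ch_syl (e : Y ≃* Y') (U' : Sylow 2 Y') :
    ∃ U : Sylow 2 Y, (U' : Subgroup Y') = (U : Subgroup Y).map e.toMonoidHom :=
  let ⟨U, h⟩ := Sylow.mapSurjective_surjective (f := e.toMonoidHom) e.surjective 2 U'
  ⟨U, h ▸ rfl⟩

theorem ch_syl' (e : Y ≃* Y') (U : Sylow 2 Y) :
    ∃ U' : Sylow 2 Y', (U' : Subgroup Y') = (U : Subgroup Y).map e.toMonoidHom :=
  ⟨U.mapSurjective (f := e.toMonoidHom) e.surjective, rfl⟩

theorem ch_conj (U V : Sylow 2 Y) :
    ∃ g : Y, (V : Subgroup Y) = (U : Subgroup Y).map (MulAut.conj g).toMonoidHom :=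
  let ⟨g, h⟩ := MulAction.exists_smul_eq Y U V
  ⟨g, h ▸ rfl⟩

theorem ch3 (e : Y ≃* Y') :
    (∀ p (A : Subgroup Y), XP p (A.map e.toMonoidHom) = (XP p A).map e.toMonoidHom) ∧
      ∀ φ, H1 (MulAut.congr e φ) ↔ H1 φ :=
  ⟨fun _ A => (map_XP e A).symm, fun φ => by simp only [H1, ch0 e, ch2 e]⟩

theorem ch_ocyc (e : Y ≃* Y') (h : OCyc Y') : OCyc Y := fun S hS => by
  have := h _ (hS.map (outEquiv e).toMonoidHom)
  exact (S.equivMapOfInjective _ (outEquiv e).injective).isCyclic.2 this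

theorem ch_oab (e : Y ≃* Y') (h : OAb Y') : OAb Y := fun S hS => by
  have := h _ (hS.map (outEquiv e).toMonoidHom)
  let f := S.equivMapOfInjective _ (outEquiv e).injective
  exact ⟨⟨fun a b => f.injective (by rw [map_mul, map_mul]; exact this.is_comm.comm _ _)⟩⟩

theorem S4U.congr (e : Y ≃* Y') {U A B : Subgroup Y}
    (h : S4U (U.map e.toMonoidHom) (A.map e.toMonoidHom) (B.map e.toMonoidHom)) : S4U U A B := by
  refine ⟨by simpa only [ZU, ch1 e] using h.zen, by simpa only [ch1 e] using h.dis,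
    by simpa only [ch0 e, ch1 e] using h.el, by simpa only [ch1 e] using h.card,
    by simpa only [ch1 e] using h.com, by simpa only [Ne, ch0 e, ch1 e] using h.tor,
    by simpa only [Ne, ch0 e, ch1 e, ch3 e] using h.xp, by simpa only [Ne, ch0 e, ch1 e] using h.intr,
    by simpa only [ch0 e, ch1 e, ch2 e, ch0 (MulAut.congr e)] using h.v6, ?_⟩
  obtain ⟨n, h1, h2⟩ := h.jf
  refine ⟨n, ?_, by simpa only [ch0 e, ch1 e, ch2 e, ch0 (MulAut.congr e)] using h2⟩
  refine (map_le_map_iff_of_injective (f := e.toMonoidHom) e.injective).1 (h1.trans (iSup₂_le fun E hE => ?_))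
  obtain ⟨E, rfl⟩ := ch_sub e E
  refine map_mono (le_iSup₂_of_le (f := fun E _ => E) E ?_ le_rfl)
  simpa only [Set.mem_ofPred_eq, ch0 e, ch1 e] using hE

theorem KS4.congr (e : Y ≃* Y') (h : KS4 Y') : KS4 Y := by
  refine ⟨h.all.congr e, h.g1.congr e, ⟨ch_ocyc e h.out.1, ?_⟩, h.pp.congr e, ?_⟩
  · simpa only [H1g, ch2 e, ch3 e, ch0 (MulAut.congr e)] using h.out.2
  obtain ⟨U, A, B, k⟩ := h.ex
  obtain ⟨U, hU⟩ := ch_syl e U
  obtain ⟨A, rfl⟩ := ch_sub e A
  obtain ⟨B, rfl⟩ := ch_sub e B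
  exact ⟨U, A, B, .congr e (hU ▸ k)⟩

theorem KS4.all_sylow (h : KS4 Y) (U : Sylow 2 Y) : ∃ A B, S4U (U : Subgroup Y) A B := by
  obtain ⟨V, A, B, k⟩ := h.ex
  obtain ⟨g, hU⟩ := ch_conj U V
  obtain ⟨A, rfl⟩ := ch_sub (MulAut.conj g) A
  obtain ⟨B, rfl⟩ := ch_sub (MulAut.conj g) B
  exact ⟨A, B, .congr (MulAut.conj g) (hU ▸ k)⟩

theorem S6T.congr (e : Y ≃* Y') {φ : MulAut Y} {U : Subgroup Y} {u v w a b : Y}
    (h : S6T (MulAut.congr e φ) (U.map e.toMonoidHom) (e u) (e v) (e w) (e a) (e b)) : S6T φ U u v w a b :=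
  ⟨by simpa only [ch0 e] using h.mem, by simpa only [ch0 e] using h.vv, by simpa only [ch0 e] using h.ww,
    by simpa only [ch0 e] using h.uu, by simpa only [Ne, ch0 e] using h.u1, by simpa only [ch0 e] using h.vw,
    by simpa only [ch0 e, ch2 e] using h.a1, by simpa only [ch0 e] using h.a2,
    by simpa only [ch0 e, ch2 e] using h.b1, by simpa only [ch0 e] using h.b2,
    by simpa only [ch0 e, ch2 e, ch3 e] using h.xp,
    by simpa only [ch0 e, ch2 e, ch0 (MulAut.congr e)] using h.cen⟩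

theorem KA6.congr (e : Y ≃* Y') (h : KA6 Y') : KA6 Y := by
  refine ⟨h.uz.congr e, h.all.congr e, h.tc1.congr e, ch_oab e h.oab, by simpa only [ch2 e] using h.o8,
    h.pp.congr e, fun φ h1 h2 => (h.out (MulAut.congr e φ) (by rw [← map_mul, h1, map_one])
      (by simpa only [ch2 e] using h2)).imp (fun k => by simpa only [ch1 e, ch2 e, ch3 e] using k)
      fun ⟨⟨U, k1⟩, k2⟩ => ⟨?_, fun U hU => ?_⟩⟩
  · obtain ⟨U, hU⟩ := ch_syl e U
    exact ⟨U, by simpa only [hU, ch1 e, ch2 e] using k1⟩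
  · obtain ⟨U', hU'⟩ := ch_syl' e U
    have := k2 U' (by simpa only [hU', ch1 e, ch2 e] using hU)
    simp only [hU', ch0 e] at this
    obtain ⟨u, v, w, a, b, k⟩ := this
    exact ⟨u, v, w, a, b, k.congr e⟩

theorem Tq.congr (e : Y ≃* Y') {l : Y} : Tq (e l) ↔ Tq l :=
  Tc.congr (zq e) (l := QuotientGroup.mk l)

theorem KD.congr (e : Y ≃* Y') {z : Y} (h : KD (e z) p) : KD z p := by
  refine ⟨by simpa only [ch0 e] using h.z2, by simpa only [ch0 e] using h.cen, h.g1.congr e,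
    by simpa only [ch0 e, Tq.congr e] using h.l1, by simpa only [ch0 e, Tq.congr e] using h.l2,
    by simpa only [ch0 e, Tq.congr e] using h.tc1, h.pp.congr e,
    by simpa only [ch0 e, ch1 e, ch3 e, Tq.congr e] using h.zx, fun l hl α β x h1 h2 h3 => ?_⟩
  let f : XP p (centralizer ({l} : Set Y)) ≃* XP p (centralizer ({e l} : Set Y')) :=
    (Subgroup.equivMapOfInjective _ e.toMonoidHom e.injective).trans
      (MulEquiv.subgroupCongr (by rw [map_XP, cent_congr]))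
  have hf : ∀ x, (f x : Y') = e x := fun _ => rfl
  exact h.asym (e l) ((Tq.congr e).2 hl) (MulAut.congr f α) (MulAut.congr f β) (f x) (by rw [hf, h1])
    (by rw [(ch2 f).1, hf, h2]) (by rw [(ch2 f).1, hf, h3, map_mul])

theorem KDo.congr (e : Y ≃* Y') {z : Y} (h : KDo (e z)) : KDo z := by
  refine ⟨by simpa only [ch2 e, ch0 (MulAut.congr e)] using h.out, fun ψ h1 h2 h3 =>
    (h.dco (MulAut.congr e ψ) (by rw [← map_mul, h1, map_one]) (by simpa only [Ne, ch0 (MulAut.congr e)] using h2)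
      (by simpa only [ch0 e, ch2 e, ch0 (MulAut.congr e), Tq.congr e] using h3)).imp
      (fun k => by simpa only [ch0 e, ch1 e, ch2 e] using k) fun ⟨q, k1, k2⟩ => ⟨q, k1.congr e, ?_⟩⟩
  simpa only [ch0 e, ch1 e, ch2 e, ch3 e] using k2

theorem E5.congr (e : Y ≃* Y') {B : Subgroup (MulAut Y)} {D : Subgroup Y} {O1 O2 : Set (MulAut Y)}
    (h : E5 (B.map (MulAut.congr e).toMonoidHom) (D.map e.toMonoidHom) (MulAut.congr e '' O1)
      (MulAut.congr e '' O2)) : E5 B D O1 O2 := by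
  refine ⟨by simpa only [ch0 e, ch2 e, ch0 (MulAut.congr e)] using h.mem,
    by simpa only [ch1 e, ch0 (MulAut.congr e)] using h.card,
    by simpa only [ch2 e, ch0 (MulAut.congr e)] using h.out,
    (Set.disjoint_image_iff (MulAut.congr e).injective).1 h.dis,
    by simpa only [ch0 e, ch1 e, ch2 e, ch0 (MulAut.congr e)] using h.orb1,
    by simpa only [ch0 e, ch1 e, ch2 e, ch0 (MulAut.congr e)] using h.orb2,
    by simpa only [ch1 e] using h.irr,
    by simpa only [ch0 e, ch2 e, ch3 e, ch0 (MulAut.congr e)] using h.x10,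
    by simpa only [ch0 (MulAut.congr e)] using h.x6,
    by simpa only [ch0 e, ch1 e, ch2 e, ch0 (MulAut.congr e)] using h.big, ?_⟩
  obtain ⟨U, k⟩ := h.sy
  obtain ⟨U, hU⟩ := ch_syl e U
  exact ⟨U, by simpa only [hU, ch0 e, ch1 e] using k⟩

theorem K22.congr (e : Y ≃* Y') (h : K22 Y') : K22 Y := by
  refine ⟨h.all.congr e, h.pp.congr e, by simpa only [ch2 e] using h.out,
    by simpa only [ch0 e, ch1 e, ch2 e, ch3 e, ch0 (MulAut.congr e)] using h.cx,
    by simpa only [ch2 e, ch0 (MulAut.congr e), ch1 (MulAut.congr e)] using h.ex, fun B h1 h2 => ?_⟩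
  obtain ⟨D, O1, O2, k⟩ := h.str (B.map (MulAut.congr e).toMonoidHom)
    (by simpa only [ch0 (MulAut.congr e)] using h1) (by simpa only [ch1 (MulAut.congr e)] using h2)
  obtain ⟨D, rfl⟩ := ch_sub e D
  obtain ⟨O1, rfl⟩ := (MulAut.congr e).surjective.image_surjective O1
  obtain ⟨O2, rfl⟩ := (MulAut.congr e).surjective.image_surjective O2
  exact ⟨D, O1, O2, k.congr e⟩

theorem L34U.congr (e : Y ≃* Y') {z k : Y} {U F : Subgroup Y}
    (h : L34U (e z) (U.map e.toMonoidHom) (F.map e.toMonoidHom) (e k)) : L34U z U F k := by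
  refine ⟨by simpa only [ZU, ch0 e, ch1 e] using h.zen, by simpa only [ch0 e] using h.zF,
    by simpa only [ch1 e] using h.card, by simpa only [ch0 e, ch1 e] using h.hU,
    by simpa only [ch0 e] using h.hF, by simpa only [ch0 e, ch2 e, ch0 (MulAut.congr e)] using h.inv,
    by simpa only [ZU, ch0 e, ch1 e] using h.cls, by simpa only [ZU, Ne, ch0 e, ch1 e] using h.cm,
    by simpa only [ZU, ch0 e, ch1 e] using h.sqz, by simpa only [Ne, ch0 e] using h.na,
    by simpa only [ZU, ch0 e, ch1 e, ch2 e, ch0 (MulAut.congr e)] using h.out, fun α h1 h2 h3 => ?_⟩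
  have := h.sq (MulAut.congr e α) (by simpa only [ch0 (MulAut.congr e)] using h1)
    (by simpa only [ch0 e, ch2 e] using h2) (by simpa only [ch2 e] using h3)
  rw [show closure {x | ∃ u ∈ U.map e.toMonoidHom, x = u⁻¹ * MulAut.congr e α u} =
      (closure {x | ∃ u ∈ U, x = u⁻¹ * α u}).map e.toMonoidHom by
    rw [MonoidHom.map_closure]
    congr 1
    ext x
    obtain ⟨x, rfl⟩ := e.surjective x
    refine Iff.trans ?_ e.injective.mem_set_image.symm
    simp only [Set.mem_ofPred_eq, ch0 e, ch2 e]] at this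
  simpa only [Ne, ch0 e, ch2 e] using this

theorem K34.congr (e : Y ≃* Y') {z : Y} (h : K34 (e z)) : K34 z := by
  refine ⟨by simpa only [ch0 e] using h.z2, by simpa only [ch0 e] using h.cen,
    by simpa only [Ne, ch0 e] using h.lift, ?_,
    by simpa only [ch0 e, ch1 e, ch2 e, ch0 (MulAut.congr e)] using h.outc, ?_⟩
  · have := h.oute
    rw [ch_top (MulAut.congr e)] at this
    simpa only [ch2 e, ch0 (MulAut.congr e), ch1 (MulAut.congr e)] using this
  obtain ⟨U, F, k, h1⟩ := h.ex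
  obtain ⟨U, hU⟩ := ch_syl e U
  obtain ⟨F, rfl⟩ := ch_sub e F
  obtain ⟨k, rfl⟩ := e.surjective k
  exact ⟨U, F, k, .congr e (hU ▸ h1)⟩

theorem K34.all_sylow {z : Y} (h : K34 z) (U : Sylow 2 Y) : ∃ F k, L34U z (U : Subgroup Y) F k := by
  obtain ⟨V, F, k, h1⟩ := h.ex
  obtain ⟨g, hU⟩ := ch_conj U V
  obtain ⟨F, rfl⟩ := ch_sub (MulAut.conj g) F
  obtain ⟨k, rfl⟩ := (MulAut.conj g).surjective k
  have h2 : MulAut.conj g z = z := by
    rw [MulAut.conj_apply, mem_center_iff.1 ((h.cen z).2 (Or.inr rfl)) g, mul_inv_cancel_right]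
  exact ⟨F, k, .congr (MulAut.conj g) (h2.symm ▸ hU ▸ h1)⟩

end CfsgLib.QT4
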