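import Mathlib
import Cfsg.Agent.Lib.QT4.Defs
import Cfsg.Agent.Lib.QT3.MainA

/-!
Small tools on conjugates.
-/

set_option autoImplicit false

namespace CfsgLib.QT4.Xa

open Cfsg Subgroup CfsgLib.LBal CfsgLib.LAE CfsgLib.QT2 CfsgLib.QT3

variable {G : Type*} [Group G] {g x : G} {A B : Subgroup G}

theorem cj_mono (g : G) (h : A ≤ B) : cj g A ≤ cj g B := map_mono h

theorem cj_inf (g : G) (A B : Subgroup G) : cj g (A ⊓ B) = cj g A ⊓ cj g B := Tech.cj_inf g A B

theorem cj_nor (g : G) (A : Subgroup G) : cj g (nor A) = nor (cj g A) := St.cj_norm g A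

theorem cj_cen (g : G) (A : Subgroup G) : cj g (cen A) = cen (cj g A) := St.cj_cent g A

theorem cj_eq_bot : cj g A = ⊥ ↔ A = ⊥ := Tech.cj_eq_bot_iff

theorem nor_iff : g ∈ nor A ↔ cj g A = A := St.norm_iff

theorem cen_nor : cen A ≤ nor A := centralizer_le_normalizer _

theorem nor_cen : nor A ≤ nor (cen A) := LAE.normalizer_le_normalizer_centralizer A

theorem conj_cen (g : G) (h : x ∈ cen A) : g * x * g⁻¹ ∈ cen (cj g A) := cj_cen g A ▸ St.conj_mem_cj.2 h

theorem conj_nor (g : G) (h : x ∈ nor A) : g * x * g⁻¹ ∈ nor (cj g A) := cj_nor g A ▸ St.conj_mem_cj.2 h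

theorem ne_one (h : orderOf x = 2) : x ≠ 1 := fun e => by rw [e, orderOf_one] at h; omega

theorem e2 (h : orderOf x = 2) : E2 x := ⟨1, by rw [pow_one, ← h, pow_orderOf_eq_one]⟩

theorem e2_mem (h : IsPGroup 2 A) (hx : x ∈ A) : E2 x := isPGroup_iff_forall_mem.1 h x hx

theorem ne_bot (h : x ∈ A) (h1 : x ≠ 1) : A ≠ ⊥ := fun e => h1 (mem_bot.1 (e ▸ h))

theorem ord_conj (g x : G) : orderOf (g * x * g⁻¹) = orderOf x := (MulAut.conj g).orderOf_eq x

/-- a 2-element centralizing a Sylow subgroup lies in it -/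
theorem mem_syl {S H : Subgroup G} (hS : IsSylowIn 2 S H) (h1 : x ∈ H) (h2 : E2 x) (h3 : x ∈ cen S) : x ∈ S :=
  zpowers_le.1 (hS.le_of_normalizes (isPGroup_zpowers h2) (zpowers_le.2 h1) (zpowers_le.2 (cen_nor h3)))

/-- a central involution in a normal subgroup -/
theorem exists_z [Finite G] {S D : Subgroup G} (hS : IsPGroup 2 S) (hD : IsPGroup 2 D) (hn : S ≤ nor D)
    (h : D ≠ ⊥) : ∃ v ∈ D, orderOf v = 2 ∧ S ≤ centralizer {v} := by
  refine St.exists_cent_invol hS hn ?_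
  obtain ⟨n, e⟩ := hD.exists_card_eq
  rcases n with _ | n
  · exact absurd (card_eq_one.1 e) h
  · rw [e, pow_succ]; exact Even.mul_left even_two _

end CfsgLib.QT4.Xa
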