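import Mathlib
import Cfsg.Agent.Lib.QT4.BS
import Cfsg.Agent.Lib.QT4.EXA

/-!
Pairs containing a Sylow subgroup of `L`; full pairs, the easy cases.
-/

set_option autoImplicit false
set_option linter.unusedSectionVars false
set_option linter.unusedVariables false

namespace CfsgLib.QT4

open Cfsg Subgroup CfsgLib.LBal CfsgLib.LAE CfsgLib.QT2 CfsgLib.QT3 CfsgLib.QT4.Xa
open scoped MatrixGroups commutatorElement

variable {G : Type*} [Group G] [Finite G] {T : Sylow 2 G} {z : G} {L M P : Subgroup G}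

theorem Pr.iii_or (h : Pr T z L M P) (g1 : aG1 L) (hU : (T : Subgroup G) ⊓ L ≤ P) :
    (∃ l ∈ ZU ((T : Subgroup G) ⊓ L), orderOf l = 2 ∧ l ∈ cen M) ∨ ((T : Subgroup G) ⊓ L ⊓ cen M = ⊥ ∧
      ∃ f : (P ⊓ cen M : Subgroup G) → (P ⊓ cen L : Subgroup G), Function.Surjective f ∧
        ∀ r : (P ⊓ cen M : Subgroup G), (r : G) * (f r : G)⁻¹ ∈ ZU ((T : Subgroup G) ⊓ L)) := by
  have nM : (T : Subgroup G) ⊓ L ≤ nor (cen M) := (hU.trans h.PM).trans Xa.nor_cen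
  by_cases e : (T : Subgroup G) ⊓ L ⊓ cen M = ⊥
  · have k : ∀ r : (P ⊓ cen M : Subgroup G), ∃ c : (P ⊓ cen L : Subgroup G),
        (r : G) * (c : G)⁻¹ ∈ ZU ((T : Subgroup G) ⊓ L) := fun ⟨r, r1, r2⟩ => by
      have c1 : r ∈ cen ((T : Subgroup G) ⊓ L) := fun u hu => commutatorElement_eq_one_iff_mul_comm.1 (mem_bot.1
        (e ▸ mem_inf.2 ⟨St.comm_mem_left hu (LAE.le_normalizer_inf le_normalizer h.TN (h.le r1)),
          St.comm_mem_right (nM hu) r2⟩))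
      obtain ⟨l, hl, c, hc, rfl⟩ := h.dec (h.le r1) (g1 _ h.sylL r (h.PL r1) (e2_mem h.two' r1) c1)
      refine ⟨⟨c, (mul_mem_cancel_left (hU hl)).1 r1, hc.2⟩, ?_⟩
      exact mem_inf.2 ⟨by rwa [mul_inv_cancel_right], mul_mem c1 (inv_mem (centralizer_anti inf_le_right hc.2))⟩
    choose f hf using k
    refine .inr ⟨e, f, ((Nat.bijective_iff_injective_and_card f).2 ⟨fun r r' k => ?_, h.card_eq.symm⟩).2, hf⟩
    have m : (r : G) * (r' : G)⁻¹ ∈ (T : Subgroup G) ⊓ L ⊓ cen M := by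
      refine mem_inf.2 ⟨?_, mul_mem r.2.2 (inv_mem r'.2.2)⟩
      have := mul_mem (mem_inf.1 (hf r)).1 (inv_mem (mem_inf.1 (hf r')).1)
      rwa [k, show (r : G) * (f r' : G)⁻¹ * ((r' : G) * (f r' : G)⁻¹)⁻¹ = r * (r' : G)⁻¹ by group] at this
    exact Subtype.ext (mul_inv_eq_one.1 (mem_bot.1 (e ▸ m)))
  · obtain ⟨v, v1, v2, v3⟩ := exists_z T.isPGroup'.to_inf_left T.isPGroup'.to_inf_left.to_inf_left
      (LAE.le_normalizer_inf le_normalizer nM) e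
    exact .inl ⟨v, ⟨v1.1, St.le_c1.1 v3⟩, v2, v1.2⟩

theorem Pr.iii0 (h : Pr T z L M P) (h0 : center L = ⊥) (g1 : aG1 L) (hU : (T : Subgroup G) ⊓ L ≤ P) :
    ∃ l ∈ ZU ((T : Subgroup G) ⊓ L), orderOf l = 2 ∧ (l ∈ cen M ∨ l * z ∈ cen M) := by
  rcases h.iii_or g1 hU with ⟨l, a, b, c⟩ | ⟨e, f, hs, hf⟩
  · exact ⟨l, a, b, .inl c⟩
  obtain ⟨r, hr⟩ := hs ⟨z, h.zP, h.zL⟩
  have m : (r : G) * z⁻¹ ∈ ZU ((T : Subgroup G) ⊓ L) := by simpa only [hr] using hf r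
  have c : z * ((r : G) * z⁻¹) = r * z⁻¹ * z := (h.zL _ m.1.2).symm
  refine ⟨_, m, two_of_mul_self (mem_bot.1 (e ▸ mem_inf.2 ⟨mul_mem m.1 m.1, ?_⟩)) fun k => ?_,
    .inr (by simpa using r.2.2)⟩
  · have : (r : G) * z⁻¹ * (r * z⁻¹) = r * r := by
      calc _ = r * (z * z)⁻¹ * (z * (r * z⁻¹)) := by group
        _ = _ := by rw [c, h.zz]; group
    exact this ▸ mul_mem r.2.2 r.2.2
  · exact ne_one h.z2 (h.disj h.zL (mul_inv_eq_one.1 k ▸ r.2.2) (e2 h.z2))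

/-- the version for covers -/
theorem Pr.iiic (h : Pr T z L M P) (hz : z ∈ L) (g1 : aG1 L) (hU : (T : Subgroup G) ⊓ L ≤ P) :
    ∃ l ∈ ZU ((T : Subgroup G) ⊓ L), orderOf l = 2 ∧ l ∈ cen M := by
  refine (h.iii_or g1 hU).resolve_right fun ⟨e, f, hs, hf⟩ => ?_
  have k : ∀ c : (P ⊓ cen L : Subgroup G), (c : G) ∈ (T : Subgroup G) ⊓ L → f 1 = c := fun c hc => by
    obtain ⟨r, rfl⟩ := hs c
    have : (r : G) ∈ (T : Subgroup G) ⊓ L ⊓ cen M := ⟨(mul_mem_cancel_right (inv_mem hc)).1 (hf r).1, r.2.2⟩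
    rw [show r = 1 from Subtype.ext (mem_bot.1 (e ▸ this))]
  exact ne_one h.z2 (congrArg Subtype.val ((k ⟨z, h.zP, h.zL⟩ ⟨h.zT, hz⟩).symm.trans (k 1 (one_mem _))))

namespace Sd

variable (h : Sd T z L) (h0 : center L = ⊥)
include h0

omit [Finite G] in
theorem tc_not {l c : G} (hl : TC L l) (hc : c ∈ cen L) : l * c ∉ cen L := fun k =>
  ne_one hl.2.1 (St.center_bot.1 h0 l hl.1 ((mul_mem_cancel_right hc).1 k))

include h

theorem ord_lz {l : G} (hl : TC L l) : orderOf (l * z) = 2 :=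
  two_of_mul_self (by rw [mul_assoc, ← mul_assoc z, ← h.zL l hl.1, mul_assoc, h.zz, mul_one, mul_self_of_two hl.2.1])
    fun e => tc_not h0 hl h.zL (e ▸ one_mem _)

omit h0 in
theorem kt_lz {a l : G} (ha : a ∈ L) (hk : KT L (l * z)) : KT L (a * l * a⁻¹ * z) := by
  have := hk.conj a
  rwa [show a * (l * z) * a⁻¹ = a * l * a⁻¹ * (a * z) * a⁻¹ by group, h.zL a ha, mul_assoc _ (z * a),
    mul_inv_cancel_right] at this

omit h0 in
theorem mem_T {l : G} (h2 : orderOf l = 2) (h3 : (T : Subgroup G) ≤ centralizer {l}) : l ∈ (T : Subgroup G) :=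
  mem_syl (isSylowIn_top T) trivial (e2 h2) (St.le_c1.1 h3)

omit h0 in
theorem tc_zu {l : G} (h1 : l ∈ ZU ((T : Subgroup G) ⊓ L)) (h2 : orderOf l = 2) : TC L l :=
  tc_of_le h.sylL h1.1.2 h2 (St.le_c1.2 h1.2)

end Sd

theorem Sd.iii (h : Sd T z L) (h0 : center L = ⊥) (g1 : aG1 L) (tc : aTC1 L) {l c : G} (hl : TC L l)
    (hc : c ∈ cen L) (h2 : orderOf (l * c) = 2) (hk : KT L (l * c)) : Full T L := by
  obtain ⟨M, hM, m⟩ := hk
  obtain ⟨U, hU, le⟩ := TC.exists_sylow hl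
  have l1 : U ≤ centralizer {l * c} := fun u hu => St.mc1.2 (by
    rw [← mul_assoc, St.mc1.1 (le hu), mul_assoc, hc u (hU.le hu), mul_assoc])
  obtain ⟨g, hg, P, hP, l2⟩ := h.exists_pr hM (by rintro rfl; exact Sd.tc_not h0 hl hc m)
    (R := U ⊔ zpowers (l * c))
    (sup_le (le_inf (hU.le.trans le_normalizer) (l1.trans (h.cent_le hM m h2)))
      (zpowers_le.2 ⟨mul_mem (le_normalizer hl.1) (cen_nor hc), cen_nor m⟩))
    (isPGroup_sup hU.isPGroup (isPGroup_zpowers (e2 h2)) (l1.trans (by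
      rw [zpowers_eq_closure, ← centralizer_closure]; exact centralizer_le_normalizer _)))
    (Xa.ne_bot (x := l * c) ⟨mem_sup_right (mem_zpowers _), m⟩ (ne_one h2))
  have l3 := le_sup_left.trans l2
  have e := hU.eq_of_le _ hP.sylL.isPGroup (le_inf (l3.trans hP.le) hU.le) inf_le_right
  obtain ⟨l1, a1, a2, a3⟩ := hP.iii0 h0 g1 (e ▸ l3)
  obtain ⟨l0, b1, b2⟩ := hP.exists_l
  obtain ⟨a, ha, rfl⟩ := tc l1 l0 (hP.tc_zu a1 a2) b1
  rw [h.full_iff hP.toSd (Cj.refl L)]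
  rcases a3 with a3 | a3
  · exact hP.full_of_kt b2 b1.2.1 (KT.conj ⟨M, hM, a3⟩ a) (by simpa using Sd.tc_not h0 b1 (one_mem _))
  · exact hP.full_of_kt (fun t ht => St.mc1.2 (by
      rw [← mul_assoc, St.mc1.1 (b2 ht), mul_assoc, hP.zc t ht, ← mul_assoc])) (hP.ord_lz h0 b1)
      (hP.kt_lz ha ⟨M, hM, a3⟩) (Sd.tc_not h0 b1 hP.zL)

theorem Sd.par (h : Sd T z L) (h0 : center L = ⊥) (g1 : aG1 L) (tc : aTC1 L) (hF : Full T L) {l : G}
    (hl : TC L l) : KT L l := by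
  by_contra hn
  have no : ∀ x, TC L x → ¬ KT L x := fun x hx k => by
    obtain ⟨a, -, rfl⟩ := tc x l hx hl
    exact hn (k.conj a)
  let W : Subgroup G := omegaZ 2 (T : Subgroup G) ⊓ L
  have mW : ∀ x, x ∈ (W : Set G) \ {1} ↔ x ∈ L ∧ orderOf x = 2 ∧ (T : Subgroup G) ≤ centralizer {x} := fun x =>
    ⟨fun k => ⟨k.1.2, orderOf_eq_prime (mem_omegaZ.1 k.1.1).2.2 k.2, St.le_c1.2 (mem_omegaZ.1 k.1.1).2.1⟩,
      fun k => ⟨⟨mem_omegaZ.2 ⟨h.mem_T k.2.1 k.2.2, St.le_c1.1 k.2.2, k.2.1 ▸ pow_orderOf_eq_one x⟩, k.1⟩,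
        ne_one k.2.1⟩⟩
  have zu : ∀ x, x ∈ (W : Set G) \ {1} → x ∈ ZU ((T : Subgroup G) ⊓ L) := fun x k =>
    ⟨⟨omegaZ_le _ k.1.1, k.1.2⟩, centralizer_anti inf_le_left (omegaZ_le_centralizer _ k.1.1)⟩
  have tW : ∀ x, x ∈ (W : Set G) \ {1} → TC L x := fun x k => h.tc_zu (zu x k) ((mW x).1 k).2.1
  have uq : ∀ N, Cj L N → ∀ a ∈ ZU ((T : Subgroup G) ⊓ L), ∀ b ∈ ZU ((T : Subgroup G) ⊓ L), orderOf a = 2 →
      orderOf b = 2 → a * z ∈ cen N → b * z ∈ cen N → a = b := fun N hN a ha b hb oa ob ca cb => by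
    by_contra ne
    have c := mul_mem ca (inv_mem cb)
    rw [show a * z * (b * z)⁻¹ = a * b⁻¹ by group] at c
    refine no _ (h.tc_zu (mul_mem ha (inv_mem hb)) (two_of_mul_self ?_ fun e => ne (mul_inv_eq_one.1 e))) ⟨N, hN, c⟩
    rw [mul_assoc, ← mul_assoc b⁻¹, ha.2 _ (inv_mem hb.1), mul_assoc, ← mul_inv_rev, mul_self_of_two ob, inv_one,
      mul_one, mul_self_of_two oa]
  have ex : ∀ N ∈ Gam (T : Subgroup G) L \ {L}, ∃ x ∈ (W : Set G) \ {1}, x * z ∈ cen N := fun N hN => by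
    obtain ⟨x, x1, x2, x3⟩ := (h.pr_of_gam hN.1 hN.2).iii0 h0 g1 inf_le_left
    have x4 := x3.resolve_left fun k => no x (h.tc_zu x1 x2) ⟨N, hN.1.1, k⟩
    refine ⟨x, (mW x).2 ⟨x1.1.2, x2, fun t ht => St.mc1.2 (mul_inv_eq_iff_eq_mul.1 ?_)⟩, x4⟩
    have n : t ∈ nor ((T : Subgroup G) ⊓ L) := LAE.le_normalizer_inf le_normalizer h.TN ht
    refine uq N hN.1.1 _ ⟨St.conj_mem n x1.1, St.conj_mem (Xa.nor_cen n) x1.2⟩ x x1 ((ord_conj t x).trans x2) x2 ?_ x4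
    have := St.conj_mem (Xa.nor_cen (hN.1.2 ht)) x4
    rwa [show t * (x * z) * t⁻¹ = t * x * t⁻¹ * (t * z) * t⁻¹ by group, h.zc t ht, mul_assoc _ (z * t),
      mul_inv_cancel_right] at this
  have ex' : ∀ x ∈ (W : Set G) \ {1}, ∃ N ∈ Gam (T : Subgroup G) L \ {L}, x * z ∈ cen N := fun x hx => by
    obtain ⟨N, n1, n2⟩ := hF
    obtain ⟨y, y1, y2⟩ := ex N ⟨n1, n2⟩
    obtain ⟨a, ha, rfl⟩ := tc y x (tW y y1) (tW x hx)
    obtain ⟨N', a1, a2⟩ := h.kt_lz ha ⟨N, n1.1, y2⟩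
    refine ⟨N', ⟨⟨a1, le_trans (fun t ht => St.mc1.2 ?_) (h.cent_le a1 a2 (h.ord_lz h0 (tW _ hx)))⟩, ?_⟩, a2⟩
    · rw [← mul_assoc, St.mc1.1 (((mW _).1 hx).2.2 ht), mul_assoc, h.zc t ht, ← mul_assoc]
    · rintro rfl
      exact Sd.tc_not h0 (tW _ hx) h.zL a2
  choose f f1 f2 using ex'
  have e : ((W : Set G) \ {1}).ncard = (Gam (T : Subgroup G) L \ {L}).ncard := Set.ncard_congr f f1
    (fun a b ha hb e => uq _ (f1 b hb).1.1 a (zu a ha) b (zu b hb) (tW a ha).2.1 (tW b hb).2.1 (e ▸ f2 a ha) (f2 b hb))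
    fun N hN => by
      obtain ⟨x, x1, x2⟩ := ex N hN
      have o := h.ord_lz h0 (tW x x1)
      exact ⟨x, x1, h.te (f1 x x1).1.1 hN.1.1 (f2 x x1) x2 (e2 o) (ne_one o)⟩
  have e1 := Set.ncard_sdiff_singleton_add_one (s := (W : Set G)) W.one_mem
  have e2 := Set.ncard_sdiff_singleton_add_one h.self_gam
  obtain ⟨l0, b1, b2⟩ := h.exists_l
  have d := W.orderOf_dvd_natCard ((mW l0).2 ⟨b1.1, b1.2.1, b2⟩).1
  have o := h.gam_odd
  rw [b1.2.1, show Nat.card W = (W : Set G).ncard from rfl, ← e1, e, e2] at d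
  exact o.not_two_dvd_nat d

theorem Sd.uz (h : Sd T z L) (h0 : center L = ⊥) (hu : Al aUZ L)
    (hk : ∀ l ∈ ZU ((T : Subgroup G) ⊓ L), orderOf l = 2 → KT L l) : False := by
  obtain ⟨l, b1, b2⟩ := h.exists_l
  have zu : ∀ {N : Subgroup G} {x : G}, x ∈ N → orderOf x = 2 → (T : Subgroup G) ≤ centralizer {x} →
      x ∈ ZU ((T : Subgroup G) ⊓ N) := fun a b c =>
    ⟨⟨h.mem_T b c, a⟩, centralizer_anti inf_le_left (St.le_c1.1 c)⟩
  obtain ⟨M, hM, m⟩ := hk l (zu b1.1 b1.2.1 b2) b1.2.1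
  have g : M ∈ Gam (T : Subgroup G) L := ⟨hM, b2.trans (h.cent_le hM m b1.2.1)⟩
  obtain ⟨y, -, h'⟩ := h.gam_sd g
  obtain ⟨n, hn, rfl⟩ := h.gam g
  have o : orderOf (n * l * n⁻¹) = 2 := (ord_conj n l).trans b1.2.1
  have c : (T : Subgroup G) ≤ centralizer {n * l * n⁻¹} := by
    rw [← St.cj_cent1, ← nor_iff.1 hn]; exact cj_mono n b2
  have lM : n * l * n⁻¹ ∈ cj n L := St.conj_mem_cj.2 b1.1
  obtain ⟨na, u2⟩ := hu _ hM _ h'.sylL
  have nL : (T : Subgroup G) ≤ nor ((T : Subgroup G) ⊓ L) := LAE.le_normalizer_inf le_normalizer h.TN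
  have nM : (T : Subgroup G) ≤ nor ((T : Subgroup G) ⊓ cj n L) := LAE.le_normalizer_inf le_normalizer g.2
  have k : ∀ D : Subgroup G, (T : Subgroup G) ≤ nor D → (T : Subgroup G) ⊓ cj n L ⊓ D ≠ ⊥ → n * l * n⁻¹ ∈ D :=
    fun D hD e => by
      obtain ⟨v, v1, v2, v3⟩ := exists_z T.isPGroup' T.isPGroup'.to_inf_left.to_inf_left
        (LAE.le_normalizer_inf nM hD) e
      exact u2 _ (zu v1.1.2 v2 v3) _ (zu lM o c) v2 o ▸ v1.2
  have e1 : (T : Subgroup G) ⊓ cj n L ⊓ L = ⊥ := by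
    by_contra e
    have := (hu.self _ h.sylL).2 _ (zu (k L h.TN e) o c) _ (zu b1.1 b1.2.1 b2) o b1.2.1
    exact ne_one b1.2.1 (St.center_bot.1 (hM.center h0) l (this ▸ lM) m)
  have c1 : (T : Subgroup G) ⊓ cj n L ≤ cen ((T : Subgroup G) ⊓ L) := fun a ha s hs =>
    commutatorElement_eq_one_iff_mul_comm.1 (mem_bot.1 (e1 ▸ mem_inf.2
      ⟨St.comm_mem_right (nM hs.1) ha, St.comm_mem_left hs.2 (h.TN ha.1)⟩))
  have hO : pPrimeCore 2 L = ⊥ := by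
    have := Comp.isSimpleGroup_of_qs_of_center_eq_bot h.rc.2 h0
    refine (Normal.eq_bot_or_eq_top (H := pPrimeCore 2 L) inferInstance).resolve_right fun e => ?_
    have h2 : Odd (Nat.card (pPrimeCore 2 L)) := Core.odd_card_oddCore L
    rw [e, card_top] at h2
    exact Nat.not_even_iff_odd.2 h2 (even_card_of_qs h.rc.2)
  have m2 := k (cen L) (h.TN.trans Xa.nor_cen) fun e => na fun a ha b hb =>
    commutatorElement_eq_one_iff_mul_comm.1 (mem_bot.1 (e ▸ mem_inf.2 ⟨St.comm_mem_left hb (le_normalizer ha),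
      glab hO h.sylL T.isPGroup'.to_inf_left (inf_le_left.trans h.TN) c1 hb ha⟩))
  have e2 := h.te (hM.cj n) (Cj.refl L) (conj_cen n m) m2 (e2 o) (ne_one o)
  rw [← St.cj_mul] at e2
  rw [nor_iff.1 (mem_of_sq hn h.TN (nor_iff.2 e2))] at m
  exact ne_one b1.2.1 (St.center_bot.1 h0 l b1.1 m)

theorem Sd.inn (h : Sd T z L) (h0 : center L = ⊥) (hi : aIN L) {l : G} (hl : TC L l) (hk : KT L l) : False := by
  obtain ⟨p, hp, hx⟩ := hi
  obtain ⟨M, hM, m⟩ := hk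
  have := hx l hl
  rw [(h.xp hp (Cj.refl L) hM h.zL h.z2 m hl.2.1).1] at this
  exact ne_one hl.2.1 (St.center_bot.1 (hM.center h0) l (XP_le p _ this).2 m)

end CfsgLib.QT4
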