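import Mathlib
import Cfsg.Agent.Lib.QT4.BS
import Cfsg.Agent.Lib.Transfer.Thompson

/-!
Small tools for full pairs.
-/

set_option autoImplicit false

namespace CfsgLib.QT4.ZA

open Cfsg Subgroup CfsgLib.LBal CfsgLib.LAE CfsgLib.QT2 CfsgLib.QT3
open scoped commutatorElement

variable {G : Type*} [Group G] {T : Sylow 2 G} {z : G} {L M : Subgroup G}

theorem e2 {y : G} (hy : y ∈ (T : Subgroup G)) : E2 y := isPGroup_iff_forall_mem.1 T.isPGroup' y hy

theorem sq_mul {a c : G} (h : a * c = c * a) : a * c * (a * c) = a * a * (c * c) := by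
  rw [mul_assoc, ← mul_assoc c, ← h]
  simp only [mul_assoc]

theorem sq_split (h0 : center L = ⊥) {a c : G} (ha : a ∈ L) (hc : c ∈ cen L) (h : a * c * (a * c) = 1) :
    a * a = 1 ∧ c * c = 1 := by
  rw [sq_mul (hc a ha)] at h
  have h1 : a * a = 1 := St.center_bot.1 h0 _ (mul_mem ha ha) (eq_inv_of_mul_eq_one_left h ▸ inv_mem (mul_mem hc hc))
  exact ⟨h1, by rwa [h1, one_mul] at h⟩

theorem comm_right {u a c : G} (h : u * c = c * u) : ⁅u, a * c⁆ = ⁅u, a⁆ := by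
  rw [commutatorElement_def, commutatorElement_def, mul_assoc u, mul_assoc u, mul_assoc a, ← (Commute.inv_left h).eq]
  group

theorem comm_left {u a c : G} (h : u * c = c * u) : ⁅a * c, u⁆ = ⁅a, u⁆ := by
  rw [← commutatorElement_inv, comm_right h, commutatorElement_inv]

theorem ord2 {a : G} (h : a * a = 1) (h1 : a ≠ 1) : orderOf a = 2 := orderOf_eq_prime (by rwa [pow_two]) h1

theorem sq1 {a : G} (h : orderOf a = 2) : a * a = 1 := by rw [← pow_two, ← h, pow_orderOf_eq_one]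

theorem ne1 {a : G} (h : orderOf a = 2) : a ≠ 1 := by
  rintro rfl
  simp at h

theorem cj_inf {n : G} {S : Subgroup G} (hn : n ∈ nor S) (X : Subgroup G) : cj n (S ⊓ X) = S ⊓ cj n X := by
  conv_rhs => rw [← St.norm_iff.1 hn]
  exact conjS_inf n S X

theorem cj_cen (n : G) (L : Subgroup G) : cj n (cen L) = cen (cj n L) := St.cj_cent n L

theorem cj_LK (n : G) (L : Subgroup G) : cj n (LK L) = LK (cj n L) := by rw [St.cj_sup, St.cj_cent]

variable [Finite G]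

theorem disj (h : Sd T z L) {A B : Subgroup G} (hA : Cj L A) (hB : Cj L B) (hne : A ≠ B) {y : G}
    (h0 : y ∈ (T : Subgroup G)) (h1 : y ∈ cen A) (h2 : y ∈ cen B) : y = 1 :=
  by_contra fun e => hne (h.te hA hB h1 h2 (e2 h0) e)

theorem gam_eq (h : Cj L M) (S : Subgroup G) : Gam S M = Gam S L :=
  Set.ext fun _ => and_congr_left' ⟨h.trans, h.symm.trans⟩

theorem gam2 (h : Sd T z L) {A B : Subgroup G} (hA : A ∈ Gam (T : Subgroup G) L) (hB : B ∈ Gam (T : Subgroup G) L) :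
    ∃ n ∈ nor (T : Subgroup G), cj n A = B := by
  obtain ⟨y, -, k⟩ := h.gam_sd hA
  exact k.gam (by rwa [gam_eq hA.1])

/-- a cyclic quotient has only one involution -/
theorem uniq (h : aOCyc L) {S : Subgroup G} (h1 : S ≤ nor L) (h2 : IsPGroup 2 S) {a b : G} (ha : a ∈ S) (hb : b ∈ S)
    (a1 : a ∉ LK L) (a2 : a * a ∈ LK L) (b1 : b ∉ LK L) (b2 : b * b ∈ LK L) : a⁻¹ * b ∈ LK L := by
  obtain ⟨s, hs, k⟩ := h S h1 h2
  have := normal_subgroupOf_of_le (nor_LK (L := L))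
  let φ := QuotientGroup.mk' ((LK L).subgroupOf (nor L))
  have e : ∀ x : nor L, φ x = 1 ↔ (x : G) ∈ LK L := fun x => QuotientGroup.eq_one_iff x
  have m : ∀ x (hx : x ∈ S), φ ⟨x, h1 hx⟩ ∈ zpowers (φ ⟨s, h1 hs⟩) := fun x hx => by
    obtain ⟨l, hl, _, ⟨i, rfl⟩, rfl⟩ :=
      (mem_sup_iff_of_right_le_normalizer (zpowers_le.2 (nor_LK (h1 hs)))).1 (k hx)
    refine ⟨i, ?_⟩
    rw [show (⟨l * s ^ i, h1 hx⟩ : nor L) = ⟨l, LK_le hl⟩ * ⟨s, h1 hs⟩ ^ i from rfl, map_mul, (e ⟨l, LK_le hl⟩).2 hl, one_mul,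
      map_zpow]
  have := Transfer.eq_of_orderOf_eq_two_of_isCyclic inferInstance (m a ha) (m b hb)
    (ord2 (by rw [← map_mul, e]; exact a2) fun c => a1 ((e _).1 c))
    (ord2 (by rw [← map_mul, e]; exact b2) fun c => b1 ((e _).1 c))
  exact (e (⟨a, h1 ha⟩⁻¹ * ⟨b, h1 hb⟩)).1 (by rw [map_mul, map_inv, this, inv_mul_cancel])

theorem exists_z {D : Subgroup G} (h1 : D ≤ T) (h2 : (T : Subgroup G) ≤ nor D) (h3 : D ≠ ⊥) :
    ∃ v ∈ D, orderOf v = 2 ∧ (T : Subgroup G) ≤ centralizer {v} := by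
  obtain ⟨t, ht, k⟩ := StdR2.exists_inv_of_pgroup (T.isPGroup'.to_le h1) h3
  exact St.exists_cent_invol T.isPGroup' h2 (even_iff_two_dvd.2 (k ▸ D.orderOf_dvd_natCard ht))

end CfsgLib.QT4.ZA
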