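import Mathlib
import Cfsg.Agent.Lib.QT4.BS
import Cfsg.Agent.Lib.QT4.ZQA
import Cfsg.Agent.Lib.Transfer.Focal

/-!
Full pairs: elementary abelian Sylow subgroups.
-/

set_option autoImplicit false

namespace CfsgLib.QT4

open Cfsg Subgroup CfsgLib.LBal CfsgLib.LAE CfsgLib.QT2 CfsgLib.QT3
open scoped MatrixGroups commutatorElement

variable {G : Type*} [Group G] [Finite G] {T : Sylow 2 G} {z : G} {L M P : Subgroup G}

/-- a strongly closed subgroup with cyclic quotient -/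
theorem ab_trf (hG : commutator G = ⊤) {N : Subgroup G} (hN : (T : Subgroup G) ≤ nor N) {s : G}
    (hs : s ∈ (T : Subgroup G)) (h : (T : Subgroup G) ≤ N ⊔ zpowers s)
    (hc : ∀ y ∈ (T : Subgroup G), ∀ g, g * y * g⁻¹ ∈ (T : Subgroup G) → g * y * g⁻¹ ∈ N → y ∈ N) :
    (T : Subgroup G) ≤ N := by
  have := normal_subgroupOf_of_le hN
  let φ := QuotientGroup.mk' (N.subgroupOf T)
  have e : ∀ x : (T : Subgroup G), φ x = 1 ↔ (x : G) ∈ N := fun x => QuotientGroup.eq_one_iff x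
  obtain ⟨σ, hσ⟩ : ∃ σ, φ ⟨s, hs⟩ = σ := ⟨_, rfl⟩
  have m : ∀ x : (T : Subgroup G), ∃ i : ℕ, σ ^ i = φ x := fun ⟨x, hx⟩ => by
    obtain ⟨l, hl, _, ⟨i, rfl⟩, rfl⟩ := (mem_sup_iff_of_right_le_normalizer (zpowers_le.2 (hN hs))).1 (h hx)
    refine mem_powers_iff_mem_zpowers.2 ⟨i, ?_⟩
    rw [show (⟨l * s ^ i, hx⟩ : (T : Subgroup G)) = ⟨l, (mul_mem_cancel_right (zpow_mem hs i)).1 hx⟩ * ⟨s, hs⟩ ^ i
      from rfl, map_mul, (e ⟨l, _⟩).2 hl, one_mul, map_zpow, hσ]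
  obtain ⟨n, hn⟩ := IsPGroup.iff_orderOf.1 (T.isPGroup'.to_quotient (N.subgroupOf T)) σ
  obtain rfl | ⟨n, rfl⟩ := n.eq_zero_or_eq_succ_pred.imp_right fun k => (⟨_, k⟩ : ∃ k, n = k + 1)
  · intro x hx
    obtain ⟨i, hi⟩ := m ⟨x, hx⟩
    exact (e ⟨x, hx⟩).1 (by rw [← hi, orderOf_eq_one_iff.1 hn, one_pow])
  have par : ∀ i : ℕ, Even i ↔ (σ ^ i) ^ 2 ^ n = 1 := fun i => by
    rw [← pow_mul, ← orderOf_dvd_iff_pow_eq_one, hn, pow_succ', Nat.mul_dvd_mul_iff_right (by positivity),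
      even_iff_two_dvd]
  have h1 : (T : Subgroup G).focalSubgroup ≤ ((zpowers (σ ^ 2)).comap φ).map (T : Subgroup G).subtype :=
    Transfer.focalSubgroup_le_iff.2 fun x hx g hg => by
      obtain ⟨i, hi⟩ := m ⟨x, hx⟩
      obtain ⟨j, hj⟩ := m ⟨_, hg⟩
      have h2 : Even j ↔ Even i := by
        rw [par, par, hi, hj, ← map_pow, ← map_pow, e, e, coe_pow, coe_pow, conj_pow]
        have m1 := pow_mem hg (2 ^ n)
        rw [conj_pow] at m1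
        refine ⟨hc _ (pow_mem hx _) g m1, fun k => hc _ m1 g⁻¹ ?_ ?_⟩
        · simpa [mul_assoc] using pow_mem hx _
        · simpa [mul_assoc] using k
      obtain ⟨k, hk⟩ : Even ((j : ℤ) - i) := by simpa [Int.even_sub] using h2
      refine ⟨⟨x, hx⟩⁻¹ * ⟨_, hg⟩, ⟨k, ?_⟩, rfl⟩
      simp only
      rw [map_mul, map_inv, ← hi, ← hj, pow_two, ← zpow_natCast, ← zpow_natCast, ← zpow_neg, ← zpow_add, neg_add_eq_sub,
        hk, zpow_add, (Commute.refl σ).mul_zpow]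
  obtain ⟨x, ⟨k, hk⟩, rfl⟩ := h1 ((commutator_inf_eq_focalSubgroup T).le ⟨hG.ge (mem_top s), hs⟩)
  have h2 : (σ ^ 1) ^ 2 ^ n = 1 := by
    rw [pow_one, ← hσ, show φ ⟨_, hs⟩ = φ x from rfl, ← hk, ← zpow_natCast, ← zpow_mul, mul_comm, zpow_mul,
      zpow_natCast, (par 2).1 even_two, one_zpow]
  exact absurd ((par 1).2 h2) (by decide)

omit [Finite G] in
theorem ab_c3 {a b : G} (ha : a * a = 1) (hb : b * b = 1) (h : a * b * (a * b) = 1) : a * b = b * a := by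
  rw [eq_inv_of_mul_eq_one_left h, mul_inv_rev, inv_eq_of_mul_eq_one_right ha, inv_eq_of_mul_eq_one_right hb]

omit [Finite G] in
theorem ab_comm {S : Subgroup G} (e : ∀ a ∈ S, a * a = 1) {a b : G} (ha : a ∈ S) (hb : b ∈ S) : a * b = b * a :=
  ab_c3 (e a ha) (e b hb) (e _ (mul_mem ha hb))

omit [Finite G] in
theorem ab_pow {N : Subgroup G} {x : G} (h : E2 x) (h1 : x ∉ N) : ∃ k : ℕ, x ^ k ∉ N ∧ x ^ k * x ^ k ∈ N := by
  obtain ⟨k, hk⟩ := h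
  induction k generalizing x with
  | zero => exact absurd (by simp [show x = 1 by simpa using hk]) h1
  | succ k ih =>
    by_cases e : x ^ 2 ∈ N
    · exact ⟨1, by simpa using h1, by simpa [pow_two] using e⟩
    · obtain ⟨j, hj⟩ := ih e (by rwa [← pow_mul, ← pow_succ'])
      exact ⟨2 * j, by rwa [pow_mul]⟩

omit [Finite G] in
theorem ab_cj {S : Subgroup G} (e : ∀ a ∈ S, a * a = 1) (g : G) : ∀ a ∈ cj g S, a * a = 1 := fun a ha => by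
  obtain ⟨b, hb, rfl⟩ := exists_of_mem_conjS ha
  rw [conj_mul, e b hb, mul_one, mul_inv_cancel]

theorem ab_A (h : Sd T z L) (hq : aAB L) (g1 : aG1 L) (hF : Full T L) :
    ∀ a ∈ (T : Subgroup G) ⊓ LK L, a * a = 1 := by
  have eU := hq.2 _ h.sylL
  obtain ⟨A, hA, h1, h2⟩ : ∃ A ∈ Gam (T : Subgroup G) L, A ≠ L ∧ (T : Subgroup G) ⊓ cen A ≤ LK L := by
    obtain ⟨A, hA, B, hB, h1, h2, h3⟩ := h.three hF
    by_contra! e
    obtain ⟨a, ha, a0⟩ := SetLike.not_le_iff_exists.1 (e A hA h1)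
    obtain ⟨b, hb, b0⟩ := SetLike.not_le_iff_exists.1 (e B hB h2)
    obtain ⟨i, a1, a2⟩ := ab_pow (ZA.e2 ha.1) a0
    obtain ⟨j, b1, b2⟩ := ab_pow (ZA.e2 hb.1) b0
    replace ha := pow_mem ha i
    replace hb := pow_mem hb j
    obtain ⟨l, hl, c, hc, k⟩ := h.dec (mul_mem (inv_mem ha.1) hb.1)
      (ZA.uniq hq.1 h.TN T.isPGroup' ha.1 hb.1 a1 a2 b1 b2)
    refine a1 (g1 _ h.sylL _ (h.TN ha.1) (ZA.e2 ha.1) fun u hu => commutatorElement_eq_one_iff_mul_comm.1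
      (ZA.disj h hA.1 hB.1 h3 (St.comm_mem_left hu.1 (le_normalizer ha.1))
        (St.comm_mem_right (St.norm_cent (hA.2 hu.1)) ha.2) ?_))
    rw [← ZA.comm_right (c := l * c) (Commute.mul_right (ab_comm eU hu hl) (hc.2 u hu.2)), ← k, mul_inv_cancel_left]
    exact St.comm_mem_right (St.norm_cent (hB.2 hu.1)) hb.2
  obtain ⟨n, hn, k⟩ := ZA.gam2 h hA h.self_gam
  have eQ := ab_cj (S := (T : Subgroup G) ⊓ cen A) (fun r hr => by
    obtain ⟨l, hl, c, hc, rfl⟩ := h.dec hr.1 (h2 hr)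
    refine ZA.disj h (Cj.refl L) hA.1 h1.symm (mul_mem hr.1 hr.1) ?_ (mul_mem hr.2 hr.2)
    rw [ZA.sq_mul (hc.2 l hl.2), eU l hl, one_mul]
    exact mul_mem hc.2 hc.2) n
  rw [ZA.cj_inf hn, cj_cen, k] at eQ
  intro a ha
  obtain ⟨l, hl, c, hc, rfl⟩ := h.dec ha.1 ha.2
  rw [ZA.sq_mul (hc.2 l hl.2), eU l hl, eQ c hc, one_mul]

/-- elementary abelian subgroups of `T` of the order of `T ⊓ LK L` -/
def AbB (T : Sylow 2 G) (L B : Subgroup G) : Prop :=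
  B ≤ T ∧ (∀ b ∈ B, b * b = 1) ∧ Nat.card B = Nat.card ((T : Subgroup G) ⊓ LK L : Subgroup G)

section

variable (h : Sd T z L) (oc : aOCyc L) (g1 : aG1 L) (eA : ∀ a ∈ (T : Subgroup G) ⊓ LK L, a * a = 1)
include h oc g1 eA

omit eA in
theorem ab_inf {B : Subgroup G} (hB : AbB T L B) {b : G} (hb : b ∈ B) (h1 : b ∉ LK L) :
    (T : Subgroup G) ⊓ LK L ⊓ centralizer {b} ≤ B := by
  have h2 := Core.card_inf_mul_relIndex (LK L) B
  rw [relIndex_eq_two_iff_exists_notMem_and'.2 ⟨b⁻¹, inv_mem hb, by rwa [inv_mem_iff], fun x hx => or_iff_not_imp_right.2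
    fun k => ZA.uniq oc h.TN T.isPGroup' (hB.1 hb) (hB.1 hx) h1 (hB.2.1 b hb ▸ one_mem _) k
      (hB.2.1 x hx ▸ one_mem _)⟩, hB.2.2] at h2
  obtain ⟨k, hk⟩ := card_dvd_of_le (inf_le_left : (T : Subgroup G) ⊓ LK L ⊓ centralizer {b} ≤ _)
  have h3 : k ≠ 1 := fun e => h1 (g1 _ h.sylL b (h.TN (hB.1 hb)) (ZA.e2 (hB.1 hb)) (St.le_c1.1
    ((inf_le_inf_left _ le_sup_left).trans (inf_eq_left.1 (eq_of_le_of_card_ge inf_le_left (by rw [hk, e, mul_one]))))))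
  have h4 : k ≠ 0 := fun e => Nat.card_pos.ne' (hk.trans (by rw [e, mul_zero]))
  refine (eq_of_le_of_card_ge (H := LK L ⊓ B) (K := (T : Subgroup G) ⊓ LK L ⊓ centralizer {b})
    (fun x hx => ⟨⟨hB.1 hx.2, hx.1⟩, St.mc1.2 (ab_comm hB.2.1 hx.2 hb)⟩)
    (Nat.le_of_mul_le_mul_right ?_ two_pos)).ge.trans inf_le_right
  rw [h2]
  exact (Nat.mul_le_mul_left _ (by omega)).trans hk.ge

theorem ab_uq {B B' : Subgroup G} (hB : AbB T L B) (hB' : AbB T L B') (h1 : B ≠ (T : Subgroup G) ⊓ LK L)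
    (h2 : B' ≠ (T : Subgroup G) ⊓ LK L) : B' = B := by
  have ex : ∀ {B}, AbB T L B → B ≠ (T : Subgroup G) ⊓ LK L → ∃ b ∈ B, b ∉ LK L := fun hB h1 =>
    SetLike.not_le_iff_exists.1 fun k => h1 (eq_of_le_of_card_ge (le_inf hB.1 k) hB.2.2.ge)
  obtain ⟨b, hb, b1⟩ := ex hB h1
  obtain ⟨c, hc, c1⟩ := ex hB' h2
  have bb := hB.2.1 b hb
  have k : ∀ x ∈ B', x ∉ LK L → x ∈ B := fun x hx x1 => by
    have m : b⁻¹ * x ∈ (T : Subgroup G) ⊓ LK L := mem_inf.2 ⟨mul_mem (inv_mem (hB.1 hb)) (hB'.1 hx),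
      ZA.uniq oc h.TN T.isPGroup' (hB.1 hb) (hB'.1 hx) b1 (bb ▸ one_mem _) x1 (hB'.2.1 x hx ▸ one_mem _)⟩
    exact (mul_mem_cancel_left (inv_mem hb)).1 (ab_inf h oc g1 hB hb b1 ⟨m, St.mc1.2
      (ab_c3 bb (eA _ m) (by rw [mul_inv_cancel_left, hB'.2.1 x hx])).symm⟩)
  refine eq_of_le_of_card_ge (fun x hx => by_contra fun e => ?_) (hB.2.2.trans hB'.2.2.symm).le
  exact e ((mul_mem_cancel_right (k c hc c1)).1 (k _ (mul_mem hx hc) fun m =>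
    c1 ((mul_mem_cancel_left (by_contra fun m' => e (k x hx m'))).1 m)))

theorem ab_wc (g : G) (hg : cj g ((T : Subgroup G) ⊓ LK L) ≤ T) :
    cj g ((T : Subgroup G) ⊓ LK L) = (T : Subgroup G) ⊓ LK L := by
  have big : ∀ g, cj g ((T : Subgroup G) ⊓ LK L) ≤ T → AbB T L (cj g ((T : Subgroup G) ⊓ LK L)) := fun g hg =>
    ⟨hg, ab_cj eA g, St.card_cj _ _⟩
  have tA : (T : Subgroup G) ≤ nor ((T : Subgroup G) ⊓ LK L) :=
    LAE.le_normalizer_inf le_normalizer (h.TN.trans nor_LK)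
  have le : ∀ n ∈ nor (T : Subgroup G), ∀ g, cj g ((T : Subgroup G) ⊓ LK L) ≤ T →
      cj (n * g) ((T : Subgroup G) ⊓ LK L) ≤ T := fun n hn g hg =>
    (St.cj_mul n g _).trans_le ((conjS_mono hg).trans (St.norm_iff.1 hn).le)
  have nA : nor (T : Subgroup G) ≤ nor ((T : Subgroup G) ⊓ LK L) := fun n hn => by
    have h1 : cj n ((T : Subgroup G) ⊓ LK L) ≤ T := (ZA.cj_inf hn _).trans_le inf_le_left
    by_contra e
    exact e (St.norm_iff.2 (St.cj_inj n ((St.cj_mul n n _).symm.trans (ab_uq h oc g1 eA (big n h1) (big _ (le n hn n h1))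
      (fun k => e (St.norm_iff.2 k)) fun k => e (mem_of_sq hn tA (St.norm_iff.2 k))))))
  by_contra e
  have h1 : (T : Subgroup G) ≤ cj g (nor ((T : Subgroup G) ⊓ LK L)) := fun t ht => by
    rw [cj_nor, St.norm_iff, ← St.cj_mul]
    refine ab_uq h oc g1 eA (big g hg) (big _ (le t (le_normalizer ht) g hg)) e fun k => e ?_
    rw [St.cj_mul] at k
    rw [← St.cj_eq_inv k, St.norm_iff.1 (tA (inv_mem ht))]
  obtain ⟨k, hk, h2⟩ := (isSylowIn_of_le T tA).exists_conj_le (isPGroup_conjS T.isPGroup' g⁻¹) (le_conjS_iff.1 h1)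
  rw [← conjS_mul] at h2
  exact e (St.norm_iff.1 (inv_mem_iff.1 ((mul_mem_cancel_left hk).1 (nA (St.norm_of_le h2)))))

theorem ab_gam (hM : M ∈ Gam (T : Subgroup G) L) : (T : Subgroup G) ⊓ LK M = (T : Subgroup G) ⊓ LK L := by
  obtain ⟨n, hn, rfl⟩ := h.gam hM
  rw [← cj_LK, ← ZA.cj_inf hn]
  exact ab_wc h oc g1 eA n ((ZA.cj_inf hn _).trans_le inf_le_left)

end

theorem ab_P (h : Sd T z L) (hq : aAB L) (tc : aTC1 L) (hM : Cj M L) {y l : G} (hy : y ∈ (T : Subgroup G) ⊓ LK L)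
    (h1 : y ∉ cen L) (hk : KT M y) (hl : l ∈ (T : Subgroup G) ⊓ L) : KT M (l * y) := by
  have eU := hq.2 _ h.sylL
  have t : ∀ u ∈ (T : Subgroup G) ⊓ L, u ≠ 1 → TC L u := fun u hu e =>
    tc_of_le h.sylL hu.2 (ZA.ord2 (eU u hu) e) fun x hx => St.mc1.2 (ab_comm eU hx hu)
  obtain ⟨u, hu, c, hc, rfl⟩ := h.dec hy.1 hy.2
  rw [← mul_assoc]
  by_cases e : l * u = 1
  · exact ⟨L, hM, by simpa [e] using hc.2⟩
  obtain ⟨g, hg, k⟩ := tc u (l * u) (t u hu fun e => h1 (by simpa [e] using hc.2)) (t _ (mul_mem hl hu) e)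
  have := hk.conj g
  rwa [← conj_mul, k, hc.2 g hg, mul_inv_cancel_right] at this

theorem ab_K (h : Sd T z L) (hq : Al aAB L) (g1 : aG1 L) (tc : Al aTC1 L) (hF : Full T L)
    (hk : ∀ l, TC L l → KT L l) : ∀ a ∈ (T : Subgroup G) ⊓ LK L, KT L a := by
  have eA := ab_A h hq.self g1 hF
  obtain ⟨A, hA, h1, u, hu, h2⟩ : ∃ A ∈ Gam (T : Subgroup G) L, A ≠ L ∧ ∃ u ∈ (T : Subgroup G) ⊓ L, u ∉ cen A := by
    obtain ⟨A, hA, B, hB, h1, h2, h3⟩ := h.three hF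
    obtain ⟨l, hl, l1⟩ := h.exists_l
    have m := mem_of_cent (e2_of_two hl.2.1) l1
    by_contra! e
    exact ZA.ne1 hl.2.1 (ZA.disj h hA.1 hB.1 h3 m (e A hA h1 l ⟨m, hl.1⟩) (e B hB h2 l ⟨m, hl.1⟩))
  obtain ⟨y, -, k⟩ := h.gam_sd hA
  have e := ab_gam h hq.self.1 g1 eA hA
  have uA : u ∈ (T : Subgroup G) ⊓ LK L := ⟨hu.1, mem_sup_left hu.2⟩
  intro a ha
  have m := e.ge (mul_mem (inv_mem uA) ha)
  obtain ⟨l, hl, c, hc, h3⟩ := k.dec m.1 m.2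
  have lA := e.le ⟨hl.1, mem_sup_left hl.2⟩
  have cA := e.le ⟨hc.1, mem_sup_right hc.2⟩
  rw [inv_mul_eq_iff_eq_mul.1 h3, ← mul_assoc, ab_comm eA uA lA, mul_assoc]
  refine ab_P k (hq A hA.1) (tc A hA.1) hA.1 (e.ge (mul_mem uA cA)) 
    (fun m => h2 ((mul_mem_cancel_right (H := cen A) hc.2).1 m)) ?_ hl
  by_cases c1 : c = 1
  · rw [c1, mul_one]
    exact hk u (tc_of_le h.sylL hu.2 (ZA.ord2 (eA u uA) fun e => h2 (e ▸ one_mem _)) fun x hx =>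
      St.mc1.2 (ab_comm eA ⟨hx.1, mem_sup_left hx.2⟩ uA))
  · exact ab_P h hq.self tc.self (Cj.refl L) cA (fun m => c1 (ZA.disj h (Cj.refl L) hA.1 h1.symm hc.1 m hc.2))
      ⟨A, hA.1, hc.2⟩ hu

theorem Sd.ab (h : Sd T z L) (h0 : center L = ⊥) (hq : Al aAB L) (g1 : Al aG1 L) (tc : Al aTC1 L) (hF : Full T L)
    (hk : ∀ l, TC L l → KT L l) : IsMulCommutative (T : Subgroup G) := by
  have eA := ab_A h hq.self g1.self hF
  suffices k : (T : Subgroup G) ≤ LK L from ⟨⟨fun a b => Subtype.ext (ab_comm eA ⟨a.2, k a.2⟩ ⟨b.2, k b.2⟩)⟩⟩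
  have := h.simple
  have hG : commutator G = ⊤ := (IsSimpleGroup.eq_bot_or_eq_top_of_normal _ inferInstance).resolve_left
    fun e => h.ncomm (le_centralizer_iff_isMulCommutative.1 (commutator_eq_bot_iff_le_centralizer.1 e) |>
      fun k => ⟨⟨fun a b => congrArg Subtype.val (k.1.1 ⟨a, mem_top a⟩ ⟨b, mem_top b⟩)⟩⟩)
  obtain ⟨s, hs, h1⟩ := hq.self.1 T h.TN T.isPGroup'
  refine ab_trf hG (h.TN.trans nor_LK) hs h1 fun y hy g g1' g2 => by_contra fun y1 => ?_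
  have hK := ab_K h hq g1.self tc hF hk
  have y2 : orderOf y = 2 := ZA.ord2 (by simpa [conj_mul] using eA _ ⟨g1', g2⟩) fun e => y1 (e ▸ one_mem _)
  obtain ⟨_, ⟨m, rfl⟩, y3⟩ : KT L y := (hK _ ⟨g1', g2⟩).isConj (isConj_iff.2 ⟨g, rfl⟩).symm
  obtain ⟨v, v1, v2, v3, v4⟩ : ∃ v ∈ (T : Subgroup G) ⊓ LK L, orderOf v = 2 ∧ (T : Subgroup G) ≤ centralizer {v} ∧
      v ∈ LK (cj m L) := by
    obtain ⟨u, hu, u1⟩ := h.exists_l
    have uA : u ∈ (T : Subgroup G) ⊓ LK L := ⟨mem_of_cent (e2_of_two hu.2.1) u1, mem_sup_left hu.1⟩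
    have zA : z ∈ (T : Subgroup G) ⊓ LK L := ⟨h.zT, mem_sup_right h.zL⟩
    by_cases e1 : z ∈ LK (cj m L)
    · exact ⟨z, zA, h.z2, h.Tz, e1⟩
    by_cases e2 : u ∈ LK (cj m L)
    · exact ⟨u, uA, hu.2.1, u1, e2⟩
    have m1 := mul_mem (inv_mem zA) uA
    refine ⟨z⁻¹ * u, m1, ZA.ord2 (eA _ m1) fun e => ZA.ne1 h.z2 (St.center_bot.1 h0 z (inv_mul_eq_one.1 e ▸ hu.1) h.zL),
      St.le_c1.2 (mul_mem (inv_mem (St.le_c1.1 h.Tz)) (St.le_c1.1 u1)), ?_⟩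
    exact ZA.uniq (hq _ ⟨m, rfl⟩).1 (inf_le_right.trans (h.cent_le ⟨m, rfl⟩ y3 y2)) (T.isPGroup'.to_inf_left)
      ⟨h.zT, St.mc_symm (h.Tz hy)⟩ ⟨uA.1, St.mc_symm (u1 hy)⟩ e1 (h.zz ▸ one_mem _) e2 (eA u uA ▸ one_mem _)
  obtain ⟨N, hN, v5⟩ := hK v v1
  have h2 := h.cent_le hN v5 v2
  obtain ⟨k, -, h3⟩ := ((h.syl.inf_of_normal LK_le nor_LK).conj m).exists_le_conj
    (T.isPGroup'.to_inf_left (K := LK (cj m L))) (inf_le_right.trans (cj_LK m L).ge)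
  rw [← conjS_mul] at h3
  obtain ⟨d, hd, h4⟩ := (isSylowIn_of_le T v3).exists_conj_le (isPGroup_conjS T.isPGroup'.to_inf_left (k * m))
    fun x hx => St.mc1.2 (ab_comm (ab_cj eA _) hx (h3 ⟨v1.1, v4⟩))
  have h5 := (conj_mem_conjS (g := d)).2 (h3 ⟨hy, mem_sup_right y3⟩)
  rw [← conjS_mul] at h4 h5
  have e := ab_gam h hq.self.1 g1.self eA ⟨hN, v3.trans h2⟩
  have h6 := conj_inv_mem_of_mem_normalizer (nor_LK (h2 hd))
    (e.ge ((ab_wc h hq.self.1 g1.self eA _ h4).le h5)).2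
  exact y1 (e.le ⟨hy, by simpa [mul_assoc] using h6⟩).2


end CfsgLib.QT4
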