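import Mathlib
import Cfsg.Agent.Lib.QT4.Defs
import Cfsg.Agent.Lib.RGD.Simple
import Cfsg.Agent.S2102

/-!
The double cover of `G₂(4)`.
-/

set_option autoImplicit false
set_option maxRecDepth 100000

namespace CfsgLib.QT4

open Cfsg Subgroup CfsgLib.LBal CfsgLib.LAE CfsgLib.QT2 CfsgLib.QT3
open scoped MatrixGroups commutatorElement

namespace KG24

/-- a projective representation in which a commutator of order two does not square to one -/
theorem sq_of_proj {Y C : Type} [Group Y] [Group C] (hp : Group.IsPerfect Y) (h : HasCyclicSchurMultiplier Y 2)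
    (ρ : Y →* C ⧸ center C) {a b : Y} {A B : C} (ha : ρ a = A) (hb : ρ b = B)
    (h1 : a⁻¹ * b⁻¹ * a * b * (a⁻¹ * b⁻¹ * a * b) = 1) (h2 : A⁻¹ * B⁻¹ * A * B * (A⁻¹ * B⁻¹ * A * B) ≠ 1) :
    SQ Y := by
  intro Γ _ _ σ hσ _ hne
  have := Schur.perfect_of_stem hσ
  obtain ⟨η, hη⟩ := Schur.exists_lift_of_perfect_cover h (Schur.centralExt_of_stem hσ) (by
    rw [Schur.stemKer_eq_ker_of_stem hσ, Nat.card_congr Multiplicative.toAdd, Nat.card_zmod]
    exact (one_lt_card_iff_ne_bot _).2 hne) (Schur.isCentralExt_pbFst ρ (Schur.isCentralExt_mk_center C))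
  obtain ⟨α, rfl⟩ := hσ.1 a
  obtain ⟨β, rfl⟩ := hσ.1 b
  let τ : Γ →* C := (Schur.pbSnd ρ (QuotientGroup.mk' (center C))).comp η
  have k : ∀ x (X : C), ρ (σ x) = X → ∃ z ∈ center C, τ x = X * z := fun x X hx => by
    refine ⟨X⁻¹ * τ x, QuotientGroup.eq.1 ?_, by group⟩
    rw [← hx, ← hη]
    exact (η x).2
  obtain ⟨z, hz, k1⟩ := k α A ha
  obtain ⟨w, hw, k2⟩ := k β B hb
  refine ⟨α⁻¹ * β⁻¹ * α * β, by simpa only [map_mul, map_inv] using h1, fun h3 => h2 ?_⟩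
  have h4 := congrArg τ h3
  simp only [map_mul, map_inv, map_one, k1, k2] at h4
  have h5 : (A * z)⁻¹ * (B * w)⁻¹ * (A * z) * (B * w) = A⁻¹ * B⁻¹ * A * B := by
    have c1 := mem_center_iff.1 hz
    have c2 := mem_center_iff.1 hw
    calc _ = z⁻¹ * (A⁻¹ * w⁻¹ * B⁻¹ * A * z) * B * w := by group
      _ = z⁻¹ * (z * (A⁻¹ * w⁻¹ * B⁻¹ * A)) * B * w := by rw [c1]
      _ = A⁻¹ * w⁻¹ * (B⁻¹ * A * B * w) := by group
      _ = A⁻¹ * w⁻¹ * (w * (B⁻¹ * A * B)) := by rw [c2]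
      _ = _ := by group
  rwa [h5] at h4

open CfsgLib.Comput CfsgLib.MultC CfsgLib.LieModel.G24.P CfsgLib.MultC.G24.Cov

theorem eg : allL (eqChk (stepT 1365 11 W) (idTab 1365 11))
    [([27, 26], []), ([12, 11], []), ([27, 12, 26, 11, 27, 12, 26, 11], [])] = true := by decide +kernel

theorem ey : allL (eqChk (stepT 8064 13 Y) (idTab 8064 13))
    [([27, 26], []), ([12, 11], []), ([27, 12, 26, 11, 27, 12, 26, 11], [0x2020])] = true := by decide +kernel

theorem ny : tb (act (stepN Y) 0x2020 (1 <<< 0)) 0 = false := by decide +kernel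

theorem ev1 {P : Type*} [Group P] (g : ℕ → P) :
    ev g 27 = g 26 ∧ ev g 26 = g 25 ∧ ev g 12 = g 11 ∧ ev g 11 = g 10 :=
  ⟨one_mul _, one_mul _, one_mul _, one_mul _⟩

theorem comm_eq {P : Type*} [Group P] {g : ℕ → P} {step : ℕ → ℕ → ℕ} {x0 : ℕ} (M : WM g step x0) {l : List ℕ}
    (h : allL (eqChk step x0) [([27, 26], []), ([12, 11], []), ([27, 12, 26, 11, 27, 12, 26, 11], l)] = true) :
    (g 25)⁻¹ * (g 10)⁻¹ * g 25 * g 10 * ((g 25)⁻¹ * (g 10)⁻¹ * g 25 * g 10) = Comput.evL g l := by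
  have h1 : Comput.evL g [27, 26] = Comput.evL g [] := M.holds (e := ([27, 26], [])) (allL_sound h _ (by simp))
  have h2 : Comput.evL g [12, 11] = Comput.evL g [] := M.holds (e := ([12, 11], [])) (allL_sound h _ (by simp))
  have h3 : Comput.evL g [27, 12, 26, 11, 27, 12, 26, 11] = Comput.evL g l :=
    M.holds (e := ([27, 12, 26, 11, 27, 12, 26, 11], l)) (allL_sound h _ (by simp))
  obtain ⟨e1, e2, e3, e4⟩ := ev1 g
  simp only [evL_cons, evL_nil, e1, e2, e3, e4, mul_one] at h1 h2 h3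
  rw [← h3, eq_inv_of_mul_eq_one_left h1, eq_inv_of_mul_eq_one_left h2]
  simp only [mul_assoc]

theorem sq_perm (hp : Group.IsPerfect (cl (permG 1365 W) top))
    (h : HasCyclicSchurMultiplier (cl (permG 1365 W) top) 2) : SQ (cl (permG 1365 W) top) := by
  have hm := exists_letters W_ok (inA_top E)
  let g : ℕ → cl (permG 1365 W) top := fun m => ⟨_, hm m⟩
  have PM : PModel (cl (permG 1365 W) top) 1365 (finPt 1365) := (pModel_perm 1365 (by norm_num)).subgroup _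
  have hg : ∀ m, Acts 1365 (finPt 1365) (nth Net.nil W m) (g m) := acts_permG W_ok
  have E1 : Eqs g := eqs_of_WM (PM.wm hg (by norm_num))
  have E2 : Eqs (fun m => (g m, G24.Cov.cen.quo m)) :=
    { l6 := E1.l6.prod (G24.Cov.cen.allHold wmY G24.Cov.e_l6_0)
      x6 := E1.x6.prod (G24.Cov.cen.allHold wmY G24.Cov.e_x6_0)
      l5 := E1.l5.prod (G24.Cov.cen.allHold wmY G24.Cov.e_l5_0)
      x5 := E1.x5.prod (G24.Cov.cen.allHold wmY G24.Cov.e_x5_0)
      l4 := E1.l4.prod (G24.Cov.cen.allHold wmY G24.Cov.e_l4_0)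
      x4 := E1.x4.prod (G24.Cov.cen.allHold wmY G24.Cov.e_x4_0)
      l3 := E1.l3.prod (G24.Cov.cen.allHold wmY G24.Cov.e_l3_0)
      x3 := E1.x3.prod (G24.Cov.cen.allHold wmY G24.Cov.e_x3_0)
      l2 := E1.l2.prod (G24.Cov.cen.allHold wmY G24.Cov.e_l2_0)
      x2 := E1.x2.prod (G24.Cov.cen.allHold wmY G24.Cov.e_x2_0)
      l1 := E1.l1.prod (G24.Cov.cen.allHold wmY G24.Cov.e_l1_0)
      x1 := E1.x1.prod (G24.Cov.cen.allHold wmY G24.Cov.e_x1_0)
      l0 := E1.l0.prod (G24.Cov.cen.allHold wmY G24.Cov.e_l0_0)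
      x0 := E1.x0.prod (G24.Cov.cen.allHold wmY G24.Cov.e_x0_0)
      xd := E1.xd.prod (G24.Cov.cen.allHold wmY G24.Cov.e_xd_0)
      mx := E1.mx.prod (G24.Cov.cen.allHold wmY G24.Cov.e_mx_0)
      nc := E1.nc.prod (G24.Cov.cen.allHold wmY G24.Cov.e_nc_0) }
  let _ := fstAction (cl (permG 1365 W) top) (cenA (permG 8064 Y) (maskOf [31]) ⧸ Subgroup.center _) (Fin 1365)
  obtain ⟨ρ, hρ⟩ := exists_hom_of_card (cl_lift hm)
    ((card (sm_prod _ (PM.sm hg)) E2).trans card_perm.symm)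
  refine sq_of_proj hp h ρ (a := g 25) (b := g 10) (A := G24.Cov.cen.lift 25) (B := G24.Cov.cen.lift 10)
    (hρ _ (inA_top E2 25 (by decide))) (hρ _ (inA_top E2 10 (by decide)))
    (comm_eq (PM.wm hg (by norm_num)) eg) fun h1 => ?_
  have h2 := comm_eq wmY ey
  have h3 : Comput.evL (permG 8064 Y) [0x2020] = 1 := h2.symm.trans (congrArg Subtype.val h1)
  rw [evL_cons, evL_nil, mul_one] at h3
  exact (SM.perm Y_ok (by norm_num)).smul_pt_ne (w := 0x2020) (a := 0) (by norm_num) ny (by rw [h3, one_smul])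

end KG24

variable {Y : Type*} [Group Y] [Finite Y]

theorem sq_G24 {F : Type} [Field F] [Fintype F] (h : Fintype.card F = 4) : SQ (Lie.chevG2.group F) := by
  obtain ⟨e⟩ := CfsgLib.LieModel.G24.iso h
  have hp : Group.IsPerfect (Lie.chevG2.group F) := ⟨RGD.commutator_G2 (by
    classical
    by_contra hc
    push Not at hc
    have : (Finset.univ : Finset F) ⊆ {0, 1} := fun a _ => by
      by_cases h0 : a = 0
      · simp [h0]
      · simp [hc a h0]
    have h1 := (Finset.card_le_card this).trans Finset.card_le_two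
    rw [Finset.card_univ] at h1
    omega)⟩
  have k := KG24.sq_perm (Group.IsPerfect.ofSurjective (f := e.toMonoidHom) e.surjective)
    (Schur.mult_congr_left (Cfsg.Agent.S2102.result h) e)
  intro Γ _ _ σ h1 h2 h3
  have hk : (e.toMonoidHom.comp σ).ker = σ.ker := by ext x; simp [MonoidHom.mem_ker]
  obtain ⟨γ, h4, h5⟩ := k Γ (e.toMonoidHom.comp σ) ⟨e.surjective.comp h1.1, hk ▸ h1.2.1, hk ▸ h1.2.2⟩
    (hk ▸ h2) (hk ▸ h3)
  exact ⟨γ, e.injective (h4.trans (map_one e).symm), h5⟩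

end CfsgLib.QT4
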