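import Mathlib
import Cfsg.Agent.Lib.QT4.KT
import Cfsg.Agent.Lib.HX.Cls
import Cfsg.Agent.Lib.HX.Aut
import Cfsg.Agent.Lib.HX.InstG
import Cfsg.Agent.Lib.HX.InstD
import Cfsg.Agent.Lib.HX.Model

/-!
`G₂(q)` and `³D₄(q)`.
-/

set_option autoImplicit false
set_option linter.unusedSectionVars false

namespace CfsgLib.QT4

open Cfsg Subgroup CfsgLib.LBal CfsgLib.LAE CfsgLib.QT2 CfsgLib.QT3
open scoped MatrixGroups commutatorElement

variable {Y : Type*} [Group Y] [Finite Y]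

namespace Khx

open CfsgLib.HX

theorem aut_conj (φ : MulAut Y) (x : Y) : φ * MulAut.conj x * φ⁻¹ = MulAut.conj (φ x) := by
  ext y; simp

theorem mem_c {x l : Y} : x ∈ centralizer ({l} : Set Y) ↔ x * l = l * x := mem_centralizer_singleton_iff

theorem conj_XP {p : ℕ} {B : Subgroup Y} {g x : Y} (hg : g ∈ B) (hx : x ∈ XP p B) : g * x * g⁻¹ ∈ XP p B :=
  (closure_le ((XP p B).comap (MulAut.conj g).toMonoidHom)).2 (fun y hy => subset_closure
    ⟨mul_mem (mul_mem hg hy.1) (inv_mem hg), ((MulAut.conj g).orderOf_eq y).trans hy.2⟩) hx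

theorem cXP {p : ℕ} {l g : Y} (h : l ∈ XP p (centralizer {l})) :
    g * l * g⁻¹ ∈ XP p (centralizer {g * l * g⁻¹}) :=
  (closure_le ((XP p (centralizer {g * l * g⁻¹})).comap (MulAut.conj g).toMonoidHom)).2 (fun y hy => subset_closure
    ⟨mem_c.2 (by
      have := mem_c.1 hy.1
      show g * y * g⁻¹ * (g * l * g⁻¹) = g * l * g⁻¹ * (g * y * g⁻¹)
      rw [conj_mul, conj_mul, this]), ((MulAut.conj g).orderOf_eq y).trans hy.2⟩) h

/-- a normal 2-subgroup is centralized by the elements centralized by a Sylow 2-subgroup -/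
theorem c2_cent {B D : Subgroup Y} {u : Y} (h : C2 B u) (h1 : D ≤ B) (h2 : B ≤ normalizer (D : Set Y))
    (h3 : IsPGroup 2 D) : u ∈ centralizer (D : Set Y) := by
  obtain ⟨S⟩ : Nonempty (Sylow 2 ((centralizer {u}).subgroupOf B)) := inferInstance
  have : (D.subgroupOf B).Normal := (normal_subgroupOf_iff_le_normalizer h1).2 h2
  obtain ⟨T, hT⟩ := (S.isPGroup'.map ((centralizer {u}).subgroupOf B).subtype).exists_le_sylow
  have e : (S : Subgroup _).map ((centralizer {u}).subgroupOf B).subtype = T := by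
    refine eq_of_le_of_card_ge hT (Nat.le_of_dvd Nat.card_pos ?_)
    obtain ⟨k, hk⟩ := T.isPGroup'.exists_card_eq
    have h4 := card_subgroup_dvd_card (T : Subgroup B)
    rw [← index_mul_card ((centralizer {u}).subgroupOf B), ← index_mul_card (S : Subgroup ((centralizer {u}).subgroupOf B)), ← mul_assoc, hk] at h4
    rw [Core.card_map_subtype, hk]
    refine Nat.Coprime.dvd_of_dvd_mul_left (Nat.Coprime.pow_left k (Nat.Coprime.mul_right ?_ ?_)) h4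
    · exact (Nat.coprime_two_left).2 h.2
    · exact (Nat.prime_two.coprime_iff_not_dvd).2 S.not_dvd_index
  intro d hd
  have h5 : (⟨d, h1 hd⟩ : B) ∈ (T : Subgroup B) :=
    IsPGroup.le_sylow_of_normal (N := D.subgroupOf B) (h3.comap_subtype (K := B)) T hd
  rw [← e] at h5
  exact mem_c.1 (map_subtype_le (H := (centralizer {u}).subgroupOf B) _ h5)

variable {F J : Type} [Field F] [Field J] [Finite F] [Finite J] {A : HA F J} {a : ZMod 6 → F → Y}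
  {b : ZMod 6 → J → Y}

/-- the root elements as inner automorphisms -/
abbrev iA {R : Type} (x : ZMod 6 → R → Y) : ZMod 6 → R → MulAut Y := fun k s => MulAut.conj (x k s)

section

variable (h : Hex A a b) (hT : L a b = ⊤)
include h hT

omit h in
theorem mL (x : Y) : x ∈ L a b := hT ▸ mem_top x

theorem cinj : Function.Injective (MulAut.conj : Y →* MulAut Y) :=
  (injective_iff_map_eq_one _).2 fun y e => h.eq_one (mL hT y) fun x _ => by
    have : y * x * y⁻¹ = x := congrArg (fun φ : MulAut Y => φ x) e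
    rw [← mul_inv_eq_iff_eq_mul.1 this]

theorem hexA : Hex A (iA a) (iA b) := (hex_map_iff _ (cinj h hT)).2 h

omit h in
theorem LA : L (iA a) (iA b) = Inn Y := by
  rw [← map_L, hT, ← MonoidHom.range_eq_map]

omit h in
theorem nA' (φ : MulAut Y) : φ ∈ normalizer (L (iA a) (iA b) : Set (MulAut Y)) := by
  rw [LA hT, normalizer_eq_top]; trivial

theorem cA {φ : MulAut Y} (e : φ ∈ centralizer (L (iA a) (iA b) : Set (MulAut Y))) : φ = 1 := by
  ext y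
  have := e (MulAut.conj y) (LA hT ▸ ⟨y, rfl⟩)
  exact cinj h hT ((aut_conj φ y).symm.trans (mul_inv_eq_iff_eq_mul.2 this.symm))

theorem fld_iff {φ : MulAut Y} {α : A.Aut} : Fld (iA a) (iA b) φ α ↔
    (∀ k s, φ (a k s) = a k (α.f s)) ∧ ∀ k u, φ (b k u) = b k (α.g u) := by
  simp only [Fld, iA, aut_conj, (cinj h hT).eq_iff]

theorem exU : ∃ S : Sylow 2 Y, (S : Subgroup Y) = U a b :=
  ⟨⟨U a b, h.U_two, fun hK hle => h.U_max (hT ▸ le_top) hK hle⟩, rfl⟩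

theorem tc_a {s : F} (hs : s ≠ 0) : Tc (a 1 s) := by
  obtain ⟨S, hS⟩ := exU h hT
  refine tc_of_sylow S (orderOf_eq_prime (by rw [sq, h.a_sq]) (h.a_ne hs)) fun u hu => ?_
  exact (h.Y_le_cZ (U_le_Y (show u ∈ U a b from hS ▸ hu)) _ (mem_X _ s)).symm

omit hT in
theorem b_not_E {u : J} (hu : u ≠ 0) : b 1 u ∉ E a := fun e =>
  hu (h.co_inj ⟨0, 0, h.cl_b1nf u⟩ (h.co_E.1 e)).2.2.1

theorem cD {u : Y} (hu : u ∈ centralizer (D a b : Set Y)) : u ∈ D a b := by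
  obtain ⟨e, he, c, hc, rfl⟩ := h.nL_cD (le_normalizer (mL hT u)) hu
  rwa [h.eq_one (mL hT c) hc, mul_one]

theorem not_tc : ¬ Tc (b 1 1) := fun e => by
  obtain ⟨S, hS⟩ := exU h hT
  obtain ⟨g, hg⟩ := e.conj_mem S
  rw [hS, ZU, h.U_inf_cent] at hg
  obtain ⟨s, hs⟩ := h.mem_A.1 hg
  have h1 : U a b ≤ centralizer {g * b 1 1 * g⁻¹} := fun u hu =>
    mem_c.2 (hs ▸ (h.Y_le_cZ (U_le_Y hu) _ (mem_X _ s)).symm)
  obtain ⟨l, hl, e2⟩ := h.sylP (K := (U a b).map (MulAut.conj g⁻¹).toMonoidHom) (by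
    rintro _ ⟨u, hu, rfl⟩
    refine ⟨mL hT _, h.cB (mL hT _) one_ne_zero ?_⟩
    have := mem_c.1 (h1 hu)
    show g⁻¹ * u * g⁻¹⁻¹ * b 1 1 = b 1 1 * (g⁻¹ * u * g⁻¹⁻¹)
    calc _ = g⁻¹ * (u * (g * b 1 1 * g⁻¹)) * g := by group
      _ = _ := by rw [this]; group) (h.U_two.map _)
  have h2 : l * g⁻¹ ∈ normalizer (U a b : Set Y) := mem_normalizer_fintype fun u hu => by
    have := e2 _ (mem_map_of_mem _ hu)
    rwa [show l * (MulAut.conj g⁻¹).toMonoidHom u * l⁻¹ = l * g⁻¹ * u * (l * g⁻¹)⁻¹ by simp [mul_assoc]] at this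
  have h3 := au_conj (h.nLU_norm (le_normalizer (mL hT _)) h2).1 hg
  refine b_not_E h one_ne_zero ?_
  have h4 := au_conj (inv_mem hl.2) (Z_le_E h3)
  rwa [show l⁻¹ * (l * g⁻¹ * (g * b 1 1 * g⁻¹) * (l * g⁻¹)⁻¹) * l⁻¹⁻¹ = b 1 1 by group] at h4

theorem conj_b {u : J} (hu : u ≠ 0) : IsConj (b 1 u) (b 1 1) := by
  obtain ⟨w, -, e⟩ := h.exists_wr 1
  obtain ⟨d, -, e'⟩ := h.exists_tor (l := 1) one_ne_zero (inv_ne_zero hu)
  refine (isConj_iff.2 ⟨w, e.2 1 u⟩).trans ((isConj_iff.2 ⟨d, ?_⟩).trans (isConj_iff.2 ⟨w, e.2 1 1⟩).symm)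
  exact (e'.b2 u).trans (by rw [inv_mul_cancel₀ hu]; rfl)

theorem conj_D {s₁ u₁ s₂} (hu : u₁ ≠ 0) : IsConj (nf a b 0 0 s₁ u₁ s₂ 0) (b 1 1) := by
  refine (isConj_iff.2 ⟨b 2 (u₁⁻¹ * A.ι s₂), ?_⟩).trans ((isConj_iff.2 ⟨b 0 (u₁⁻¹ * A.ι s₁), ?_⟩).trans
    (conj_b h hT hu)) (b := nf a b 0 0 s₁ u₁ 0 0)
  · rw [h.b_inv, h.b2_nf]
    simp [A.T_zero, hu, A.T_ι, A.add_selfF, A.sh_zero, A.zero_cr]
  · rw [h.b_inv, h.cl_b0nf, h.cl_b1nf, h.nf_mul_Q, h.nf_mul_Q]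
    simp [A.T_zero, hu, A.T_ι, A.add_selfF, A.add_selfJ]

theorem not_tc_b {u : J} (hu : u ≠ 0) : ¬ Tc (b 1 u) := fun e => not_tc h hT (e.isConj (conj_b h hT hu))

theorem cls {x : Y} (hx : orderOf x = 2) : IsConj (a 1 1) x ∨ IsConj (b 1 1) x := by
  obtain ⟨l, -, e⟩ := h.classes (mL hT x) (by rw [← sq, ← hx, pow_orderOf_eq_one]) (by
    rintro rfl; simp at hx)
  exact e.imp (fun e => (isConj_iff.2 ⟨l, e⟩).symm) fun e => (isConj_iff.2 ⟨l, e⟩).symm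

theorem cls_a {x : Y} (hx : Tc x) : IsConj (a 1 1) x :=
  (cls h hT hx.1).resolve_right fun e => not_tc h hT (hx.isConj e.symm)

theorem cls_b {x : Y} (hx : orderOf x = 2) (h1 : ¬ Tc x) : IsConj (b 1 1) x :=
  (cls h hT hx).resolve_left fun e => h1 ((tc_a h hT one_ne_zero).isConj e)

theorem g1 : G1 Y := by
  obtain ⟨S, hS⟩ := exU h hT
  refine ⟨S, fun α _ e => ?_⟩
  obtain ⟨s, c, hc, rfl⟩ := (hexA h hT).nL_cQ (nA' hT α) (by
    rw [← map_Q]
    rintro _ ⟨x, hx, rfl⟩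
    have := aut_conj α x
    rw [e x (show x ∈ (S : Subgroup Y) from hS ▸ Q_le_U hx)] at this
    exact (mul_inv_eq_iff_eq_mul.1 this).symm)
  rw [cA h hT hc, mul_one]
  exact ⟨_, rfl⟩

theorem exists_ty : ∃ ty : MulAut Y →* A.Aut, ty.ker = Inn Y := by
  obtain ⟨ty, e⟩ := (hexA h hT).exists_typ
  refine ⟨ty.comp ((MonoidHom.id _).codRestrict _ (nA' hT)), Subgroup.ext fun φ => ?_⟩
  rw [MonoidHom.mem_ker, MonoidHom.comp_apply, e]
  simp only [Fld.one_iff, LA hT]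
  refine ⟨fun ⟨l, hl, e1⟩ => ?_, fun e1 => ⟨φ, e1, ?_⟩⟩
  · have := cA h hT (by rw [LA hT]; exact e1)
    exact (show l = φ from inv_mul_eq_one.1 this) ▸ hl
  · show φ⁻¹ * φ ∈ _
    rw [inv_mul_cancel]; exact one_mem _

theorem ocyc : OCyc Y := by
  obtain ⟨ty, e⟩ := exists_ty h hT
  have := HA.Aut.isCyclic (A := A)
  refine ocyc_of_cyclic ?_
  exact isCyclic_of_injective (QuotientGroup.lift (Inn Y) ty e.ge) ((QuotientGroup.injective_lift_iff _ _ _).2 e.symm)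

omit hT in
theorem ord_b (k : ZMod 6) : orderOf (b k 1 * b (k + 3) 1) = 3 := by
  have : Fact (Nat.Prime 3) := ⟨Nat.prime_three⟩
  have h' := h.rot (k + 4)
  have e2 : (2 : ZMod 6) + (k + 4) = k := by rw [add_comm k, ← add_assoc]; exact zero_add k
  have e5 : (5 : ZMod 6) + (k + 4) = k + 3 := by rw [add_comm k, ← add_assoc, add_comm k]; rfl
  refine orderOf_eq_prime ?_ fun e => ?_
  · have h1 := h'.nbb 2 1
    rw [show (1 : ZMod 6) - 2 = 5 from rfl, nB, e2, e5] at h1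
    simp only [mul_inv_rev, h.b_inv, mul_assoc] at h1
    rw [← mul_assoc (b k 1) (b k 1), h.b_sq, one_mul] at h1
    rw [← h.b_sq (k + 3) 1]
    nth_rewrite 2 [← h1]
    simp only [pow_three, mul_assoc]
  · rw [mul_eq_one_iff_inv_eq, h.b_inv] at e
    refine h.b_ne (k := k) one_ne_zero (h'.br_opp ?_ ?_)
    · have := b2_mem (a := fun j => a (j + (k + 4))) (b := fun j => b (j + (k + 4))) 1
      rwa [e2] at this
    · have := b2_mem (a := fun j => a (j + 3 + (k + 4))) (b := fun j => b (j + 3 + (k + 4))) 1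
      rw [show (2 : ZMod 6) + 3 = 5 from rfl, e5, ← e] at this
      exact this

omit hT in
theorem x_b (u : J) : Commute (a 0 1 * a 3 1) (b 1 u) := (h.ab2 0 1 u).mul_left (h.ab3 1 1 u)

omit hT in
theorem x_E (s r : F) : a 0 1 * a 3 1 * (a 1 s * a 2 r) * (a 0 1 * a 3 1)⁻¹ = a 1 r * a 2 (r + s) := by
  have h1 := h.cl_a0_E 1 s (r + s * 1)
  rw [← h.cl_a3_E, mul_one, one_mul, add_comm r, ← add_assoc, A.add_selfF, zero_add] at h1
  rw [add_comm r, ← h1, mul_inv_rev, h.a_inv, h.a_inv]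
  simp only [mul_assoc]

omit hT in
theorem x_fix {w : Y} (hw : w ∈ E a) (e : a 0 1 * a 3 1 * w = w * (a 0 1 * a 3 1)) : w = 1 := by
  obtain ⟨s, r, rfl⟩ := h.mem_E.1 hw
  have h1 := x_E h s r
  rw [e, mul_inv_cancel_right, h.cl_a12nf, h.cl_a12nf] at h1
  obtain ⟨-, -, e1, -, e2, -⟩ := h.nf_inj h1
  obtain rfl : s = 0 := by linear_combination -e2
  rw [← e1, h.a_zero, h.a_zero, mul_one]

theorem pp : PP Y 3 := by
  let S : Subgroup (MulAut Y) :=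
    { carrier := {φ | ∃ α : A.Aut, Fld (iA a) (iA b) φ α}
      mul_mem' := fun ⟨_, h1⟩ ⟨_, h2⟩ => ⟨_, h1.mul h2⟩
      one_mem' := ⟨1, Fld.one_iff.2 (one_mem _)⟩
      inv_mem' := fun ⟨_, h1⟩ => ⟨_, h1.inv⟩ }
  have hy : orderOf (b 1 1 * b 4 1) = 3 := ord_b h 1
  refine pp_of_compl Nat.prime_three (by decide) S (eq_bot_iff.2 fun φ ⟨⟨α, h1⟩, h2⟩ => ?_) (fun φ _ => ?_)
    (closure {a 0 1 * a 3 1, b 1 1 * b 4 1}) (fun σ ⟨α, h1⟩ => ?_)
    (not_rank_of Nat.prime_three (h.orderOf_opp 0) hy ((x_b h 1).mul_right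
      ((h.ab3 4 1 1).mul_left (h.ab2 3 1 1))).eq (fun e => ?_) (subset_closure (by simp))
      (subset_closure (by simp)))
  · obtain rfl := (hexA h hT).fld_inner (LA hT ▸ h2) h1
    exact cA h hT (Fld.one_iff.1 h1)
  · obtain ⟨l, hl, α, e⟩ := (hexA h hT).exists_fld (nA' hT φ)
    obtain ⟨y, rfl⟩ : l ∈ Inn Y := LA hT ▸ hl
    exact ⟨y⁻¹, α, by rwa [map_inv]⟩
  · obtain ⟨h2, h3⟩ := (fld_iff h hT).1 h1
    refine (closure_le (fixedSubgroup σ)).2 ?_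
    rintro _ (rfl | rfl)
    · show σ _ = _
      rw [map_mul, h2, h2, map_one]
    · show σ _ = _
      rw [map_mul, h3, h3, map_one]
  · obtain ⟨k, hk⟩ := mem_zpowers_iff.1 e
    have h1 : Commute (b 1 1 * b 4 1) (b 1 1) := hk ▸ (x_b h 1).zpow_left k
    have h2 : (b 1 1 * b 4 1) ^ 2 = 1 := by
      rw [sq, ← mul_assoc, h1.eq, ← mul_assoc, h.b_sq, one_mul, h.b_sq]
    exact absurd (hy ▸ orderOf_dvd_of_pow_eq_one h2) (by decide)

omit hT in
theorem Y_le {y : Y} (hy : y ∈ HX.Y a b) : y ∈ centralizer {a 1 1} :=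
  mem_c.2 (h.Y_le_cZ hy _ (mem_X _ 1)).symm

omit hT in
theorem in_a : a 1 1 ∈ XP 3 (centralizer {a 1 1}) := by
  have hc : b 1 1 ∈ centralizer {a 1 1} := Y_le h (U_le_Y (Q_le_U (U'_le_Q (D_le_U' (b1_mem 1)))))
  have e : b 2 1 * nB b = b 5 1 * b (5 + 3) 1 := by
    rw [nB, ← mul_assoc, ← mul_assoc, h.b_sq, one_mul]; rfl
  have h1 := comm_mem_XP (p := 3) (Y_le h (mul_mem (b2_mem 1 |> U_le_Y) nB_mem)) (e ▸ ord_b h 5) hc
  have h2 : ⁅b 1 1, b 2 1 * nB b⁆ = b 1 1 * nf a b 0 1 1 0 1 0 := by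
    rw [commutatorElement_def, h.b_inv, show ∀ x y z : Y, z * (x * y) * z * (x * y)⁻¹ = z * (x * (y * z * y⁻¹) * x⁻¹) from
      fun x y z => by group, h.nbb, h.b_inv, show (1 : ZMod 6) - 1 = 0 from rfl, h.cl_b0nf, h.b2_nf]
    simp [A.T_one, A.T_zero, A.sh_one, A.cr_self]
  rw [h2] at h1
  have h3 := mul_mem h1 h1
  rw [h.cl_b1nf] at h3
  simp only [h.nf_mul_Q] at h3
  simpa [A.T_one, A.T_zero, A.add_selfF, A.add_selfJ, ← h.cl_a1nf] using h3

theorem two : TwoC Y := fun _ _ h1 h2 h3 h4 => (cls_b h hT h1 h3).symm.trans (cls_b h hT h2 h4)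

theorem ncw : NCW (b 1 1) := by
  have hD : D a b ≤ centralizer {b 1 1} := fun x hx => mem_c.2 (h.D_comm hx (b1_mem 1)).eq
  refine ⟨3, pp h hT, E a, a 0 1 * a 3 1, E_le_D.trans hD, fun g hg => h.cB (mL hT g) one_ne_zero (mem_c.1 hg),
    fun w hw => h.D_sq (E_le_D hw), (x_b h 1).eq, h.orderOf_opp 0, fun w hw => x_fix h hw,
    b_not_E h one_ne_zero, fun u h1 h2 => ?_⟩
  obtain ⟨s₁, u₁, s₂, rfl⟩ := h.mem_D.1 (cD h hT (c2_cent h2 hD
    (fun g hg => (h.nL_cb (le_normalizer (mL hT g)) (mem_c.1 hg)).2.1)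
    (h.U_two.to_le (D_le_U'.trans (U'_le_Q.trans Q_le_U)))))
  obtain rfl : u₁ = 0 := by_contra fun e => not_tc h hT (h1.isConj (conj_D h hT e))
  exact h.co_E.2 ⟨_, _, rfl⟩

theorem tc1 : TC1 Y := fun _ _ h1 h2 => (cls_a h hT h1).symm.trans (cls_a h hT h2)

theorem ord2 {u : J} (hu : u ≠ 0) : orderOf (b 1 u) = 2 := orderOf_eq_prime (by rw [sq, h.b_sq]) (h.b_ne hu)

theorem kg : KG Y True False False where
  g1 := g1 h hT
  tc1 := tc1 h hT
  oab := (ocyc h hT).oab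
  out := .inr (.inr ⟨trivial, ocyc h hT⟩)
  nc l h1 h2 := .inl (((ncw h hT).knc (two h hT) (ord2 h hT one_ne_zero) (not_tc h hT)).isConj (cls_b h hT h1 h2))
  iv := .inr (.inl ⟨3, pp h hT, fun l hl => by
    obtain ⟨g, rfl⟩ := isConj_iff.1 (cls_a h hT hl)
    exact cXP (in_a h)⟩)

end

section G24

variable (h : Hex A a b) (hT : L a b = ⊤) (hτ : ∀ u, A.τ u = u) (h4 : Nat.card J = 4)

include h4 in
theorem cube {u : J} (h0 : u ≠ 0) (h1 : u ≠ 1) : u * u + u + 1 = 0 := by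
  have := Fintype.ofFinite J
  have h2 := FiniteField.pow_card_sub_one_eq_one u h0
  rw [← Nat.card_eq_fintype_card, h4] at h2
  exact mul_left_cancel₀ (sub_ne_zero.2 h1) (by linear_combination h2)

include h4 in
theorem aut_add (σ : J ≃+* J) (h2 : (2 : J) = 0) {u : J} (e : σ u ≠ u) : σ u = u + 1 := by
  have h0 : u ≠ 0 := by rintro rfl; exact e (map_zero σ)
  have h1 : u ≠ 1 := by rintro rfl; exact e (map_one σ)
  have h3 := cube h4 h0 h1
  have h5 := congrArg σ h3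
  rw [map_add, map_add, map_mul, map_one, map_zero] at h5
  exact mul_left_cancel₀ (sub_ne_zero.2 e) (by linear_combination h5 - h3 - (σ u * u + σ u - u * u - u) * h2)

include h4 in
theorem aut_sq (α : A.Aut) : α * α = 1 := au_aut_one fun u => by
  rw [HA.Aut.mul_g]
  by_cases e : α.g u = u
  · rw [e, e]
  · rw [aut_add h4 α.g A.two e, map_add, map_one, aut_add h4 α.g A.two e, add_assoc, A.add_selfJ, add_zero]

include hτ in
theorem cr0 (u v : J) : A.cr u v = 0 := by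
  simp only [HA.cr, hτ]; exact A.add_selfJ _

include h hT hτ in
theorem tc_sq {s : Y} (hs : orderOf s = 4) : Tc (s * s) := by_contra fun e => by
  have h2 : orderOf (s * s) = 2 := by rw [← sq, orderOf_pow' _ two_ne_zero, hs]; rfl
  obtain ⟨g, hg⟩ := isConj_iff.1 (cls_b h hT h2 e).symm
  rw [← conj_mul] at hg
  have h3 : (g * s * g⁻¹) ^ 2 ^ 2 = 1 := by rw [conj_pow, show 2 ^ 2 = orderOf s from hs.symm, pow_orderOf_eq_one]; simp
  generalize g * s * g⁻¹ = t at hg h3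
  have := Fact.mk Nat.prime_two
  obtain ⟨l, hl, e2⟩ := h.sylP (K := zpowers t) (zpowers_le.2 ⟨mL hT t, h.cB (mL hT t) one_ne_zero (by
    rw [← hg, mul_assoc])⟩) (Tech.isPGroup_zpowers_of_pow h3)
  obtain ⟨s₀, u₀, u₁, u₂, e3⟩ := h.co_U.1 (e2 t (mem_zpowers t))
  have e4 := h.co_mul e3 e3
  rw [conj_mul, hg] at e4
  obtain ⟨v, e5⟩ := h.co_D.1 (au_conj (h.nE_nR hl.1 hl.2).2 (b1_mem 1))
  obtain ⟨-, e6, e7, -⟩ := h.co_inj e4 e5
  have e8 : v = 0 := by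
    rw [← e7, cr0 hτ, HA.sh, hτ, hτ]
    linear_combination u₂ * e6 + (u₁ - u₂ * u₀) * A.two
  refine b_not_E h one_ne_zero ?_
  have := au_conj (inv_mem hl.2) (h.co_E.2 (e8 ▸ e5))
  rwa [show l⁻¹ * (l * b 1 1 * l⁻¹) * l⁻¹⁻¹ = b 1 1 by group] at this

include h hT hτ h4 in
theorem ab_mem : a 0 1 ∈ XP 3 (centralizer {a 1 1}) ∧ b 2 1 ∈ XP 3 (centralizer {a 1 1}) ∧
    b 1 1 ∈ XP 3 (centralizer {a 1 1}) := by
  have := Fact.mk Nat.prime_three
  obtain ⟨w, w0, w1⟩ := HA.exists_ne h.big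
  have h3 := cube h4 w0 w1
  have w3 : w ^ 3 = 1 := by linear_combination (w - 1) * h3
  obtain ⟨d, hd, e⟩ := h.exists_tor (l := 1) one_ne_zero w0
  have hN : A.N w = 1 := A.inj (by rw [A.hN, hτ, hτ, map_one, ← w3, pow_three, mul_assoc])
  have dY := Y_le h (h.tor_mem_Y hd e (by rw [hN, mul_one, mul_one]))
  have d3 : orderOf d = 3 := orderOf_eq_prime (h.au_tor_one (pow_mem hd 3) (e.pow 3) (one_pow 3) w3) fun e1 => by
    have := e.b2 1
    rw [e1, one_mul, inv_one, mul_one, mul_one] at this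
    exact w1 (h.b_inj this).symm
  have hc : b 1 1 ∈ centralizer {a 1 1} := Y_le h (U_le_Y (Q_le_U (U'_le_Q (D_le_U' (b1_mem 1)))))
  have h2 : b 2 1 ∈ XP 3 (centralizer {a 1 1}) := by
    have := comm_mem_XP dY d3 (Y_le h (U_le_Y (b2_mem w)))
    rwa [commutatorElement_def, h.b_inv, mul_assoc, mul_assoc, ← mul_assoc d, e.b2, ← h.badd,
      show w + w * w = 1 by linear_combination h3 - A.two] at this
  have h1 : b 1 1 ∈ XP 3 (centralizer {a 1 1}) := by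
    have := comm_mem_XP dY d3 (Y_le h (U_le_Y (Q_le_U (U'_le_Q (D_le_U' (b1_mem (w * w)))))))
    rwa [commutatorElement_def, h.b_inv, mul_assoc, mul_assoc, ← mul_assoc d, e.b1, ← h.badd, HA.sh, hτ, hτ, map_one,
      show w * w + 1 * (w * w) * (w * w) = 1 by linear_combination h3 - A.two + w * w3] at this
  refine ⟨?_, h2, h1⟩
  have h5 := mul_mem (inv_mem h1) (conj_XP (Y_le h (U_le_Y (b2_mem 1))) h1)
  rw [h.b_inv (k := 2), show b 2 1 * b 1 1 * b 2 1 = _ from h.bb1 1 1 1, inv_mul_cancel_left, mul_one, A.T_one] at h5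
  have h6 := conj_XP (Y_le h nB_mem) h5
  rwa [h.nba] at h6

include h hT hτ h4 in
theorem kb : KB Y 3 where
  g1 := g1 h hT
  tc1 := tc1 h hT
  two := two h hT
  pp := pp h hT
  q8 := by
    obtain ⟨w, w0, w1⟩ := HA.exists_ne h.big
    have h3 : A.T w * A.T w + A.T w + 1 = 0 :=
      A.inj (by rw [map_add, map_add, map_mul, A.ι_T hτ, map_one, map_zero, cube h4 w0 w1])
    refine ⟨a 1 1, nf a b 1 0 0 0 1 0, nf a b (A.T w) 0 0 0 (A.T w + 1) 0, tc_a h hT one_ne_zero, ?_, ?_, ?_⟩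
    · simp [h.nf_sq_Q, A.T_zero]
    · rw [h.nf_sq_Q, mul_zero, A.T_zero]
      congr 1
      linear_combination h3 - A.twoF
    · rw [h.nf_mul_Q, h.nf_sq_Q, add_zero, mul_zero, A.T_zero]
      congr 1
      linear_combination h3 + (A.T w) * A.twoF
  zx := by
    obtain ⟨h0, h2, h1⟩ := ab_mem h hT hτ h4
    refine ⟨a 1 1, tc_a h hT one_ne_zero, in_a h, .inl ⟨_, h1, ord2 h hT one_ne_zero, not_tc h hT⟩,
      .inr (.inl ⟨fun s => tc_sq h hT hτ, _, mul_mem h0 h2, ?_⟩)⟩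
    have e : a 0 1 * b 2 1 * (a 0 1 * b 2 1) = nf a b 0 1 1 1 1 0 := by
      rw [h.cl_a0nf, h.nf_mul_b2, h.nf_mul]
      simp [A.T_zero, A.N_one, A.sh_one, A.sh_zero, A.add_selfF, A.add_selfJ, A.zero_cr]
    rw [show 4 = 2 * 2 from rfl, pow_mul, sq, sq, e, h.nf_sq_Q]
    simp [A.T_one]

include h in
theorem a1_nc {B : Subgroup Y} (hB : a 0 1 * a 3 1 ∈ B) : a 1 1 ∉ centralizer (XP 3 B : Set Y) := fun e =>
  h.a_ne one_ne_zero (x_fix h (a1_mem 1) (e _ (subset_closure ⟨hB, h.orderOf_opp 0⟩)))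

include h in
theorem a1_mem' {B : Subgroup Y} (hB : a 0 1 * a 3 1 ∈ B) (h2 : a 2 1 ∈ B) : a 1 1 ∈ XP 3 B := by
  have h1 := comm_mem_XP hB (h.orderOf_opp 0) h2
  have h3 := x_E h 0 1
  rw [h.a_zero, one_mul, add_zero] at h3
  rwa [commutatorElement_def, h.a_inv, mul_assoc, mul_assoc, ← mul_assoc (a 0 1 * a 3 1), h3,
    show a 1 1 * a 2 1 = a 2 1 * a 1 1 from (h.aa1 1 1 1).eq, ← mul_assoc, h.a_sq, one_mul] at h1

include h hT hτ h4 in
theorem kbo : KBo Y where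
  out φ := by
    obtain ⟨ty, e⟩ := exists_ty h hT
    rw [← e, MonoidHom.mem_ker, map_mul, aut_sq h4]
  inn l h1 h2 := by
    obtain ⟨a, b, h, hT, e⟩ := h.classes' (mL hT l) (by rw [← sq, ← h1, pow_orderOf_eq_one]) (by
      rintro rfl; simp at h1)
    replace hT := hT.trans ‹_›
    obtain rfl := e.resolve_left fun e => h2 (e ▸ tc_a h hT one_ne_zero)
    obtain ⟨w, w0, w1⟩ := HA.exists_ne h.big
    have hx := mem_c.2 (x_b h 1).eq
    refine ⟨⟨b 1 w, ord2 h hT w0, fun e => w1 (h.b_inj e), (h.bb0 1 _ _).eq, ?_⟩, 3, pp h hT, a 1 1,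
      a1_mem' h hx (mem_c.2 (h.ab1 1 1 1).eq), tc_a h hT one_ne_zero, a1_nc h hx, isConj_iff.2 ⟨b 0 1, ?_⟩⟩
    · rw [← h.badd]
      exact iff_of_false (not_tc_b h hT w0) (not_tc_b h hT fun e => w1 (by linear_combination e - A.two))
    · have := h.bb1' 0 1 1
      rw [mul_one, A.T_one] at this
      rw [h.b_inv]
      exact this
  outr φ h1 h2 := by
    obtain ⟨l, hl, α, -, ⟨s, hs⟩, e⟩ := ((hexA h hT).std (nA' hT φ) h1).resolve_left fun ⟨l, hl, e, _⟩ =>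
      h2 (inv_mul_eq_one.1 (cA h hT e) ▸ LA hT ▸ hl)
    obtain ⟨y, rfl⟩ : l ∈ Inn Y := LA hT ▸ hl
    obtain ⟨e1, e2⟩ := (fld_iff h hT).1 e
    have h' := h.cj y⁻¹
    have hT' : L (HX.cj y⁻¹ a) (HX.cj y⁻¹ b) = ⊤ := (cj_L_of (le_normalizer (mL hT _))).trans hT
    have k : ∀ x z, (MulAut.conj y * φ * (MulAut.conj y)⁻¹) x = z → φ (y⁻¹ * x * y⁻¹⁻¹) = y⁻¹ * z * y⁻¹⁻¹ := by
      rintro x _ rfl
      simp [mul_assoc]
    have e3 : ∀ j s, φ (HX.cj y⁻¹ a j s) = HX.cj y⁻¹ a j (α.f s) := fun j s => k _ _ (e1 j s)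
    have e4 : ∀ j s, φ (HX.cj y⁻¹ b j s) = HX.cj y⁻¹ b j (α.g s) := fun j s => k _ _ (e2 j s)
    generalize HX.cj y⁻¹ a = a at *
    generalize HX.cj y⁻¹ b = b at *
    have e5 : ∀ j, a j 1 ∈ fixedSubgroup φ := fun j => (e3 j 1).trans (by rw [map_one])
    have hx := mul_mem (e5 0) (e5 3)
    refine ⟨⟨b 1 1, (e4 1 1).trans (by rw [map_one]), ord2 h' hT' one_ne_zero, not_tc h' hT'⟩, 3, pp h' hT', a 1 1,
      a1_mem' h' hx (e5 2), tc_a h' hT' one_ne_zero, a1_nc h' hx, a 1 s, ?_⟩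
    rw [e3, h'.a_inv, ← h'.aadd]
    congr 1
    have := aut_add h4 α.g A.two (u := A.ι s) fun e => hs (A.inj ((α.hι s).symm.trans e))
    exact A.inj (by rw [map_add, ← α.hι, this, ← add_assoc, A.add_selfJ, zero_add, map_one])

end G24

end Khx

theorem kg_G2 {F : Type} [Field F] [Fintype F] [CharP F 2] (h : 3 ≤ Fintype.card F) :
    KG (Lie.chevG2.group F) True False False := by
  obtain ⟨n, -, hn⟩ := FiniteField.card F 2
  obtain ⟨_, _, _, _, _, _, -, h1, h2⟩ := HX.exists_hex_of_G2 (H := (⊤ : Subgroup (Lie.chevG2.group F))) (n := n)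
    (by_contra fun e => by
      rw [hn, show (n : ℕ) = 1 by have := n.pos; omega] at h
      omega) hn topEquiv
  exact Khx.kg h1 h2

theorem kg_3D4 {F : Type} [Field F] [Fintype F] [CharP F 2] {q : ℕ} (hq : IsPrimePow q)
    (h : Fintype.card F = q ^ 3) : KG (Lie.twistedD4 F q) True False False := by
  obtain ⟨n, -, hn⟩ := FiniteField.card F 2
  obtain ⟨k, -, rfl⟩ := (Nat.dvd_prime_pow Nat.prime_two).1 (hn ▸ h ▸ dvd_pow_self q three_ne_zero : q ∣ 2 ^ (n : ℕ))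
  obtain ⟨_, _, _, _, _, _, _, _, _, -, -, h1, h2⟩ := HX.exists_hex_of_D4
    (H := (⊤ : Subgroup (Lie.twistedD4 F (2 ^ k)))) (n := k)
    (Nat.pos_of_ne_zero (by rintro rfl; exact hq.ne_one rfl)) (by rw [h, ← pow_mul, mul_comm, pow_mul]; rfl) topEquiv
  exact Khx.kg h1 h2

theorem kb_G24 {F : Type} [Field F] [Fintype F] (h : Fintype.card F = 4) :
    KB (Lie.chevG2.group F) 3 ∧ KBo (Lie.chevG2.group F) := by
  obtain ⟨_, _, _, A, _, _, h0, h1, h2⟩ := HX.exists_hex_of_G2 (H := (⊤ : Subgroup (Lie.chevG2.group F))) (n := 2)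
    le_rfl h topEquiv
  have hτ := (A.types.resolve_right fun e => by rw [h0] at e; omega).1
  exact ⟨Khx.kb h1 h2 hτ h0, Khx.kbo h1 h2 hτ h0⟩

end CfsgLib.QT4
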