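import Mathlib
import Cfsg.Agent.Lib.QT4.KT
import Cfsg.Agent.Lib.M24E.Tools
import Cfsg.Agent.Lib.M24E.Classes

/-!
Tools for computations in `M₂₄`.
-/

set_option autoImplicit false
set_option linter.unusedSectionVars false

namespace CfsgLib.QT4.Mx

open Cfsg Subgroup CfsgLib.LBal CfsgLib.LAE CfsgLib.QT2 CfsgLib.QT3 CfsgLib.M24E CfsgLib.Golay
open scoped Pointwise

/-- search through the elements commuting with a list and stabilizing a set -/
noncomputable def cS (v vi m : ℕ) (S : List ℕ) (good : (ℕ → ℕ) → Bool) : Bool :=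
  and (and (chkB v vi) (allL S isM))
    (asearch vi (okAnd (okS (ap v) m m) (okEach S fun q => okI (ap v) (ap q) (ap q)))
      fun φ => or (not (and (setTo φ m m) (allL S fun q => intw φ (ap q) (ap q)))) (good φ))

theorem cS_spec {v vi m : ℕ} {S : List ℕ} {good : (ℕ → ℕ) → Bool} (h : cS v vi m S good = true) {g : P24}
    (hg : g ∈ M24) (h1 : g • ofMask m = ofMask m) (h2 : ∀ q ∈ S, g * pm q = pm q * g) :
    ∃ φ, Rp φ g ∧ good φ = true := by
  rw [cS, Bool.and_eq_true, Bool.and_eq_true, allL_iff] at h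
  obtain ⟨⟨hB, hS⟩, h⟩ := h
  refine all_of_search hB (P := fun g => g • ofMask m = ofMask m ∧ ∀ q ∈ S, g * pm q = pm q * g)
    (Q := fun g => ∃ φ, Rp φ g ∧ good φ = true) ((sound_okS (chkB_lt hB) fun _ _ h => h.1).and
      (sound_okEach fun q hq => sound_okI (chkB_lt hB) (pm_rp (hS q hq)) (pm_rp (hS q hq)) fun _ _ h => h.2 q hq))
    (fun g _ hP φ hφ h => ⟨φ, hφ, ?_⟩) h g hg ⟨h1, h2⟩
  rwa [(hφ.setFix_iff m).2 hP.1, (allL_iff _ _).2 fun q hq =>
    (hφ.intw_iff (pm_rp (hS q hq)) (pm_rp (hS q hq))).2 (hP.2 q hq), Bool.and_self, Bool.not_true, Bool.false_or] at h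

theorem smul_zero_mask (g : P24) : g • ofMask 0 = ofMask 0 := by
  rw [show ofMask 0 = ∅ by decide, Finset.smul_finset_empty]

/-- `φ` occurs in the list -/
noncomputable def inL (R : List ℕ) (φ : ℕ → ℕ) : Bool := anyL R fun r => eqF φ (ap r)

theorem inL_spec {R : List ℕ} {φ : ℕ → ℕ} {g : P24} (hg : Rp φ g) (h : inL R φ = true) : ∃ r ∈ R, g = pm r := by
  obtain ⟨r, hr, h1⟩ := (anyL_iff _ _).1 h
  refine ⟨r, hr, (Rp.pm_eq (hg.congr fun x hx => ?_)).symm⟩
  exact (Nat.eq_of_beq_eq_true (of_allLT h1 hx)).symm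

theorem pm_idq : pm idq = 1 := rp_idq.pm_eq

theorem pm_mul {a b c : ℕ} (h : and (and (isM a) (isM b)) (eqF (fun x => ap a (ap b x)) (ap c)) = true) :
    pm a * pm b = pm c := by
  simp only [Bool.and_eq_true] at h
  exact (Rp.pm_eq (((pm_rp h.1.1).mul (pm_rp h.1.2)).congr fun x hx =>
    (Nat.eq_of_beq_eq_true (of_allLT h.2 hx)).symm)).symm

theorem pm_comm {a b : ℕ} (h : and (and (isM a) (isM b)) (intw (ap a) (ap b) (ap b)) = true) :
    pm a * pm b = pm b * pm a := by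
  simp only [Bool.and_eq_true] at h
  exact ((pm_rp h.1.1).intw_iff (pm_rp h.1.2) (pm_rp h.1.2)).1 h.2

theorem pm_conj {a b c : ℕ} (h : and (and (isM a) (and (isM b) (isM c))) (intw (ap a) (ap b) (ap c)) = true) :
    pm a * pm b * (pm a)⁻¹ = pm c := by
  simp only [Bool.and_eq_true] at h
  rw [((pm_rp h.1.1).intw_iff (pm_rp h.1.2.1) (pm_rp h.1.2.2)).1 h.2, mul_inv_cancel_right]

theorem pm_ne {a b : ℕ} (h : and (and (isM a) (isM b)) (not (eqF (ap a) (ap b))) = true) : pm a ≠ pm b := fun e => by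
  simp only [Bool.and_eq_true] at h
  have := h.2
  rw [((pm_rp h.1.1).eqF_iff (pm_rp h.1.2)).2 e] at this
  cases this

theorem pm_ord {q p : ℕ} (hp : p.Prime) (h : and (isM q) (and (powId (ap q) p) (not (isId (ap q)))) = true) :
    orderOf (pm q) = p := by
  simp only [Bool.and_eq_true, Bool.not_eq_true'] at h
  exact orderOf_pm hp h.1 h.2.1 h.2.2

theorem pm_pow {q n : ℕ} (h : and (isM q) (powId (ap q) n) = true) : pm q ^ n = 1 := by
  simp only [Bool.and_eq_true] at h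
  exact ((pm_rp h.1).powId_iff n).1 h.2

section
variable {Y : Type*} [Group Y] [Finite Y]

theorem exists_sylow {x a : Y} (hx : E2 x) (ha : E2 a) (h : a * x * a⁻¹ ∈ zpowers x) :
    ∃ U : Sylow 2 Y, x ∈ U ∧ a ∈ U := by
  obtain ⟨i, hi⟩ := hx
  obtain ⟨j, hj⟩ := ha
  obtain ⟨U, hU⟩ := ((isPGroup_zpowers_of hj).to_sup_of_normal_right' (isPGroup_zpowers_of hi)
    (zpowers_le.2 (mem_normalizer_fintype (by
      rintro _ ⟨k, rfl⟩
      rw [← conj_zpow]; exact zpow_mem h k)))).exists_le_sylow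
  exact ⟨U, hU (mem_sup_right (mem_zpowers x)), hU (mem_sup_left (mem_zpowers a))⟩

theorem uz_of {U : Sylow 2 Y} {x a z : Y} (hx : x ∈ U) (ha : a ∈ U) (h1 : x * a ≠ a * x)
    (h2 : ∀ c, orderOf c = 2 → x * c = c * x → a * c = c * a → c = z) : UZ Y :=
  ⟨U, fun h => h1 (congrArg Subtype.val (h.is_comm.comm ⟨x, hx⟩ ⟨a, ha⟩)), fun b _ c _ b2 c2 hb hc =>
    (h2 b b2 (hb x hx) (hb a ha)).trans (h2 c c2 (hc x hx) (hc a ha)).symm⟩

theorem conj_XP {p : ℕ} {A : Subgroup Y} {g x : Y} (hg : g ∈ A) (hx : x ∈ XP p A) : g * x * g⁻¹ ∈ XP p A := by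
  induction hx using closure_induction with
  | mem y hy => exact subset_closure ⟨mul_mem (mul_mem hg hy.1) (inv_mem hg), (Tech.orderOf_conj_eq g y).trans hy.2⟩
  | one => simp
  | mul a b _ _ h1 h2 => rw [← conj_mul]; exact mul_mem h1 h2
  | inv a _ h1 => rw [← conj_inv]; exact inv_mem h1

theorem not_zpowers {a b : Y} (ha : orderOf a = 3) (h0 : b ≠ 1) (h1 : b ≠ a) (h2 : b ≠ a * a) : b ∉ zpowers a := by
  rintro ⟨k, rfl⟩
  have h3 : a ^ k = a ^ (k % 3) := by rw [← zpow_mod_orderOf, ha]; rfl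
  have h4 : k % 3 = 0 ∨ k % 3 = 1 ∨ k % 3 = 2 := by omega
  rcases h4 with h | h | h <;> rw [h] at h3
  exacts [h0 (h3.trans (zpow_zero a)), h1 (h3.trans (zpow_one a)), h2 (h3.trans (zpow_two a))]

theorem pp3_of (h : ¬ 3 ∣ Nat.card (Out Y)) {a b : Y} (ha : orderOf a = 3) (hb : orderOf b = 3) (hc : a * b = b * a)
    (h1 : b ≠ a) (h2 : b ≠ a * a) : PP Y 3 :=
  pp_of_out Nat.prime_three (by norm_num) h fun k => not_rank_of Nat.prime_three ha hb hc
    (not_zpowers ha (fun e => by simp [e] at hb) h1 h2) (mem_top a) (mem_top b) fun A h3 h4 => by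
      rw [← card_map_of_injective (subtype_injective _)]
      exact k _ inferInstance (by rintro _ ⟨x, hx, rfl⟩; exact congrArg Subtype.val (h4 x hx))

theorem not_c2 {A : Subgroup Y} {a b t : Y} (ht : t ∈ A) (h2 : t * b * t⁻¹ = a) (hne : a ≠ b)
    (h3 : ∀ g ∈ A, g * a * g⁻¹ = a ∨ g * a * g⁻¹ = b) : ¬ C2 A a := fun h => by
  have : (centralizer {a}).relIndex A = 2 := by
    refine relIindex_eq_two_iff'.2 ⟨t, ht, fun g hg => ?_⟩
    have e1 : t * g ∈ centralizer {a} ↔ g * a * g⁻¹ = b := by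
      rw [mem_centralizer_singleton_iff, ← mul_inv_eq_iff_eq_mul, show t * g * a * (t * g)⁻¹ = t * (g * a * g⁻¹) * t⁻¹ by group]
      conv_lhs => rw [← h2]
      rw [mul_left_inj, mul_right_inj, h2]
    rw [e1, mem_centralizer_singleton_iff, ← mul_inv_eq_iff_eq_mul]
    rcases h3 g hg with e | e <;> rw [e]
    exacts [Or.inr ⟨rfl, hne⟩, Or.inl ⟨rfl, hne.symm⟩]
  have h4 := h.2
  rw [this] at h4
  exact absurd h4 (by decide)

end

end CfsgLib.QT4.Mx
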