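import Mathlib
import Cfsg.Agent.Lib.QT4.M24A
import Cfsg.Agent.Lib.J4T.Defs2

/-!
Two searches in `M₂₄`.
-/

set_option autoImplicit false

namespace CfsgLib.QT4.Mx

open Cfsg CfsgLib.M24E CfsgLib.Golay CfsgLib.J4T

theorem ord22_check : cS 0x1c8ee2b1154aa90891ebb4cc2bb420 0x19e0d3596c4d052439f1a966ab9020 8388609 [rE 1]
    (pk fun φ => or (powId φ 8) (powId φ 12)) = true := by decide +kernel

theorem t17_check : cS 0x4be929d62e51c772d98b8190413420 0x62a559d227b404943ee57196468c20 1 [rE 17]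
    (fun φ => or (not (isId fun x => φ (φ (φ x)))) (isId φ)) = true := by decide +kernel

end CfsgLib.QT4.Mx
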