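import Mathlib
import Cfsg.Agent.Lib.QT4.M22S
import Cfsg.Agent.Lib.QT4.BS
import Cfsg.Agent.Lib.J4T.DD

/-!
Facts about `M₂₂.2` as a subgroup of `M₂₄`.
-/

set_option autoImplicit false

namespace CfsgLib.QT4.Mx

open Cfsg Subgroup CfsgLib.LBal CfsgLib.LAE CfsgLib.QT2 CfsgLib.QT3 CfsgLib.M24E CfsgLib.Golay CfsgLib.J4T
open scoped Pointwise commutatorElement

/-- `M₂₂` -/
abbrev YY : Subgroup P24 := Spor.M22

theorem mem22 {q : ℕ} (h : is22 q = true) : pm q ∈ YY := mem_M22.2 (is22_spec h).2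

theorem YY_le : YY ≤ DD := fun _ h => (mem_M22.1 h).1

theorem conjY {r g : P24} (hr : r ∈ DD) (hg : g ∈ YY) : r * g * r⁻¹ ∈ YY := St.conj_mem (DD_le_normalizer hr) hg

theorem out_mul {a b : P24} (ha : a ∈ DD) (hb : b ∈ DD) (h1 : a ∉ YY) (h2 : b ∉ YY) : a * b ∈ YY := by
  refine mem_M22.2 ⟨mul_mem ha hb, ?_⟩
  rw [Equiv.Perm.mul_apply, (DD_swap hb fun e => h2 (mem_M22.2 ⟨hb, e⟩)).1,
    (DD_swap ha fun e => h1 (mem_M22.2 ⟨ha, e⟩)).2]

theorem sq_Y {a : P24} (ha : a ∈ DD) : a * a ∈ YY :=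
  (em (a ∈ YY)).elim (fun h => mul_mem h h) fun h => out_mul ha ha h h

theorem smul0 {g : P24} (h : g ∈ YY) : g • ofMask 1 = ofMask 1 := by
  rw [show ofMask 1 = {pt 0} by decide, Finset.smul_finset_singleton]
  exact congrArg _ (mem_M22.1 h).2

/-- the elements of the elementary abelian group of order 32 -/
noncomputable def rr (x : ℕ) : P24 := pm (rE x)

theorem rr_check : allLT 32 (fun x => frc (rE x) fun a => and (eqB (Nat.beq (ap a 0) 0) (Nat.blt x 16))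
    (allLT 32 fun y => frc (rE y) fun b => and (eqF (fun i => ap a (ap b i)) (ap (rE (Nat.xor x y))))
      (or (Nat.beq x y) (not (eqF (ap a) (ap b)))))) = true := by decide +kernel

theorem rr_rp {x : ℕ} (hx : x < 32) : Rp (ap (rE x)) (rr x) := pm_rp (isM_rE hx)

theorem x32 {x y : ℕ} (hx : x < 32) (hy : y < 32) : x ^^^ y < 32 := Nat.xor_lt_two_pow (n := 5) hx hy

theorem rr_mul {x y : ℕ} (hx : x < 32) (hy : y < 32) : rr x * rr y = rr (x ^^^ y) := by
  have h := of_allLT rr_check hx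
  rw [frc_eq, Bool.and_eq_true] at h
  have h1 := of_allLT h.2 hy
  rw [frc_eq, Bool.and_eq_true] at h1
  exact (((rr_rp hx).mul (rr_rp hy)).eqF_iff (rr_rp (x32 hx hy))).1 h1.1

theorem rr_inj {x y : ℕ} (hx : x < 32) (hy : y < 32) (e : rr x = rr y) : x = y := by
  have h := of_allLT rr_check hx
  rw [frc_eq, Bool.and_eq_true] at h
  have h1 := of_allLT h.2 hy
  rw [frc_eq, Bool.and_eq_true, ((rr_rp hx).eqF_iff (rr_rp hy)).2 e] at h1
  simpa using h1.2

theorem rr_DD {x : ℕ} (hx : x < 32) : rr x ∈ DD := rE_mem hx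

theorem rr_Y {x : ℕ} (hx : x < 32) : rr x ∈ YY ↔ x < 16 := by
  have h := of_allLT rr_check hx
  rw [frc_eq, Bool.and_eq_true, eqB_iff, beq_iff', Nat.blt_eq] at h
  rw [mem_M22, (rr_rp hx).pt_eq_iff (by norm_num) (by norm_num), h.1, and_iff_right (rr_DD hx)]

theorem rr_zero : rr 0 = 1 := (rr_rp (by norm_num)).isId_iff.1 (by decide +kernel)

theorem rr_sq {x : ℕ} (hx : x < 32) : rr x * rr x = 1 := by rw [rr_mul hx hx, Nat.xor_self, rr_zero]

theorem rr_ne {x : ℕ} (hx : x < 32) (h : x ≠ 0) : rr x ≠ 1 := fun e => h (rr_inj hx (by norm_num) (e.trans rr_zero.symm))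

/-- the elementary abelian group of order 32 -/
def BB : Subgroup P24 where
  carrier := {g | ∃ x < 32, g = rr x}
  one_mem' := ⟨0, by norm_num, rr_zero.symm⟩
  mul_mem' := by rintro _ _ ⟨x, hx, rfl⟩ ⟨y, hy, rfl⟩; exact ⟨_, x32 hx hy, rr_mul hx hy⟩
  inv_mem' := by rintro _ ⟨x, hx, rfl⟩; exact ⟨x, hx, inv_eq_of_mul_eq_one_right (rr_sq hx)⟩

theorem mem_BB {g : P24} : g ∈ BB ↔ ∃ x < 32, g = rr x := Iff.rfl

theorem rr_BB {x : ℕ} (hx : x < 32) : rr x ∈ BB := ⟨x, hx, rfl⟩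

theorem BB_sq {g : P24} (h : g ∈ BB) : g * g = 1 := let ⟨_, hx, e⟩ := h; e ▸ rr_sq hx

theorem BB_comm {a b : P24} (ha : a ∈ BB) (hb : b ∈ BB) : a * b = b * a := J4T.comm_of_sq (fun _ => BB_sq) ha hb

theorem card_BB : Nat.card BB = 32 :=
  (Nat.card_eq_of_bijective (fun x : Fin 32 => (⟨rr x, rr_BB x.2⟩ : BB))
    ⟨fun x y e => Fin.ext (rr_inj x.2 y.2 (congrArg Subtype.val e)),
      fun ⟨_, x, hx, e⟩ => ⟨⟨x, hx⟩, Subtype.ext e.symm⟩⟩).symm.trans (by simp)

/-- the subgroup generated by the elements of order three centralizing `l` -/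
abbrev XY (l : P24) : Subgroup P24 := XP 3 (YY ⊓ centralizer {l})

theorem XY_conj {r l x : P24} (hr : r ∈ DD) (hx : x ∈ XY l) : r * x * r⁻¹ ∈ XY (r * l * r⁻¹) := by
  have := (St.conj_mem_cj (g := r)).2 hx
  rwa [cj_XP, cj_inf, St.norm_iff.1 (DD_le_normalizer hr), St.cj_cent1] at this

theorem mem_XY {q l : ℕ} (h : and (and (is22 q) (and (isM q) (and (powId (ap q) 3) (not (isId (ap q))))))
    (and (and (isM q) (isM l)) (intw (ap q) (ap l) (ap l))) = true) : pm q ∈ XY (pm l) := by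
  rw [Bool.and_eq_true, Bool.and_eq_true] at h
  exact mem_XP ⟨mem22 h.1.1, St.mc1.2 (pm_comm h.2)⟩ (pm_ord Nat.prime_three h.1.2)

theorem class22 {l : P24} (hl : l ∈ YY) (h2 : l * l = 1) (h1 : l ≠ 1) : ∃ r ∈ YY, r * rr 1 * r⁻¹ = l :=
  let ⟨r, a, b, c⟩ := inv_inner (YY_le hl) (mem_M22.1 hl).2 h2 h1; ⟨r, mem_M22.2 ⟨a, b⟩, c⟩

theorem class22' {l : P24} (hl : l ∈ DD) (h : l ∉ YY) (h2 : l * l = 1) :
    ∃ r ∈ YY, r * rr 16 * r⁻¹ = l ∨ r * rr 17 * r⁻¹ = l :=
  let ⟨r, a, b, c⟩ := inv_outer hl (fun e => h (mem_M22.2 ⟨hl, e⟩)) h2; ⟨r, mem_M22.2 ⟨a, b⟩, c⟩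

theorem sq22 {l : P24} (hl : l ∈ YY) (h2 : l * l = 1) (h1 : l ≠ 1) : ∃ x ∈ XY l, x * x = l := by
  obtain ⟨r, hr, rfl⟩ := class22 hl h2 h1
  refine ⟨_, XY_conj (YY_le hr) (mul_mem (mem_XY (q := 0xba5b29bcf5a3a111142862c8a19ac0) (by decide +kernel))
    (mem_XY (q := 0xbd827a3a507c50c509a9990c5aac60) (by decide +kernel))), ?_⟩
  rw [conj_mul, mul_left_inj, mul_right_inj]
  have := (pm_rp (q := 0xba5b29bcf5a3a111142862c8a19ac0) (by decide +kernel)).mul
    (pm_rp (q := 0xbd827a3a507c50c509a9990c5aac60) (by decide +kernel))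
  exact ((this.mul this).eqF_iff (rr_rp (by norm_num))).1 (by decide +kernel)

theorem comm_back {r g l : P24} (h : g * (r * l * r⁻¹) = r * l * r⁻¹ * g) : r⁻¹ * g * r⁻¹⁻¹ * l = l * (r⁻¹ * g * r⁻¹⁻¹) := by
  calc _ = r⁻¹ * (g * (r * l * r⁻¹)) * r := by group
    _ = _ := by rw [h]; group

theorem ord22 {l g : P24} (hl : l ∈ YY) (h2 : l * l = 1) (h1 : l ≠ 1) (hg : g ∈ YY) (h : g * l = l * g) :
    g ^ 24 = 1 := by
  obtain ⟨r, hr, rfl⟩ := class22 hl h2 h1
  have h3 := conjY (inv_mem (YY_le hr)) hg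
  obtain ⟨φ, h4, h5⟩ := cS_spec ord22_check
    (DD_le (YY_le h3)) (YY_le h3).2 (List.forall_mem_singleton.2 (comm_back h))
  rw [pk_eq, Bool.or_eq_true, h4.mk.powId_iff, h4.mk.powId_iff, conj_pow, conj_pow, conj_eq_one_iff,
    conj_eq_one_iff] at h5
  rcases h5 with e | e
  · rw [show 24 = 8 * 3 from rfl, pow_mul, e, one_pow]
  · rw [show 24 = 12 * 2 from rfl, pow_mul, e, one_pow]

theorem cen22 {l α : P24} (hl : l ∈ YY) (h2 : l * l = 1) (h1 : l ≠ 1) (hα : α ∈ DD) (h : ∀ x ∈ XY l, α * x = x * α) :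
    α * α = 1 ∧ (α ∈ YY → α = 1 ∨ α = l) := by
  obtain ⟨r, hr, rfl⟩ := class22 hl h2 h1
  have h3 := mul_mem (mul_mem (inv_mem (YY_le hr)) hα) (inv_mem (inv_mem (YY_le hr)))
  obtain ⟨φ, h4, h5⟩ := cS_spec (v := 0x944283a98b790d3b3a82824b568ee0) (vi := 0xac8965ec77a871848d49b4ae122a0)
    (m := 8388609) (S := [0xba5b29bcf5a3a111142862c8a19ac0, 0xbd8679b250a3ab122d017944a69920])
    (good := fun φ => and (powId φ 2) (or (not (Nat.beq (φ 0) 0)) (inL [idq, rE 1] φ))) (by decide +kernel)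
    (DD_le h3) h3.2 (by
      simp only [List.forall_mem_cons, List.not_mem_nil, false_imp_iff, implies_true, and_true]
      exact ⟨comm_back (h _ (XY_conj (YY_le hr) (mem_XY (by decide +kernel)))),
        comm_back (h _ (XY_conj (YY_le hr) (mem_XY (by decide +kernel))))⟩)
  rw [Bool.and_eq_true, h4.powId_iff, conj_pow, conj_eq_one_iff, pow_two] at h5
  refine ⟨h5.1, fun k => ?_⟩
  have h6 := (h4.pt_eq_iff (by norm_num) (by norm_num)).1 (mem_M22.1 (conjY (inv_mem (YY_le hr)) k)).2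
  rw [h6, Nat.beq_refl, Bool.not_true, Bool.false_or] at h5
  obtain ⟨q, hq, e⟩ := inL_spec h4 h5.2
  simp only [List.mem_cons, List.not_mem_nil, or_false] at hq
  rcases hq with rfl | rfl
  · exact Or.inl (conj_eq_one_iff.1 (e.trans pm_idq))
  · exact Or.inr (by rw [rr, ← e]; group)

theorem three22 {l : P24} (hl : l ∈ YY) (h2 : l * l = 1) (h1 : l ≠ 1) :
    ∃ a ∈ YY, a * l = l * a ∧ orderOf a = 3 := by
  obtain ⟨r, hr, rfl⟩ := class22 hl h2 h1
  refine ⟨_, conjY (YY_le hr) (mem22 (q := 0xba5b29bcf5a3a111142862c8a19ac0) (by decide +kernel)), ?_,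
    (Tech.orderOf_conj_eq _ _).trans (pm_ord Nat.prime_three (by decide +kernel))⟩
  rw [conj_mul, conj_mul, rr, pm_comm (by decide +kernel)]

theorem q8_22 : ∃ a ∈ YY, ∃ b ∈ YY, a * a = rr 1 ∧ b * b = rr 1 ∧ ⁅a, b⁆ = rr 1 := by
  refine ⟨_, mem22 (q := 0xbca354412768d815928eb08aa999e0) (by decide +kernel), _,
    mem22 (q := 0xbd2500a6d143663588eca90a67a9c0) (by decide +kernel), pm_mul (by decide +kernel),
    pm_mul (by decide +kernel), ?_⟩
  have ha := pm_rp (q := 0xbca354412768d815928eb08aa999e0) (by decide +kernel)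
  have hb := pm_rp (q := 0xbd2500a6d143663588eca90a67a9c0) (by decide +kernel)
  rw [commutatorElement_def, mul_inv_eq_iff_eq_mul, mul_inv_eq_iff_eq_mul]
  exact ((ha.mul hb).eqF_iff (((rr_rp (x := 1) (by norm_num)).mul hb).mul ha)).1 (by decide +kernel)

theorem t17 {a : P24} (ha : a ∈ YY) (h : a * rr 17 = rr 17 * a) (h3 : a ^ 3 = 1) : a = 1 := by
  obtain ⟨φ, h4, h5⟩ := cS_spec t17_check
    (DD_le (YY_le ha)) (smul0 ha) (List.forall_mem_singleton.2 h)
  rw [(h4.mul (h4.mul h4)).isId_iff.2 (by rw [← h3, pow_three]), Bool.not_true, Bool.false_or] at h5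
  exact h4.isId_iff.1 h5

theorem out22 {φ : P24} (h : φ ∈ DD) (h1 : φ ∉ YY) (h2 : φ * φ = 1) :
    (∃ x ∈ XY φ, orderOf x = 7) ∨ ∀ a ∈ YY, a * φ = φ * a → a ^ 3 = 1 → a = 1 := by
  obtain ⟨r, hr, rfl | rfl⟩ := class22' h h1 h2
  · refine Or.inl ⟨_, XY_conj (YY_le hr) (mul_mem (mem_XY (q := 0xbc9f41060720da973153898b55a2c0) (by decide +kernel))
      (mem_XY (q := 0xb9d347422d61a455a8830cdf5122c0) (by decide +kernel))), (Tech.orderOf_conj_eq _ _).trans ?_⟩
    rw [pm_mul (c := cmp 0xbc9f41060720da973153898b55a2c0 0xb9d347422d61a455a8830cdf5122c0) (by decide +kernel)]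
    exact pm_ord (by norm_num) (by decide +kernel)
  · exact Or.inr fun a ha h3 h4 => conj_eq_one_iff.1 (t17 (conjY (inv_mem (YY_le hr)) ha) (comm_back h3)
      (by rw [conj_pow, h4, mul_one, mul_inv_cancel]))

theorem x10 : ∃ v ∈ XY (rr 16), v ≠ 1 ∧ ∃ u ∈ YY, u * rr 16 * u⁻¹ = v * rr 16 := by
  have ha := pm_rp (q := 0xbc9f41060720da973153898b55a2c0) (by decide +kernel)
  have hb := pm_rp (q := 0xbc856ad20d42a2b1a5c4398af64c20) (by decide +kernel)
  have hu := pm_rp (q := 0xbb948926afa1d91834ab1d82430a60) (by decide +kernel)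
  have hr := rr_rp (x := 16) (by norm_num)
  refine ⟨_, mul_mem (mem_XY (q := 0xbc9f41060720da973153898b55a2c0) (by decide +kernel))
    (mem_XY (q := 0xbc856ad20d42a2b1a5c4398af64c20) (by decide +kernel)), fun e => ?_, _,
    mem22 (q := 0xbb948926afa1d91834ab1d82430a60) (by decide +kernel), ?_⟩
  · have := (ha.mul hb).isId_iff.2 e
    revert this
    decide +kernel
  · rw [mul_inv_eq_iff_eq_mul]
    exact (hu.intw_iff hr ((ha.mul hb).mul hr)).1 (by decide +kernel)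

/-- the normalizer of `BB` in `M₂₂` -/
def NN : Subgroup P24 := YY ⊓ normalizer (BB : Set P24)

/-- the table `t` describes the action of `n` -/
noncomputable def chkN (n t : ℕ) : Bool :=
  and (is22 n) (allLT 32 fun x => intw (ap n) (ap (rE x)) (ap (rE (ap t x))))

theorem ap_lt (t x : ℕ) : ap t x < 32 := by rw [ap_eq]; exact Nat.mod_lt _ (by norm_num)

theorem chkN_spec {n t : ℕ} (h : chkN n t = true) :
    pm n ∈ NN ∧ ∀ x < 32, pm n * rr x * (pm n)⁻¹ = rr (ap t x) := by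
  rw [chkN, Bool.and_eq_true] at h
  have k : ∀ x < 32, pm n * rr x * (pm n)⁻¹ = rr (ap t x) := fun x hx => by
    rw [((pm_rp (is22_spec h.1).1).intw_iff (rr_rp hx) (rr_rp (ap_lt t x))).1 (of_allLT h.2 hx), mul_inv_cancel_right]
  refine ⟨⟨mem22 h.1, mem_normalizer_fintype ?_⟩, k⟩
  rintro _ ⟨x, hx, rfl⟩
  exact ⟨_, ap_lt t x, k x hx⟩

/-- orbits on triples -/
noncomputable def orbT (s : ℕ) : ℕ :=
  spin (fun t y => mkN (fun j => ap t (ap y j)) 3)
    [0xe5310dcff796adeaf6392b429128ce58de761100, 0xc5fb2aea1ff47749f2d90b88b60d263a04d515e0] 130 s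

theorem orbT_spec {s y : ℕ} (h : tb (orbT s) y = true) :
    ∃ n ∈ NN, ∀ j < 3, n * rr (ap s j) * n⁻¹ = rr (ap y j) := by
  refine spin_spec (R := fun y => ∃ n ∈ NN, ∀ j < 3, n * rr (ap s j) * n⁻¹ = rr (ap y j)) (fun t ht x ⟨n, hn, k⟩ => ?_)
    ⟨1, one_mem _, fun _ _ => by simp⟩ _ h
  obtain ⟨m, h1, h2⟩ : ∃ m ∈ NN, ∀ x < 32, m * rr x * m⁻¹ = rr (ap t x) := by
    simp only [List.mem_cons, List.not_mem_nil, or_false] at ht
    rcases ht with rfl | rfl
    · exact ⟨_, chkN_spec (n := 0xbc86c53a673168b685287c2c2a9220) (by decide +kernel)⟩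
    · exact ⟨_, chkN_spec (n := 0xbbcd169e930d99040caa926a4589c0) (by decide +kernel)⟩
  refine ⟨m * n, mul_mem h1 hn, fun j hj => ?_⟩
  rw [(mkN_spec _ 3 fun _ _ => ap_lt _ _).2 j hj, ← h2 _ (ap_lt x j), ← k j hj]
  group

/-- the orbit of length ten -/
def O1 : List ℕ := [16, 18, 20, 23, 24, 25, 28, 29, 30, 31]

/-- the orbit of length six -/
def O2 : List ℕ := [17, 19, 21, 22, 26, 27]

theorem orb1 {s x : ℕ} (hs : s < 32) (hx : x < 32) (h : tb (orbT s) x = true) : ∃ n ∈ NN, n * rr s * n⁻¹ = rr x := by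
  obtain ⟨n, hn, k⟩ := orbT_spec h
  have := k 0 (by norm_num)
  rw [ap_eq, ap_eq, pow_zero, Nat.div_one, Nat.div_one, Nat.mod_eq_of_lt hs, Nat.mod_eq_of_lt hx] at this
  exact ⟨n, hn, this⟩

theorem orbD {x : ℕ} (h0 : 0 < x) (hx : x < 16) : ∃ n ∈ NN, n * rr 1 * n⁻¹ = rr x :=
  orb1 (by norm_num) (by omega) (by revert h0; revert x; decide +kernel)

theorem orbO1 {x : ℕ} (hx : x ∈ O1) : ∃ n ∈ NN, n * rr 16 * n⁻¹ = rr x :=
  orb1 (by norm_num) (by revert x; decide) (by revert x; decide +kernel)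

theorem orbO2 {x : ℕ} (hx : x ∈ O2) : ∃ n ∈ NN, n * rr 17 * n⁻¹ = rr x :=
  orb1 (by norm_num) (by revert x; decide) (by revert x; decide +kernel)

theorem orb3_check : frc (orbT 22129) (fun V => allL O2 fun a => allL O2 fun b => allL O2 fun c =>
    or (or (Nat.beq a b) (or (Nat.beq a c) (Nat.beq b c))) (tb V (a + 32 * b + 1024 * c))) = true := by decide +kernel

theorem orb3 {a b c : ℕ} (ha : a ∈ O2) (hb : b ∈ O2) (hc : c ∈ O2) (h1 : a ≠ b) (h2 : a ≠ c) (h3 : b ≠ c) :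
    ∃ n ∈ NN, n * rr 17 * n⁻¹ = rr a ∧ n * rr 19 * n⁻¹ = rr b ∧ n * rr 21 * n⁻¹ = rr c := by
  have h := orb3_check
  rw [frc_eq] at h
  have h4 := (allL_iff _ _).1 ((allL_iff _ _).1 ((allL_iff _ _).1 h a ha) b hb) c hc
  simp only [Bool.or_eq_true, beq_iff', h1, h2, h3, false_or] at h4
  obtain ⟨n, hn, k⟩ := orbT_spec h4
  have lt : ∀ x ∈ O2, x < 32 := by decide
  have e1 := k 0 (by norm_num)
  have e2 := k 1 (by norm_num)
  have e3 := k 2 (by norm_num)
  have := lt a ha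
  have := lt b hb
  have := lt c hc
  rw [ap_eq, ap_eq] at e1 e2 e3
  rw [show (a + 32 * b + 1024 * c) / 32 ^ 0 % 32 = a by omega] at e1
  rw [show (a + 32 * b + 1024 * c) / 32 ^ 1 % 32 = b by omega] at e2
  rw [show (a + 32 * b + 1024 * c) / 32 ^ 2 % 32 = c by omega] at e3
  exact ⟨n, hn, e1, e2, e3⟩

/-! ### a Sylow 2-subgroup -/

/-- first generator of the dihedral complement -/
def qa : ℕ := 0xb9ded44032a8e895a993b18a470a20

/-- second generator of the dihedral complement -/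
def qb : ℕ := 0xba61499e356386f2aac19196269100

/-- the dihedral complement -/
def kL : List ℕ := [idq, qa, qb, 0xbb24d4582f48dd52a8f181962a1260, 0xbc9830d507836962a9f34996271220,
  0xbc12e8be76951a72aaa86196219020, 0xbbce30a50cb35d05aa51a98a4a0a60, 0xbd6ce8b2693d0725aa01798a468900]

theorem qa_NN : pm qa ∈ NN := (chkN_spec (t := 0xef3fed6f19a56d79ca306b1ee52d09214c718820) (by decide +kernel)).1

theorem qb_NN : pm qb ∈ NN := (chkN_spec (t := 0xffb9dd6f3884672ad2d74256a6b1cf3988510c20) (by decide +kernel)).1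

theorem qa_sq : pm qa * pm qa = 1 := (pm_mul (by decide +kernel)).trans pm_idq

theorem qb_sq : pm qb * pm qb = 1 := (pm_mul (by decide +kernel)).trans pm_idq

/-- the dihedral complement -/
abbrev KK : Subgroup P24 := closure {pm qa, pm qb}

theorem kL_check : allL kL (fun q => and (and (isM q) (powId (ap q) 4))
    (and (and (inL kL fun x => ap qa (ap q x)) (inL kL fun x => ap qb (ap q x)))
      (or (isId (ap q)) (allLT 32 fun x => not (eqF (ap q) (ap (rE x))))))) = true := by decide +kernel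

theorem mem_KK {k : P24} (h : k ∈ KK) : ∃ q ∈ kL, k = pm q := by
  have key : ∀ x ∈ ({pm qa, pm qb} : Set P24), ∀ y, (∃ q ∈ kL, y = pm q) → ∃ q ∈ kL, x * y = pm q := by
    rintro x hx _ ⟨q, hq, rfl⟩
    have h1 := (allL_iff _ _).1 kL_check q hq
    simp only [Bool.and_eq_true] at h1
    rcases hx with rfl | rfl
    · exact inL_spec ((pm_rp (by decide +kernel)).mul (pm_rp h1.1.1)) h1.2.1.1
    · exact inL_spec ((pm_rp (by decide +kernel)).mul (pm_rp h1.1.1)) h1.2.1.2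
  induction h using closure_induction_left with
  | one => exact ⟨idq, by simp [kL], pm_idq.symm⟩
  | mul_left x hx y _ ih => exact key x hx y ih
  | inv_mul_cancel x hx y _ ih =>
    rw [show x⁻¹ = x from inv_eq_of_mul_eq_one_right (by rcases hx with rfl | rfl; exacts [qa_sq, qb_sq])]
    exact key x hx y ih

theorem KK_BB {k : P24} (h : k ∈ KK) (h' : k ∈ BB) : k = 1 := by
  obtain ⟨q, hq, rfl⟩ := mem_KK h
  obtain ⟨x, hx, e⟩ := h'
  have h1 := (allL_iff _ _).1 kL_check q hq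
  simp only [Bool.and_eq_true, Bool.or_eq_true] at h1
  refine h1.2.2.elim (pm_rp h1.1.1).isId_iff.1 fun k => ?_
  have := of_allLT k hx
  rw [((pm_rp h1.1.1).eqF_iff (rr_rp hx)).2 e] at this
  cases this

theorem KK_NN : KK ≤ NN := (closure_le _).2 (by rintro _ (rfl | rfl); exacts [qa_NN, qb_NN])

theorem NN_norm : NN ≤ normalizer ((BB ⊓ YY : Subgroup P24) : Set P24) := fun _ h =>
  mem_normalizer_fintype fun _ hx => ⟨St.conj_mem h.2 hx.1, conjY (YY_le h.1) hx.2⟩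

theorem two_VV : IsPGroup 2 (KK ⊔ (BB ⊓ YY) : Subgroup P24) :=
  IsPGroup.to_sup_of_normal_right' (isPGroup_iff_forall_mem.2 fun k hk => by
    obtain ⟨q, hq, rfl⟩ := mem_KK hk
    have h1 := (allL_iff _ _).1 kL_check q hq
    rw [Bool.and_eq_true] at h1
    exact ⟨2, pm_pow h1.1⟩) (isPGroup_iff_forall_mem.2 fun _ h => ⟨1, (pow_two _).trans (BB_sq h.1)⟩) (KK_NN.trans NN_norm)

theorem card_VV : 128 ≤ Nat.card (KK ⊔ (BB ⊓ YY) : Subgroup P24) := by
  rw [Core.card_sup_of_le_normalizer_of_disjoint (KK_NN.trans NN_norm)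
    (eq_bot_iff.2 fun k hk => KK_BB hk.1 hk.2.1)]
  have h1 : 16 ≤ Nat.card (BB ⊓ YY : Subgroup P24) := by
    simpa using Nat.card_le_card_of_injective
      (fun x : Fin 16 => (⟨rr x, rr_BB (by omega), (rr_Y (by omega)).2 x.2⟩ : (BB ⊓ YY : Subgroup P24)))
      fun x y e => Fin.ext (rr_inj (by omega) (by omega) (congrArg Subtype.val e))
  have ha : pm qa ∈ KK := subset_closure (Or.inl rfl)
  have hb : pm qb ∈ KK := subset_closure (Or.inr rfl)
  have h2 : 4 ∣ Nat.card KK := by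
    have hr := (pm_rp (q := qa) (by decide +kernel)).mul (pm_rp (q := qb) (by decide +kernel))
    have h4 : orderOf (pm qa * pm qb) = 2 ^ (1 + 1) := orderOf_eq_prime_pow (fun e => by
      have := (hr.powId_iff 2).2 e
      revert this
      decide +kernel) ((hr.powId_iff 4).1 (by decide +kernel))
    have := KK.orderOf_dvd_natCard (mul_mem ha hb)
    rwa [h4] at this
  have h3 : 5 ≤ Nat.card KK := by
    let f : Fin 5 → ℕ := ![idq, qa, qb, cmp qa qb, cmp qb qa]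
    have hf : ∀ i, pm (f i) ∈ KK := fun i => by
      fin_cases i
      · exact pm_idq ▸ one_mem _
      · exact ha
      · exact hb
      · exact pm_mul (a := qa) (b := qb) (c := cmp qa qb) (by decide +kernel) ▸ mul_mem ha hb
      · exact pm_mul (a := qb) (b := qa) (c := cmp qb qa) (by decide +kernel) ▸ mul_mem hb ha
    have hn : ∀ i j, i = j ∨ and (and (isM (f i)) (isM (f j))) (not (eqF (ap (f i)) (ap (f j)))) = true := by
      decide +kernel
    simpa using Nat.card_le_card_of_injective (fun i => (⟨_, hf i⟩ : KK)) fun i j e =>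
      (hn i j).resolve_right fun k => pm_ne k (congrArg Subtype.val e)
  obtain ⟨c, hc⟩ := h2
  have : 8 ≤ Nat.card KK := by omega
  nlinarith

theorem syl22 {S : Subgroup P24} (h1 : S ≤ YY) (h2 : IsPGroup 2 S) (h3 : KK ⊔ (BB ⊓ YY) ≤ S) : S ≤ KK ⊔ (BB ⊓ YY) := by
  obtain ⟨n, hn⟩ := h2.exists_card_eq
  have h4 := card_dvd_of_le h1
  rw [Mathieu.card_M22, hn] at h4
  have h5 : n ≤ 7 := by
    by_contra k
    have := (pow_dvd_pow 2 (show 8 ≤ n by omega)).trans h4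
    omega
  exact (eq_of_le_of_card_ge h3 (hn ▸ (Nat.pow_le_pow_right (by norm_num) h5).trans card_VV)).ge

theorem cenV {g : P24} (hg : g ∈ DD) (h1 : g * rr 4 = rr 4 * g) (h2 : g * pm qa = pm qa * g)
    (h3 : g * pm qb = pm qb * g) : g = 1 ∨ g = rr 1 := by
  obtain ⟨φ, h4, h5⟩ := cS_spec (v := 0x54054bbea7334a06592e24d6392221) (vi := 0x9aa3430c36921cb2dd2283da72540c)
    (m := 8388609) (S := [rE 4, qa, qb]) (good := inL [idq, rE 1]) (by decide +kernel) (DD_le hg) hg.2 (by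
      simp only [List.forall_mem_cons, List.not_mem_nil, false_imp_iff, implies_true, and_true]
      exact ⟨h1, h2, h3⟩)
  obtain ⟨q, hq, e⟩ := inL_spec h4 h5
  simp only [List.mem_cons, List.not_mem_nil, or_false] at hq
  rcases hq with rfl | rfl
  exacts [Or.inl (e.trans pm_idq), Or.inr e]

end CfsgLib.QT4.Mx
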