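import Mathlib
import Cfsg.Agent.Lib.QT4.KT
import Cfsg.Agent.Lib.QT4.M22A

/-!
`M₂₂`.
-/

set_option autoImplicit false

namespace CfsgLib.QT4

open Cfsg Subgroup CfsgLib.LBal CfsgLib.LAE CfsgLib.QT2 CfsgLib.QT3
open scoped MatrixGroups commutatorElement

namespace Mx

open CfsgLib.M24E CfsgLib.Golay CfsgLib.J4T

theorem exists_U22 : ∃ U : Sylow 2 YY, (⟨rr 4, (rr_Y (by norm_num)).2 (by norm_num)⟩ : YY) ∈ U ∧
    (⟨pm qa, qa_NN.1⟩ : YY) ∈ U ∧ (⟨pm qb, qb_NN.1⟩ : YY) ∈ U := by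
  obtain ⟨U, hU⟩ := (two_VV.comap_subtype (K := YY)).exists_le_sylow
  exact ⟨U, hU (mem_sup_right ⟨rr_BB (by norm_num), (rr_Y (by norm_num)).2 (by norm_num)⟩),
    hU (mem_sup_left (subset_closure (Or.inl rfl))), hU (mem_sup_left (subset_closure (Or.inr rfl)))⟩

theorem kg22 : KG YY False False False := by
  obtain ⟨U, h1, h2, h3⟩ := exists_U22
  refine kg_of_uz (fun a b ha hb => ?_) ⟨U, fun h => ?_, fun a _ b _ ha hb k1 k2 => ?_⟩ ⟨U, fun α _ k => ?_⟩
    (by rw [Agent.S2062.result]; norm_num)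
  · obtain ⟨r, hr, e⟩ := class22 a.2 (congrArg Subtype.val (kt_o2.1 ha).1) fun e => (kt_o2.1 ha).2 (Subtype.ext e)
    obtain ⟨s, hs, e'⟩ := class22 b.2 (congrArg Subtype.val (kt_o2.1 hb).1) fun e => (kt_o2.1 hb).2 (Subtype.ext e)
    refine isConj_iff.2 ⟨⟨s * r⁻¹, mul_mem hs (inv_mem hr)⟩, Subtype.ext ?_⟩
    show s * r⁻¹ * a * (s * r⁻¹)⁻¹ = b
    rw [← e, ← e']; group
  · have ha := pm_rp (q := qa) (by decide +kernel)
    have hb := pm_rp (q := qb) (by decide +kernel)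
    have := (ha.intw_iff hb hb).2 (congrArg (fun x : U => ((x : YY) : P24)) (h.is_comm.comm ⟨_, h2⟩ ⟨_, h3⟩))
    revert this
    decide +kernel
  · have k : ∀ c : YY, orderOf c = 2 → (∀ u ∈ U, u * c = c * u) → (c : P24) = rr 1 := fun c hc k =>
      (cenV (YY_le c.2) (congrArg Subtype.val (k _ h1).symm) (congrArg Subtype.val (k _ h2).symm)
        (congrArg Subtype.val (k _ h3).symm)).resolve_left fun e => (kt_o2.1 hc).2 (Subtype.ext e)
    exact Subtype.ext ((k a ha k1).trans (k b hb k2).symm)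
  · obtain ⟨e, he⟩ := dd_equiv'
    obtain ⟨d, rfl⟩ := e.surjective α
    have k' : ∀ u ∈ U, (d : P24) * u = u * d := fun u hu =>
      mul_inv_eq_iff_eq_mul.1 ((he d u).symm.trans (congrArg Subtype.val (k u hu)))
    have : (d : P24) ∈ YY := by
      rcases cenV d.2 (k' _ h1) (k' _ h2) (k' _ h3) with e | e <;> rw [e]
      exacts [one_mem _, (rr_Y (by norm_num)).2 (by norm_num)]
    exact ⟨⟨d, this⟩, MulEquiv.ext fun m => Subtype.ext (he d m).symm⟩

theorem pp22 : PP YY 3 :=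
  pp3_of (by rw [Agent.S2062.result]; norm_num)
    (a := ⟨_, mem22 (q := 0xba5b29bcf5a3a111142862c8a19ac0) (by decide +kernel)⟩)
    (b := ⟨_, mem22 (q := 0xba6877320f8a24d32833a88a41aec0) (by decide +kernel)⟩)
    ((orderOf_coe _).symm.trans (pm_ord Nat.prime_three (by decide +kernel)))
    ((orderOf_coe _).symm.trans (pm_ord Nat.prime_three (by decide +kernel)))
    (Subtype.ext (pm_comm (by decide +kernel))) (fun e => pm_ne (by decide +kernel) (congrArg Subtype.val e))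
    fun e => pm_ne (b := cmp 0xba5b29bcf5a3a111142862c8a19ac0 0xba5b29bcf5a3a111142862c8a19ac0)
      (by decide +kernel) ((congrArg Subtype.val e).trans (pm_mul (by decide +kernel)))

end Mx

variable {Y : Type*} [Group Y] [Finite Y]

theorem kg_M22 (h : Spor.IsoM22 Y) : KG Y False False False := h.elim fun e => KG.congr e Mx.kg22

theorem pp_M22 (h : Spor.IsoM22 Y) : PP Y 3 := h.elim fun e => PP.congr e Mx.pp22

end CfsgLib.QT4
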