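import Mathlib
import Cfsg.Agent.Lib.QT4.KT
import Cfsg.Agent.Lib.Invol.SylowElem

/-!
Groups with a root datum of type `B₂` in characteristic two: the Sylow subgroup.
-/

set_option autoImplicit false
set_option linter.unusedSectionVars false

namespace CfsgLib.QT4.Ks4

open Cfsg Subgroup
open scoped commutatorElement

variable {F : Type} [Field F] [Finite F] [CharP F 2] {Y : Type*} [Group Y] [Finite Y]

/-- `N t₁ t₂ t₃ t₄ = x_a(t₁) x_b(t₂) x_c(t₃) x_d(t₄)`, `m` and `n` are the fundamental reflections, `γ` is the graph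
automorphism -/
structure Fr (N : F → F → F → F → Y) (U : Sylow 2 Y) (m n : Y) (γ : MulAut Y) : Prop where
  big : 3 ≤ Nat.card F
  mul : ∀ t₁ t₂ t₃ t₄ u₁ u₂ u₃ u₄, N t₁ t₂ t₃ t₄ * N u₁ u₂ u₃ u₄ =
    N (t₁ + u₁) (t₂ + u₂) (t₃ + u₃ + u₁ * t₂) (t₄ + u₄ + u₁ ^ 2 * t₂)
  zero : ∀ {t₁ t₂ t₃ t₄}, N t₁ t₂ t₃ t₄ = 1 → t₁ = 0 ∧ t₂ = 0 ∧ t₃ = 0 ∧ t₄ = 0
  mem : ∀ {g}, g ∈ (U : Subgroup Y) ↔ ∃ t₁ t₂ t₃ t₄, g = N t₁ t₂ t₃ t₄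
  mm : m * m = 1
  mb : ∀ t, m * N 0 t 0 0 * m = N 0 0 0 t
  mc : ∀ t, m * N 0 0 t 0 * m = N 0 0 t 0
  m3 : (N 1 0 0 0 * m) ^ 3 = 1
  br : n * (m * n * m) = m * n * m * n
  tor : ∀ l k : F, l ≠ 0 → k ≠ 0 → ∃ h ∈ normalizer ((U : Subgroup Y) : Set Y),
    (∀ t, h * N 0 0 t 0 * h⁻¹ = N 0 0 (l * t) 0) ∧ ∀ t, h * N 0 0 0 t * h⁻¹ = N 0 0 0 (k * t)
  nU : ∀ y ∈ normalizer ((U : Subgroup Y) : Set Y), ∃ u ∈ (U : Subgroup Y), ∃ (h : Y) (l₁ l₂ l₃ l₄ : F), y = u * h ∧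
    (∀ t, h * N t 0 0 0 * h⁻¹ = N (l₁ * t) 0 0 0) ∧ (∀ t, h * N 0 t 0 0 * h⁻¹ = N 0 (l₂ * t) 0 0) ∧
    (∀ t, h * N 0 0 t 0 * h⁻¹ = N 0 0 (l₃ * t) 0) ∧ (∀ t, h * N 0 0 0 t * h⁻¹ = N 0 0 0 (l₄ * t)) ∧
    (l₁ = 1 → l₂ = 1 → h = 1)
  γa : ∀ t, γ (N t 0 0 0) = N 0 (t ^ 2) 0 0
  γb : ∀ t, γ (N 0 t 0 0) = N t 0 0 0
  γc : ∀ t, γ (N 0 0 t 0) = N 0 0 0 (t ^ 2)
  γd : ∀ t, γ (N 0 0 0 t) = N 0 0 t 0
  γm : γ m = n
  γn : γ n = m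
  ext : ∀ φ : MulAut Y, (∀ u ∈ (U : Subgroup Y), φ u = u) → φ m = m → φ n = n → φ = 1
  cen : center Y = ⊥
  out : ∀ j, (∀ t : F, t ^ 2 ^ j = t) → Nat.card (Out Y) ∣ 2 * j

/-- the homomorphism of an additive family -/
def hom {R : Type} [AddGroup R] (x : R → Y) (h : ∀ s t, x (s + t) = x s * x t) : Multiplicative R →* Y :=
  MonoidHom.mk' (fun s => x s.toAdd) fun s t => h s.toAdd t.toAdd

theorem mem_hom {R : Type} [AddGroup R] {x : R → Y} {h : ∀ s t, x (s + t) = x s * x t} {g : Y} :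
    g ∈ (hom x h).range ↔ ∃ s, g = x s :=
  ⟨fun ⟨s, e⟩ => ⟨s.toAdd, e.symm⟩, fun ⟨s, e⟩ => ⟨.ofAdd s, e.symm⟩⟩

theorem card_hom {R : Type} [AddGroup R] {x : R → Y} {h : ∀ s t, x (s + t) = x s * x t}
    (hx : Function.Injective x) : Nat.card (hom x h).range = Nat.card R :=
  (Nat.card_congr (MonoidHom.ofInjective (f := hom x h) fun _ _ e => hx e).toEquiv).symm

theorem exists_sqrt (t : F) : ∃ s, s ^ 2 = t := (frobeniusEquiv F 2).surjective t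

theorem mem_c {x l : Y} : x ∈ centralizer ({l} : Set Y) ↔ x * l = l * x := mem_centralizer_singleton_iff

theorem comm_XP {p : ℕ} {B : Subgroup Y} {g x : Y} (hg : g ∈ B) (hx : x ∈ XP p B) : ⁅g, x⁆ ∈ XP p B :=
  mul_mem ((closure_le ((XP p B).comap (MulAut.conj g).toMonoidHom)).2 (fun y hy => subset_closure
    ⟨mul_mem (mul_mem hg hy.1) (inv_mem hg), ((MulAut.conj g).orderOf_eq y).trans hy.2⟩) hx) (inv_mem hx)

namespace Fr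

variable {N : F → F → F → F → Y} {U : Sylow 2 Y} {m n : Y} {γ : MulAut Y}

theorem cg {t₁ t₂ t₃ t₄ u₁ u₂ u₃ u₄ : F} (e₁ : t₁ = u₁ := by grind) (e₂ : t₂ = u₂ := by grind)
    (e₃ : t₃ = u₃ := by grind) (e₄ : t₄ = u₄ := by grind) : N t₁ t₂ t₃ t₄ = N u₁ u₂ u₃ u₄ := by
  rw [e₁, e₂, e₃, e₄]

theorem mcg {t₁ t₂ t₃ t₄ u₁ u₂ u₃ u₄ : F} {K : Subgroup Y} (e : N t₁ t₂ t₃ t₄ ∈ K) (e₁ : t₁ = u₁ := by grind)
    (e₂ : t₂ = u₂ := by grind) (e₃ : t₃ = u₃ := by grind) (e₄ : t₄ = u₄ := by grind) : N u₁ u₂ u₃ u₄ ∈ K :=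
  by rwa [← e₁, ← e₂, ← e₃, ← e₄]

variable (h : Fr N U m n γ)
include h

theorem exw : ∃ w : F, w ≠ 0 ∧ w ≠ 1 := by
  classical
  have := Fintype.ofFinite F
  obtain ⟨w, hw⟩ := Finset.exists_mem_notMem_of_card_lt_card (s := {0, 1}) (t := (Finset.univ : Finset F))
    ((Finset.card_le_two).trans_lt (by have := h.big; rwa [Nat.card_eq_fintype_card] at this))
  exact ⟨w, by simpa using hw.2⟩

theorem one : N 0 0 0 0 = 1 := mul_eq_left.1 ((h.mul 0 0 0 0 0 0 0 0).trans cg)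

theorem inv (t₁ t₂ t₃ t₄ : F) : (N t₁ t₂ t₃ t₄)⁻¹ = N t₁ t₂ (t₃ + t₁ * t₂) (t₄ + t₁ ^ 2 * t₂) :=
  inv_eq_of_mul_eq_one_right ((h.mul ..).trans (Eq.trans cg h.one))

theorem inj {t₁ t₂ t₃ t₄ u₁ u₂ u₃ u₄ : F} (e : N t₁ t₂ t₃ t₄ = N u₁ u₂ u₃ u₄) :
    t₁ = u₁ ∧ t₂ = u₂ ∧ t₃ = u₃ ∧ t₄ = u₄ := by
  rw [← mul_inv_eq_one, h.inv, h.mul] at e
  obtain ⟨e1, e2, e3, e4⟩ := h.zero e
  grind

theorem mU (t₁ t₂ t₃ t₄ : F) : N t₁ t₂ t₃ t₄ ∈ (U : Subgroup Y) := h.mem.2 ⟨_, _, _, _, rfl⟩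

theorem comm (t₁ t₂ t₃ t₄ u₁ u₂ u₃ u₄ : F) : ⁅N t₁ t₂ t₃ t₄, N u₁ u₂ u₃ u₄⁆ =
    N 0 0 (t₁ * u₂ + u₁ * t₂) (t₁ ^ 2 * u₂ + u₁ ^ 2 * t₂) := by
  simp only [commutatorElement_def, h.inv, h.mul]; exact cg

theorem dec (t₁ t₂ t₃ t₄ : F) : N t₁ t₂ t₃ t₄ = N t₁ 0 0 0 * N 0 t₂ 0 0 * N 0 0 t₃ 0 * N 0 0 0 t₄ := by
  simp only [h.mul]; exact cg

theorem zc (s t : F) {u : Y} (hu : u ∈ (U : Subgroup Y)) : u * N 0 0 s t = N 0 0 s t * u := by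
  obtain ⟨_, _, _, _, rfl⟩ := h.mem.1 hu
  simp only [h.mul]; exact cg

theorem sq0 {t₁ t₂ : F} (e : t₁ * t₂ = 0) (t₃ t₄ : F) : N t₁ t₂ t₃ t₄ * N t₁ t₂ t₃ t₄ = 1 :=
  (h.mul ..).trans (Eq.trans cg h.one)

theorem of_sq {t₁ t₂ t₃ t₄ : F} (e : N t₁ t₂ t₃ t₄ * N t₁ t₂ t₃ t₄ = 1) : t₁ * t₂ = 0 := by
  rw [h.mul] at e
  have := (h.zero e).2.2.1
  grind

theorem nn : n * n = 1 := by rw [← h.γm, ← map_mul, h.mm, map_one]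

theorem na (t : F) : n * N t 0 0 0 * n = N 0 0 t 0 := by
  rw [← h.γm, ← h.γb, ← h.γd, ← h.mb, map_mul, map_mul]

theorem nd (t : F) : n * N 0 0 0 t * n = N 0 0 0 t := by
  obtain ⟨s, rfl⟩ := exists_sqrt t
  nth_rewrite 2 [← h.γc]
  rw [← h.mc, map_mul, map_mul, h.γm, h.γc]

theorem n3 : (N 0 1 0 0 * n) ^ 3 = 1 := by
  rw [← h.γm, ← one_pow (M := F) 2, ← h.γa, ← map_mul, ← map_pow, h.m3, map_one]

theorem mi : m⁻¹ = m := inv_eq_of_mul_eq_one_right h.mm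

theorem ni : n⁻¹ = n := inv_eq_of_mul_eq_one_right h.nn

theorem md (t : F) : m * N 0 0 0 t * m = N 0 t 0 0 := by
  rw [← h.mb, ← mul_assoc, ← mul_assoc, h.mm, one_mul, mul_assoc, h.mm, mul_one]

theorem nc (t : F) : n * N 0 0 t 0 * n = N t 0 0 0 := by
  rw [← h.na, ← mul_assoc, ← mul_assoc, h.nn, one_mul, mul_assoc, h.nn, mul_one]

theorem om : orderOf (N 1 0 0 0 * m) = 3 :=
  have := Fact.mk Nat.prime_three
  orderOf_eq_prime h.m3 fun e => by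
    have h1 := h.mb 1
    rw [← inv_eq_of_mul_eq_one_right e, h.inv, h.mul, h.mul] at h1
    have := (h.inj h1).2.1
    grind

theorem on : orderOf (N 0 1 0 0 * n) = 3 :=
  have := Fact.mk Nat.prime_three
  orderOf_eq_prime h.n3 fun e => by
    have h1 := h.na 1
    rw [← inv_eq_of_mul_eq_one_right e, h.inv, h.mul, h.mul] at h1
    have := (h.inj h1).1
    grind

/-- the short root group in the centre -/
def A : Subgroup Y := (hom (fun t => N 0 0 t 0) fun _ _ => Eq.trans cg (h.mul ..).symm).range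

/-- the long root group in the centre -/
def B : Subgroup Y := (hom (fun t => N 0 0 0 t) fun _ _ => Eq.trans cg (h.mul ..).symm).range

theorem mem_A {g : Y} : g ∈ h.A ↔ ∃ s, g = N 0 0 s 0 := mem_hom

theorem mem_B {g : Y} : g ∈ h.B ↔ ∃ s, g = N 0 0 0 s := mem_hom

theorem mem_Z {g : Y} : g ∈ h.A ⊔ h.B ↔ ∃ s t, g = N 0 0 s t := by
  refine ⟨fun e => ?_, ?_⟩
  · obtain ⟨_, ha, _, hb, rfl⟩ := (Core.mem_sup_of_le_normalizer_left (fun g hg => by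
      obtain ⟨t, rfl⟩ := h.mem_B.1 hg
      refine mem_normalizer_fintype fun x hx => ?_
      obtain ⟨s, rfl⟩ := h.mem_A.1 hx
      rwa [h.zc s 0 (h.mU ..), mul_inv_cancel_right])).1 e
    obtain ⟨s, rfl⟩ := h.mem_A.1 ha
    obtain ⟨t, rfl⟩ := h.mem_B.1 hb
    exact ⟨_, _, (h.mul ..).trans (cg (add_zero 0) (add_zero 0) rfl rfl)⟩
  · rintro ⟨s, t, rfl⟩
    rw [show N 0 0 s t = N 0 0 s 0 * N 0 0 0 t from Eq.trans cg (h.mul ..).symm]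
    exact mul_mem_sup (h.mem_A.2 ⟨_, rfl⟩) (h.mem_B.2 ⟨_, rfl⟩)

theorem Z_le {K : Subgroup Y} (e : ∀ s t, N 0 0 (s * t) (s ^ 2 * t) ∈ K) (s t : F) : N 0 0 s t ∈ K := by
  obtain ⟨w, w0, w1⟩ := h.exw
  have h0 : w + w ^ 2 ≠ 0 := by grind
  have h1 : ∀ t, N 0 0 0 t ∈ K := fun t => by
    have := mul_mem (e 1 (w * (t / (w + w ^ 2)))) (e w (t / (w + w ^ 2)))
    rw [h.mul] at this
    exact mcg this
  have := mul_mem (e 1 s) (h1 (s + t))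
  rw [h.mul] at this
  exact mcg this

theorem zen : ZU (U : Subgroup Y) = h.A ⊔ h.B := by
  ext g
  rw [h.mem_Z]
  refine ⟨fun ⟨h1, h2⟩ => ?_, ?_⟩
  · obtain ⟨t₁, t₂, t₃, t₄, rfl⟩ := h.mem.1 h1
    have e1 := h2 _ (h.mU 1 0 0 0)
    have e2 := h2 _ (h.mU 0 1 0 0)
    simp only [h.mul] at e1 e2
    have := (h.inj e1).2.2.1
    have := (h.inj e2).2.2.1
    exact ⟨t₃, t₄, cg⟩
  · rintro ⟨s, t, rfl⟩
    exact ⟨h.mU .., fun u hu => h.zc s t hu⟩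

theorem com : ⁅(U : Subgroup Y), (U : Subgroup Y)⁆ = h.A ⊔ h.B := by
  refine le_antisymm (commutator_le.2 fun x hx y hy => ?_) fun g hg => ?_
  · obtain ⟨_, _, _, _, rfl⟩ := h.mem.1 hx
    obtain ⟨_, _, _, _, rfl⟩ := h.mem.1 hy
    exact h.mem_Z.2 ⟨_, _, h.comm ..⟩
  · obtain ⟨s, t, rfl⟩ := h.mem_Z.1 hg
    refine h.Z_le (fun s t => ?_) s t
    have := commutator_mem_commutator (h.mU s 0 0 0) (h.mU 0 t 0 0)
    rw [h.comm] at this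
    exact mcg this

theorem xp {l : Y} (e : l ∈ h.A ∨ l ∈ h.B) : l ∈ XP 3 (centralizer {l}) := by
  obtain ⟨s, t, rfl⟩ := h.mem_Z.1 (e.elim mem_sup_left mem_sup_right)
  have hU : ∀ t₁ t₂ t₃ t₄, N t₁ t₂ t₃ t₄ ∈ centralizer {N 0 0 s t} := fun _ _ _ _ => mem_c.2 (h.zc s t (h.mU ..))
  refine h.Z_le (fun x y => ?_) s t
  rcases e with e | e
  · obtain ⟨r, e⟩ := h.mem_A.1 e
    have h1 := comm_mem_XP (mul_mem (hU _ _ _ _) (mem_c.2 (by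
      rw [e, ← mul_inv_eq_iff_eq_mul, h.mi, h.mc]))) h.om (hU 0 0 0 y)
    rw [commutatorElement_def, show ∀ x y z : Y, z * (x * y) * z⁻¹ * (x * y)⁻¹ = z * (x * (y * z⁻¹ * y⁻¹) * x⁻¹) from
      fun x y z => by group, h.mi, inv_eq_of_mul_eq_one_right (h.sq0 (mul_zero 0) 0 y), h.md, h.inv,
      h.mul, h.mul, h.mul] at h1
    have h2 := comm_XP (hU x 0 0 0) h1
    rw [h.comm] at h2
    exact mcg h2
  · obtain ⟨r, e⟩ := h.mem_B.1 e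
    have h1 := comm_mem_XP (mul_mem (hU _ _ _ _) (mem_c.2 (by
      rw [e, ← mul_inv_eq_iff_eq_mul, h.ni, h.nd]))) h.on (hU 0 0 x 0)
    rw [commutatorElement_def, show ∀ x y z : Y, z * (x * y) * z⁻¹ * (x * y)⁻¹ = z * (x * (y * z⁻¹ * y⁻¹) * x⁻¹) from
      fun x y z => by group, h.ni, inv_eq_of_mul_eq_one_right (h.sq0 (mul_zero 0) x 0), h.nc, h.inv,
      h.mul, h.mul, h.mul] at h1
    have h2 := comm_XP (hU 0 y 0 0) h1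
    rw [h.comm] at h2
    exact mcg h2

theorem intr {w : Y} (hw : w ∈ h.A ⊔ h.B) (h1 : w ≠ 1) : w ∈ h.A ∨ w ∈ h.B ↔
    ¬ ∃ a ∈ (U : Subgroup Y), ∃ b ∈ (U : Subgroup Y), a * a = 1 ∧ b * b = 1 ∧ ⁅a, b⁆ = w := by
  obtain ⟨s, t, rfl⟩ := h.mem_Z.1 hw
  have h2 : ¬ (s = 0 ∧ t = 0) := by rintro ⟨rfl, rfl⟩; exact h1 h.one
  refine ⟨fun e ⟨a, ha, b, hb, e1, e2, e3⟩ => ?_, fun e => by_contra fun e' => e ?_⟩
  · obtain ⟨t₁, t₂, _, _, rfl⟩ := h.mem.1 ha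
    obtain ⟨u₁, u₂, _, _, rfl⟩ := h.mem.1 hb
    have e4 := h.of_sq e1
    have e5 := h.of_sq e2
    obtain ⟨-, -, e6, e7⟩ := h.inj ((h.comm ..).symm.trans e3)
    have e8 : s = 0 ∨ t = 0 := e.symm.imp (fun e => (h.mem_B.1 e).elim fun _ e => (h.inj e).2.2.1)
      fun e => (h.mem_A.1 e).elim fun _ e => (h.inj e).2.2.2
    rcases mul_eq_zero.1 e4 with rfl | rfl <;> rcases mul_eq_zero.1 e5 with rfl | rfl <;> grind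
  · have s0 : s ≠ 0 := by rintro rfl; exact e' (.inr (h.mem_B.2 ⟨_, rfl⟩))
    have t0 : t ≠ 0 := by rintro rfl; exact e' (.inl (h.mem_A.2 ⟨_, rfl⟩))
    exact ⟨_, h.mU (t / s) 0 0 0, _, h.mU 0 (s ^ 2 / t) 0 0, h.sq0 (mul_zero _) _ _, h.sq0 (zero_mul _) _ _,
      (h.comm ..).trans cg⟩

theorem tor' {a a' b b' : Y} (ha : a ∈ h.A) (ha' : a' ∈ h.A) (hb : b ∈ h.B) (hb' : b' ∈ h.B) (h1 : a ≠ 1) (h2 : a' ≠ 1)
    (h3 : b ≠ 1) (h4 : b' ≠ 1) : ∃ g ∈ normalizer ((U : Subgroup Y) : Set Y), g * a * g⁻¹ = a' ∧ g * b * g⁻¹ = b' := by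
  obtain ⟨s, rfl⟩ := h.mem_A.1 ha
  obtain ⟨s', rfl⟩ := h.mem_A.1 ha'
  obtain ⟨t, rfl⟩ := h.mem_B.1 hb
  obtain ⟨t', rfl⟩ := h.mem_B.1 hb'
  have s0 : s ≠ 0 := by rintro rfl; exact h1 h.one
  have s1 : s' ≠ 0 := by rintro rfl; exact h2 h.one
  have t0 : t ≠ 0 := by rintro rfl; exact h3 h.one
  have t1 : t' ≠ 0 := by rintro rfl; exact h4 h.one
  obtain ⟨g, hg, e1, e2⟩ := h.tor _ _ (div_ne_zero s1 s0) (div_ne_zero t1 t0)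
  exact ⟨g, hg, by rw [e1, div_mul_cancel₀ _ s0], by rw [e2, div_mul_cancel₀ _ t0]⟩

theorem all : AllTC Y := fun x hx => by
  have h2 : x * x = 1 := by rw [← sq, ← hx, pow_orderOf_eq_one]
  have k : ∀ s t, IsConj x (N 0 0 s t) → Tc x := fun s t e =>
    (tc_of_sylow U (by
      obtain ⟨g, e⟩ := isConj_iff.1 e
      exact e ▸ ((MulAut.conj g).orderOf_eq x).trans hx) fun u hu => h.zc s t hu).isConj e.symm
  obtain ⟨g, hg⟩ := Invol.exists_conj_involution_mem_sylow U h2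
  obtain ⟨t₁, t₂, t₃, t₄, e⟩ := h.mem.1 hg
  have e1 : t₁ * t₂ = 0 := h.of_sq (t₃ := t₃) (t₄ := t₄) (by rw [← e, conj_mul, h2]; simp)
  replace e := isConj_iff.2 ⟨g, e⟩
  by_cases h3 : t₁ = 0
  · subst h3
    by_cases h4 : t₂ = 0
    · exact k _ _ (h4 ▸ e)
    obtain ⟨s, hs⟩ := exists_sqrt (t₄ / t₂)
    refine k (t₃ + s * t₂) t₂ (e.trans (isConj_iff.2 ⟨m * N s 0 0 0, ?_⟩))
    rw [show ∀ x y z : Y, x * y * z * (x * y)⁻¹ = x * (y * z * y⁻¹) * x⁻¹ from fun x y z => by group,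
      show N s 0 0 0 * N 0 t₂ t₃ t₄ * (N s 0 0 0)⁻¹ = N 0 t₂ 0 0 * N 0 0 (t₃ + s * t₂) 0 by
        simp only [h.inv, h.mul]; exact cg, ← conj_mul, h.mi, h.mb, h.mc, h.mul]
    exact cg
  · obtain rfl := (mul_eq_zero.1 e1).resolve_left h3
    refine k t₁ (t₄ + t₁ * t₃) (e.trans (isConj_iff.2 ⟨n * N 0 (t₃ / t₁) 0 0, ?_⟩))
    rw [show ∀ x y z : Y, x * y * z * (x * y)⁻¹ = x * (y * z * y⁻¹) * x⁻¹ from fun x y z => by group,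
      show N 0 (t₃ / t₁) 0 0 * N t₁ 0 t₃ t₄ * (N 0 (t₃ / t₁) 0 0)⁻¹ = N t₁ 0 0 0 * N 0 0 0 (t₄ + t₁ * t₃) by
        simp only [h.inv, h.mul]; exact cg, ← conj_mul, h.ni, h.na, h.nd, h.mul]
    exact cg

theorem gen : (U : Subgroup Y) ≤ ⨆ E ∈ {E : Subgroup Y | E ≤ U ∧ (∀ e ∈ E, e * e = 1) ∧
    Nat.card E = Nat.card F ^ 3}, E := fun g hg => by
  obtain ⟨t₁, t₂, t₃, t₄, rfl⟩ := h.mem.1 hg
  have e3 : Nat.card (F × F × F) = Nat.card F ^ 3 := by simp [pow_three]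
  rw [show N t₁ t₂ t₃ t₄ = N t₁ 0 0 0 * N 0 t₂ t₃ t₄ from Eq.trans cg (h.mul ..).symm]
  refine mul_mem (mem_iSup_of_mem (hom (fun t : F × F × F => N t.1 0 t.2.1 t.2.2) fun _ _ =>
      (cg (by simp) (by simp) (by simp) (by simp)).trans (h.mul ..).symm).range (mem_iSup_of_mem ⟨fun g hg => ?_,
        fun g hg => ?_, (card_hom fun x y e => ?_).trans e3⟩ (mem_hom.2 ⟨(t₁, 0, 0), rfl⟩)))
    (mem_iSup_of_mem (hom (fun t : F × F × F => N 0 t.1 t.2.1 t.2.2) fun _ _ =>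
      (cg (by simp) (by simp) (by simp) (by simp)).trans (h.mul ..).symm).range (mem_iSup_of_mem ⟨fun g hg => ?_,
        fun g hg => ?_, (card_hom fun x y e => ?_).trans e3⟩ (mem_hom.2 ⟨(t₂, t₃, t₄), rfl⟩)))
  · obtain ⟨_, rfl⟩ := mem_hom.1 hg
    exact h.mU ..
  · obtain ⟨_, rfl⟩ := mem_hom.1 hg
    exact h.sq0 (mul_zero _) _ _
  · exact Prod.ext (h.inj e).1 (Prod.ext (h.inj e).2.2.1 (h.inj e).2.2.2)
  · obtain ⟨_, rfl⟩ := mem_hom.1 hg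
    exact h.mU ..
  · obtain ⟨_, rfl⟩ := mem_hom.1 hg
    exact h.sq0 (zero_mul _) _ _
  · exact Prod.ext (h.inj e).2.1 (Prod.ext (h.inj e).2.2.1 (h.inj e).2.2.2)

end Fr

end CfsgLib.QT4.Ks4
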