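import Mathlib
import Cfsg.Agent.Lib.QT4.KS4A

/-!
Groups with a root datum of type `B₂` in characteristic two: automorphisms.
-/

set_option autoImplicit false
set_option linter.unusedSectionVars false

namespace CfsgLib.QT4.Ks4.Fr

open Cfsg Subgroup CfsgLib.QT3
open scoped commutatorElement

variable {F : Type} [Field F] [Finite F] [CharP F 2] {Y : Type*} [Group Y] [Finite Y]
  {N : F → F → F → F → Y} {U : Sylow 2 Y} {m n : Y} {γ : MulAut Y} (h : Fr N U m n γ)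
include h

theorem cinj : Function.Injective (MulAut.conj : Y →* MulAut Y) :=
  (injective_iff_map_eq_one _).2 fun y e => mem_bot.1 (h.cen ▸ mem_center_iff.2 fun x =>
    (mul_inv_eq_iff_eq_mul.1 (congrArg (fun φ : MulAut Y => φ x) e : y * x * y⁻¹ = x)).symm)

theorem γN (t₁ t₂ t₃ t₄ : F) : γ (N t₁ t₂ t₃ t₄) = N t₂ (t₁ ^ 2) (t₄ + t₂ * t₁ ^ 2) (t₃ ^ 2 + t₂ ^ 2 * t₁ ^ 2) := by
  rw [h.dec, map_mul, map_mul, map_mul, h.γa, h.γb, h.γc, h.γd, h.mul, h.mul, h.mul]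
  exact cg

theorem γ2 (j : ℕ) : (∀ t₁ t₂ t₃ t₄, (γ ^ (2 * j)) (N t₁ t₂ t₃ t₄) = N (iterateFrobenius F 2 j t₁)
    (iterateFrobenius F 2 j t₂) (iterateFrobenius F 2 j t₃) (iterateFrobenius F 2 j t₄)) ∧
    (γ ^ (2 * j)) m = m ∧ (γ ^ (2 * j)) n = n := by
  induction j with
  | zero => simp
  | succ j ih =>
    simp only [mul_add_one, pow_add, sq, MulAut.mul_apply, h.γm, h.γn, ih.2, and_self, and_true]
    intro t₁ t₂ t₃ t₄
    rw [h.γN, h.γN, cg (N := N) (t₁ := t₁ ^ 2) (t₂ := t₂ ^ 2) (t₃ := t₃ ^ 2 + t₂ ^ 2 * t₁ ^ 2 + t₁ ^ 2 * t₂ ^ 2)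
      (t₄ := (t₄ + t₂ * t₁ ^ 2) ^ 2 + (t₁ ^ 2) ^ 2 * t₂ ^ 2) rfl rfl (u₃ := t₃ ^ 2) (u₄ := t₄ ^ 2), ih.1]
    simp only [iterateFrobenius_def, ← pow_mul, pow_succ' 2 j]

theorem γU (k : ℕ) : ∀ u ∈ (U : Subgroup Y), (γ ^ k) u ∈ (U : Subgroup Y) := by
  induction k with
  | zero => exact fun u hu => hu
  | succ k ih =>
    intro u hu
    obtain ⟨_, _, _, _, rfl⟩ := h.mem.1 hu
    rw [pow_succ, MulAut.mul_apply, h.γN]
    exact ih _ (h.mU ..)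

theorem key {V : Subgroup Y} (hB : V ⊓ h.B = ⊥) {t₁ t₂ t₃ t₄ : F}
    (e : ∀ u ∈ (U : Subgroup Y), ⁅u, N t₁ t₂ t₃ t₄⁆ ∈ V) : t₁ * t₂ = 0 := by
  obtain ⟨w, w0, w1⟩ := h.exw
  have h1 := e _ (h.mU (w * t₁) (w * t₂) 0 0)
  rw [h.comm] at h1
  have := (h.zero (mem_bot.1 (hB.le ⟨h1, h.mem_B.2 ⟨_, cg rfl rfl (by grind) rfl⟩⟩))).2.2.2
  grind

theorem ana {α : MulAut Y} {k : ℕ} {y : Y} (e : α * γ ^ k = MulAut.conj y) {V : Subgroup Y}
    (h1 : V ≤ U) (h2 : (U : Subgroup Y) ≤ normalizer (V : Set Y)) (h3 : ∀ u ∈ (U : Subgroup Y), u⁻¹ * α u ∈ V)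
    (hA : V ⊓ h.A = ⊥) (hB : V ⊓ h.B = ⊥) :
    (∃ j, k = 2 * j ∧ ∀ t : F, t ^ 2 ^ j = t) ∧ γ ^ k = 1 ∧ y * y = 1 := by
  have h4 : ∀ u ∈ (U : Subgroup Y), ((γ ^ k) u)⁻¹ * (y * u * y⁻¹) ∈ V := fun u hu => by
    have := h3 _ (h.γU k u hu)
    rwa [← MulAut.mul_apply, e] at this
  obtain ⟨u, hu, d, l₁, l₂, l₃, l₄, rfl, e1, e2, e3, e4, e5⟩ := h.nU y (mem_normalizer_fintype fun u hu =>
    (Subgroup.mul_mem_cancel_left _ (inv_mem (h.γU k u hu))).1 (h1 (h4 u hu)))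
  obtain ⟨s₁, s₂, s₃, s₄, rfl⟩ := h.mem.1 hu
  simp only [show ∀ x y z : Y, x * y * z * (x * y)⁻¹ = x * (y * z * y⁻¹) * x⁻¹ from fun x y z => by group] at h4
  rcases Nat.even_or_odd' k with ⟨j, rfl | rfl⟩
  · have k3 : ∀ t, iterateFrobenius F 2 j t = l₃ * t := fun t => by
      have := h4 _ (h.mU 0 0 t 0)
      simp only [(h.γ2 j).1, e3, h.inv, h.mul, map_zero] at this
      have := (h.zero (mem_bot.1 (hA.le ⟨this, h.mem_A.2 ⟨_, cg (e₃ := rfl)⟩⟩))).2.2.1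
      grind
    have k4 : l₄ = 1 := by
      have := h4 _ (h.mU 0 0 0 1)
      simp only [(h.γ2 j).1, e4, h.inv, h.mul, map_zero, map_one] at this
      have := (h.zero (mem_bot.1 (hB.le ⟨this, h.mem_B.2 ⟨_, cg (e₄ := rfl)⟩⟩))).2.2.2
      grind
    have k5 : l₃ = 1 := by simpa using (k3 1).symm
    have k6 : d * N 0 0 1 1 * d⁻¹ = ⁅d * N 1 0 0 0 * d⁻¹, d * N 0 1 0 0 * d⁻¹⁆ := by
      rw [← conjugate_commutatorElement, h.comm]; congr 2; exact cg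
    rw [show N 0 0 1 1 = N 0 0 1 0 * N 0 0 0 1 from Eq.trans cg (h.mul ..).symm, ← conj_mul, e1, e2, e3, e4, h.comm,
      h.mul] at k6
    obtain ⟨-, -, k7, k8⟩ := h.inj k6
    obtain rfl := e5 (by grind) (by grind)
    have k9 : γ ^ (2 * j) = 1 := h.ext _ (fun u hu => by
      obtain ⟨_, _, _, _, rfl⟩ := h.mem.1 hu
      simp only [(h.γ2 j).1, k3, k5, one_mul]) (h.γ2 j).2.1 (h.γ2 j).2.2
    refine ⟨⟨j, rfl, fun t => by simpa [k5, iterateFrobenius_def] using k3 t⟩, k9, ?_⟩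
    rw [mul_one]
    refine h.sq0 (h.key hB (t₃ := s₃) (t₄ := s₄) fun u hu => ?_) _ _
    have := h4 _ (inv_mem hu)
    rw [k9] at this
    simpa [commutatorElement_def, mul_assoc] using this
  · have h5 := h4 _ (h.mU 1 0 0 0)
    simp only [pow_succ γ, MulAut.mul_apply, h.γa, (h.γ2 j).1, e1, h.inv, h.mul, map_zero, map_one, one_pow] at h5
    have h6 := h.key hB fun u hu => mul_mem ((mem_normalizer_iff.1 (h2 hu) _).1 h5) (inv_mem h5)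
    have h7 := e1 1
    rw [show l₁ * 1 = 0 by grind, h.one, conj_eq_one_iff] at h7
    exact absurd (h.zero h7).1 one_ne_zero

theorem inn {k : ℕ} (e : γ ^ k ∈ Inn Y) : (∃ j, k = 2 * j ∧ ∀ t : F, t ^ 2 ^ j = t) ∧ γ ^ k = 1 := by
  obtain ⟨y, e⟩ := e
  have := h.ana (α := 1) (by rw [one_mul, e]) (V := ⊥) bot_le (by simp) (by simp) (bot_inf_eq _) (bot_inf_eq _)
  exact ⟨this.1, this.2.1⟩

theorem ord : orderOf (QuotientGroup.mk γ : Out Y) = Nat.card (Out Y) := by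
  obtain ⟨⟨j, e, hj⟩, -⟩ := h.inn ((QuotientGroup.eq_one_iff _).1
    ((QuotientGroup.mk_pow _ _ _).trans (pow_orderOf_eq_one (QuotientGroup.mk γ : Out Y))))
  exact Nat.dvd_antisymm (orderOf_dvd_natCard _) (e ▸ h.out j hj)

theorem pw (x : Out Y) : ∃ k : ℕ, (QuotientGroup.mk γ : Out Y) ^ k = x :=
  mem_powers_iff_mem_zpowers.2 ((eq_top_of_card_eq _ ((Nat.card_zpowers _).trans h.ord)).ge (mem_top x))

theorem cyc : IsCyclic (Out Y) := isCyclic_of_orderOf_eq_card _ h.ord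

theorem v6 (α : MulAut Y) {V : Subgroup Y} (h1 : V ≤ U) (h2 : (U : Subgroup Y) ≤ normalizer (V : Set Y))
    (h3 : ∀ u ∈ (U : Subgroup Y), u⁻¹ * α u ∈ V) (hA : V ⊓ h.A = ⊥) (hB : V ⊓ h.B = ⊥) :
    ∃ a, a * a = 1 ∧ α = MulAut.conj a := by
  obtain ⟨k, hk⟩ := h.pw (QuotientGroup.mk α)⁻¹
  obtain ⟨y, e⟩ : α * γ ^ k ∈ Inn Y := (QuotientGroup.eq_one_iff _).1 (by
    rw [QuotientGroup.mk_mul, QuotientGroup.mk_pow, hk, mul_inv_cancel])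
  obtain ⟨-, e1, e2⟩ := h.ana e.symm h1 h2 h3 hA hB
  exact ⟨y, e2, by rw [e, e1, mul_one]⟩

theorem g1 : G1 Y := ⟨U, fun α _ e =>
  (h.v6 α (V := ⊥) bot_le (by simp) (fun u hu => by simp [e u hu]) (bot_inf_eq _) (bot_inf_eq _)).elim
    fun a e => ⟨a, e.2.symm⟩⟩

theorem card_le {E : Subgroup Y} (f : F → F → F → F → F × F) (hE : E ≤ U) (e : ∀ t₁ t₂ t₃ t₄ u₁ u₂ u₃ u₄,
    N t₁ t₂ t₃ t₄ ∈ E → N u₁ u₂ u₃ u₄ ∈ E → f t₁ t₂ t₃ t₄ = f u₁ u₂ u₃ u₄ → N t₁ t₂ t₃ t₄ = N u₁ u₂ u₃ u₄) :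
    Nat.card E ≤ Nat.card F ^ 2 := by
  choose t₁ t₂ t₃ t₄ ht using fun x : E => h.mem.1 (hE x.2)
  rw [sq, ← Nat.card_prod]
  exact Nat.card_le_card_of_injective (fun x => f (t₁ x) (t₂ x) (t₃ x) (t₄ x)) fun x y e' => Subtype.ext
    ((ht x).trans ((e _ _ _ _ _ _ _ _ (ht x ▸ x.2) (ht y ▸ y.2) e').trans (ht y).symm))

theorem phi0 : ∃ φ : MulAut Y, φ * φ = 1 ∧ φ ∉ Inn Y ∧ (∀ u ∈ U, φ u ∈ U) ∧
    (∀ g ∈ U, g * φ g = 1 → ∃ u ∈ U, u⁻¹ * φ u = g) ∧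
    ∀ E ≤ (U : Subgroup Y) ⊓ fixedSubgroup φ, Nat.card E ≤ Nat.card F ^ 2 := by
  obtain ⟨⟨j, e, hj⟩, e1⟩ := h.inn (k := Nat.card (Out Y)) ((QuotientGroup.eq_one_iff _).1
    ((QuotientGroup.mk_pow _ _ _).trans pow_card_eq_one'))
  have h0 : γ ^ j ∉ Inn Y := fun e2 => by
    have h1 := orderOf_dvd_of_pow_eq_one ((QuotientGroup.mk_pow _ _ _).symm.trans ((QuotientGroup.eq_one_iff _).2 e2))
    have h2 : 0 < Nat.card (Out Y) := Nat.card_pos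
    rw [h.ord] at h1
    have := Nat.le_of_dvd (by omega) h1
    omega
  refine ⟨γ ^ j, by rw [← pow_add, ← two_mul, ← e, e1], h0, h.γU j, ?_⟩
  rcases Nat.even_or_odd' j with ⟨i, rfl | rfl⟩
  · have k := (h.γ2 i).1
    have k1 : ∀ t, iterateFrobenius F 2 i (iterateFrobenius F 2 i t) = t := fun t => by
      rw [iterateFrobenius_def, iterateFrobenius_def, ← pow_mul, ← pow_add, ← two_mul, hj]
    obtain ⟨z, hz⟩ : ∃ z, iterateFrobenius F 2 i z ≠ z := by_contra fun e => h0 (by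
      push Not at e
      rw [h.ext _ (fun u hu => by
        obtain ⟨_, _, _, _, rfl⟩ := h.mem.1 hu
        simp only [k, e]) (h.γ2 i).2.1 (h.γ2 i).2.2]
      exact one_mem _)
    generalize iterateFrobenius F 2 i = σ at k k1 hz
    obtain ⟨x, hx⟩ : ∃ x, σ x = x + 1 := ⟨z / (z + σ z), by rw [map_div₀, map_add, k1]; grind⟩
    refine ⟨fun g hg e => ?_, fun E hE => h.card_le (fun t₁ t₂ t₃ t₄ => (t₁ + x * t₂, t₃ + x * t₄))
      (hE.trans inf_le_left) fun t₁ t₂ t₃ t₄ u₁ u₂ u₃ u₄ e1 e2 e3 => ?_⟩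
    · obtain ⟨t₁, t₂, t₃, t₄, rfl⟩ := h.mem.1 hg
      rw [k, h.mul] at e
      obtain ⟨e1, e2, e3, e4⟩ := h.zero e
      refine ⟨_, h.mU (x * t₁) (x * t₂) (x * (t₃ + x * t₁ * t₂)) (x * (t₄ + x * t₁ ^ 2 * t₂)), ?_⟩
      simp only [k, h.inv, h.mul, map_mul, map_add, map_pow, hx, show σ t₁ = t₁ by grind, show σ t₂ = t₂ by grind,
        show σ t₃ = t₃ + t₁ * t₂ by grind, show σ t₄ = t₄ + t₁ ^ 2 * t₂ by grind]
      exact cg
    · obtain ⟨a1, a2, a3, a4⟩ := h.inj ((k ..).symm.trans (hE e1).2)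
      obtain ⟨b1, b2, b3, b4⟩ := h.inj ((k ..).symm.trans (hE e2).2)
      obtain ⟨c1, c2⟩ := Prod.ext_iff.1 e3
      have d1 := congrArg σ c1
      have d2 := congrArg σ c2
      simp only [map_add, map_mul, hx, a1, a2, a3, a4, b1, b2, b3, b4] at c1 c2 d1 d2
      exact cg
  · have k : ∀ t₁ t₂ t₃ t₄, (γ ^ (2 * i + 1)) (N t₁ t₂ t₃ t₄) = _ := fun t₁ t₂ t₃ t₄ => by
      rw [pow_succ, MulAut.mul_apply, h.γN, (h.γ2 i).1]
    generalize iterateFrobenius F 2 i = σ at k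
    refine ⟨fun g hg e => ?_, fun E hE => h.card_le (fun t₁ _ t₃ _ => (t₁, t₃))
      (hE.trans inf_le_left) fun t₁ t₂ t₃ t₄ u₁ u₂ u₃ u₄ e1 e2 e3 => ?_⟩
    · obtain ⟨t₁, t₂, t₃, t₄, rfl⟩ := h.mem.1 hg
      rw [k, h.mul] at e
      obtain ⟨-, e2, -, e4⟩ := h.zero e
      refine ⟨_, h.mU t₁ 0 t₃ 0, ?_⟩
      simp only [k, h.inv, h.mul, map_mul, map_add, map_pow, map_zero] at e2 e4 ⊢
      exact cg
    · obtain ⟨-, a2, -, a4⟩ := h.inj ((k ..).symm.trans (hE e1).2)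
      obtain ⟨-, b2, -, b4⟩ := h.inj ((k ..).symm.trans (hE e2).2)
      obtain ⟨rfl, rfl⟩ := Prod.mk.inj e3
      obtain rfl := a2.symm.trans b2
      rw [a4.symm.trans b4]

theorem outer {φ ψ : MulAut Y} (h1 : φ * φ = 1) (h2 : φ ∉ Inn Y) (h3 : ψ * ψ = 1) (h4 : ψ ∉ Inn Y) :
    ψ * φ ∈ Inn Y := by
  have := h.cyc
  rw [← QuotientGroup.eq_one_iff] at h2 h4 ⊢
  have h5 : (QuotientGroup.mk φ : Out Y) * QuotientGroup.mk φ = 1 := by rw [← QuotientGroup.mk_mul, h1]; rfl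
  rw [QuotientGroup.mk_mul, eq_of_cyclic_sq h4 h2 (by rw [← QuotientGroup.mk_mul, h3]; rfl) h5, h5]

theorem out' : OutA Y := by
  obtain ⟨φ, h1, h2, h3, h4, -⟩ := h.phi0
  exact ⟨ocyc_of_cyclic h.cyc, .inr fun ψ h5 h6 => (h1_of_local h.cen h1 U h3 fun g hg e =>
    (h4 g hg e).imp fun _ e => e.2).twist h.cen h1 h5 (h.outer h1 h2 h5 h6)⟩

theorem jf {ψ : MulAut Y} (h5 : ψ * ψ = 1) (h6 : ψ ∉ Inn Y) {E : Subgroup Y} (hE : E ≤ fixedSubgroup ψ)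
    (h7 : ∀ e ∈ E, e * e = 1) : 2 * Nat.card E < Nat.card F ^ 3 := by
  obtain ⟨φ, h1, h2, h3, h4, h8⟩ := h.phi0
  obtain ⟨y, hy⟩ := h.outer h1 h2 h5 h6
  obtain ⟨P, k1, k2⟩ := inv_sylow_top h.cinj (ψ := ψ) (k := 1) (by rwa [pow_one, sq]) (Q := E)
    (fun x => ⟨1, Subtype.ext (by simpa [sq] using h7 x x.2)⟩) fun x hx => (hE hx).symm ▸ hx
  obtain ⟨α, k3, k4⟩ := exists_transfer h.cen h5 h1 (y := y) (by rw [hy, mul_assoc, h1, mul_one]) h4 h3 P k2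
  have k5 := h8 (E.map α.toMonoidHom) (by
    rintro _ ⟨x, hx, rfl⟩
    exact ⟨(k4 x).1 (k1 hx), (k3 x).symm.trans (congrArg α (hE hx))⟩)
  rw [card_map_of_injective α.injective] at k5
  have := h.big
  calc _ ≤ 2 * Nat.card F ^ 2 := by omega
    _ < _ := by rw [pow_succ' _ 2]; exact Nat.mul_lt_mul_of_pos_right (by omega) (by positivity)

theorem pp : PP Y 3 := by
  have k1 : m * (N 0 1 0 0 * n) * m⁻¹ = N 0 0 0 1 * (m * n * m) := by rw [← conj_mul, h.mi, h.mb]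
  have k2 := ((MulAut.conj m).orderOf_eq _).trans h.on
  rw [MulAut.conj_apply, k1] at k2
  have k3 : Commute n (N 0 0 0 1) := mul_inv_eq_iff_eq_mul.1 (by rw [h.ni, h.nd])
  have k4 : Commute (N 0 1 0 0 * n) (N 0 0 0 1) := Commute.mul_left (h.zc 0 1 (h.mU ..)) k3
  have k5 : Commute (N 0 1 0 0) (m * n * m) := by
    have := k3.symm.map (MulAut.conj m)
    rwa [MulAut.conj_apply, MulAut.conj_apply, h.mi, h.md] at this
  refine pp_of_compl Nat.prime_three (by decide) (zpowers (γ ^ 2)) (eq_bot_iff.2 fun φ ⟨h1, h2⟩ => ?_) (fun φ e => ?_)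
    (closure {N 0 1 0 0 * n, N 0 0 0 1 * (m * n * m)}) (fun σ h1 => ?_)
    (not_rank_of Nat.prime_three h.on k2 (k4.mul_right (k5.mul_left h.br)).eq (fun e => ?_)
      (subset_closure (by simp)) (subset_closure (by simp)))
  · obtain ⟨k, rfl⟩ := mem_powers_iff_mem_zpowers.2 h1
    exact (pow_mul γ 2 k).symm.trans (h.inn ((pow_mul γ 2 k).symm ▸ h2)).2
  · obtain ⟨k, hk⟩ := h.pw (QuotientGroup.mk φ)
    obtain ⟨y, hy⟩ : (γ ^ 2) ^ (2 * k) * φ⁻¹ ∈ Inn Y := (QuotientGroup.eq_one_iff _).1 (by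
      rw [QuotientGroup.mk_mul, ← pow_mul, ← mul_assoc, mul_comm _ k, pow_mul, QuotientGroup.mk_pow,
        QuotientGroup.mk_pow, hk, ← QuotientGroup.mk_pow, ← QuotientGroup.mk_mul, show 2 * 2 = 3 + 1 from rfl, pow_succ, e,
        one_mul, mul_inv_cancel]; rfl)
    exact ⟨y, by rw [hy, inv_mul_cancel_right]; exact pow_mem (mem_zpowers _) _⟩
  · obtain ⟨k, rfl⟩ := mem_powers_iff_mem_zpowers.2 h1
    refine (closure_le (fixedSubgroup _)).2 ?_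
    rintro _ (rfl | rfl) <;> show ((γ ^ 2) ^ k) _ = _ <;>
      simp only [← pow_mul, map_mul, (h.γ2 k).1, (h.γ2 k).2, map_zero, map_one]
  · obtain ⟨k, hk⟩ := mem_zpowers_iff.1 e
    have h1 : Commute (N 0 0 0 1 * (m * n * m)) (N 0 0 0 1) := hk ▸ k4.zpow_left k
    have h2 : (N 0 0 0 1 * (m * n * m)) ^ 2 = 1 := by
      rw [sq, ← mul_assoc, h1.eq, ← mul_assoc (N 0 0 0 1), h.sq0 (mul_zero 0), one_mul]
      nth_rewrite 2 4 [← h.mi]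
      rw [conj_mul, h.nn, mul_one, mul_inv_cancel]
    exact absurd (k2 ▸ orderOf_dvd_of_pow_eq_one h2) (by decide)

theorem ks4 : KS4 Y where
  all := h.all
  g1 := h.g1
  out := h.out'
  pp := h.pp
  ex := ⟨U, h.A, h.B,
    { zen := h.zen
      dis := eq_bot_iff.2 fun g ⟨h1, h2⟩ => by
        obtain ⟨s, rfl⟩ := h.mem_A.1 h1
        obtain ⟨t, e⟩ := h.mem_B.1 h2
        rw [(h.inj e).2.2.1, h.one]; exact one_mem _
      el := fun w hw => by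
        obtain ⟨s, t, rfl⟩ := h.mem_Z.1 hw
        exact h.sq0 (mul_zero 0) _ _
      card := by
        have h1 : Nat.card h.A = Nat.card F := card_hom fun _ _ e => (h.inj e).2.2.1
        have h2 : Nat.card h.B = Nat.card F := card_hom fun _ _ e => (h.inj e).2.2.2
        have := Fintype.ofFinite F
        obtain ⟨k, -, hk⟩ := FiniteField.card F 2
        have h3 := h.big
        rw [h1, h2]
        rw [Nat.card_eq_fintype_card, hk] at h3 ⊢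
        have h4 : 2 ∣ 2 ^ (k : ℕ) := dvd_pow_self 2 k.ne_zero
        exact ⟨rfl, by omega⟩
      com := h.com
      tor := fun _ ha _ ha' _ hb _ hb' => h.tor' ha ha' hb hb'
      xp := fun _ e _ => h.xp e
      intr := fun _ => h.intr
      v6 := fun α _ _ => h.v6 α
      jf := ⟨_, h.gen, fun _ h1 h2 _ => h.jf h1 h2⟩ }⟩

end CfsgLib.QT4.Ks4.Fr
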