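import Mathlib
import Cfsg.Agent.Lib.QT4.Defs
import Cfsg.Agent.Lib.QT3.R3
import Cfsg.Agent.Lib.QT3.Congr
import Cfsg.Agent.Lib.QT2.List
import Cfsg.Agent.Lib.Schur.QuotUniq
import Cfsg.Agent.S0254
import Cfsg.Agent.S0255
import Cfsg.Agent.S0256
import Cfsg.Agent.S2034
import Cfsg.Agent.S2035
import Cfsg.Agent.S2036
import Cfsg.Agent.S2037
import Cfsg.Agent.S2038
import Cfsg.Agent.S2040
import Cfsg.Agent.S2042
import Cfsg.Agent.S2046
import Cfsg.Agent.S2051
import Cfsg.Agent.S2086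
import Cfsg.Agent.S2088
import Cfsg.Agent.S2089
import Cfsg.Agent.S2092
import Cfsg.Agent.S2100
import Cfsg.Agent.S2102
import Cfsg.Agent.S2110
import Cfsg.Agent.S2114
import Cfsg.Agent.S2115
import Cfsg.Agent.S2116

/-!
The list of the components.
-/

set_option autoImplicit false

namespace CfsgLib.QT4

open Cfsg Subgroup CfsgLib.LBal CfsgLib.LAE CfsgLib.QT2 CfsgLib.QT3
open scoped MatrixGroups commutatorElement

/-- the proper covers -/
def Covs (L : Type*) [Group L] : Prop :=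
  Cov L ∨ (Nat.card (center L) = 2 ∧ (Spor.IsoM12 (L ⧸ center L) ∨ Spor.IsoM22 (L ⧸ center L) ∨
    Spor.IsoJ2 (L ⧸ center L) ∨ Spor.IsoHS (L ⧸ center L) ∨ Spor.IsoRu (L ⧸ center L) ∨
    ∃ (F : Type) (_ : Field F) (_ : Fintype F), Fintype.card F = 4 ∧
      (Nonempty (L ⧸ center L ≃* Lie.chevG2.group F) ∨ Nonempty (L ⧸ center L ≃* PSL(3, F))))) ∨
  (IsCyclic (center L) ∧ Nat.card (center L) = 4 ∧ Spor.IsoM22 (L ⧸ center L)) ∨
  (IsKleinFour (center L) ∧ ∃ (F : Type) (_ : Field F) (_ : Fintype F), Fintype.card F = 4 ∧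
    Nonempty (L ⧸ center L ≃* PSL(3, F)))

namespace LI

variable {L : Type*} [Group L] {Q : Type*} [Group Q]

theorem stem (hL : IsQuasisimple L) (e : L ⧸ center L ≃* Q) :
    IsStemExtension (e.toMonoidHom.comp (QuotientGroup.mk' (center L))) ∧
      (e.toMonoidHom.comp (QuotientGroup.mk' (center L))).ker = center L := by
  have hk : (e.toMonoidHom.comp (QuotientGroup.mk' (center L))).ker = center L := by
    ext x; simp
  exact ⟨⟨e.surjective.comp (QuotientGroup.mk'_surjective _), hk.le,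
    by rw [hL.1.commutator_eq_top]; exact le_top⟩, hk⟩

theorem onto {A : Type*} [CommGroup A] (hL : IsQuasisimple L) (hA : HasSchurMultiplier Q A)
    (e : L ⧸ center L ≃* Q) : ∃ f : A →* center L, Function.Surjective f := by
  obtain ⟨h1, h2⟩ := stem hL e
  obtain ⟨Γ, _, _, σ, -, ⟨e'⟩, β, hβ, h3⟩ := Schur.exists_cover_onto' hA h1
  obtain ⟨f, hf, -⟩ := Schur.exists_ker_data e' β h3 hβ
  exact ⟨(MulEquiv.subgroupCongr h2).toMonoidHom.comp f, (MulEquiv.subgroupCongr h2).surjective.comp hf⟩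

theorem dvd {n : ℕ} (hL : IsQuasisimple L) (hA : HasCyclicSchurMultiplier Q n) (e : L ⧸ center L ≃* Q) :
    IsCyclic (center L) ∧ Nat.card (center L) ∣ n := by
  obtain ⟨f, hf⟩ := onto hL hA e
  refine ⟨isCyclic_of_surjective f hf, ?_⟩
  have := card_dvd_of_surjective f hf
  rwa [Nat.card_congr Multiplicative.toAdd, Nat.card_zmod] at this

variable [Finite L]

theorem pow (h2 : IsPGroup 2 (center L)) (h0 : center L ≠ ⊥) : ∃ k, Nat.card (center L) = 2 ^ (k + 1) := by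
  obtain ⟨k, hk⟩ := h2.exists_card_eq
  rcases k with _ | k
  · exact absurd (card_eq_one.1 hk) h0
  · exact ⟨k, hk⟩

theorem odd {n : ℕ} (hL : IsQuasisimple L) (h2 : IsPGroup 2 (center L)) (h0 : center L ≠ ⊥)
    (hA : HasCyclicSchurMultiplier Q n) (hn : Odd n) (e : L ⧸ center L ≃* Q) : False := by
  obtain ⟨k, hk⟩ := pow h2 h0
  have h := (dvd hL hA e).2
  rw [hk, pow_succ] at h
  exact (Nat.not_even_iff_odd.2 hn) (even_iff_two_dvd.2 ((dvd_mul_left 2 _).trans h))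

theorem two {n : ℕ} (hL : IsQuasisimple L) (h2 : IsPGroup 2 (center L)) (h0 : center L ≠ ⊥)
    (hA : HasCyclicSchurMultiplier Q n) (hn : ¬ 4 ∣ n) (e : L ⧸ center L ≃* Q) : Nat.card (center L) = 2 := by
  obtain ⟨k, hk⟩ := pow h2 h0
  have h := (dvd hL hA e).2
  rcases k with _ | k
  · exact hk
  · rw [hk, pow_succ, pow_succ, mul_assoc] at h
    exact absurd ((dvd_mul_left 4 _).trans h) hn

theorem gcd_odd {n q : ℕ} (hn : Odd n) : Odd (Nat.gcd n q) := hn.of_dvd_nat (Nat.gcd_dvd_left _ _)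

theorem ker6 {B : Type*} [Group B] (f : Multiplicative (ZMod 6) →* B) (hf : Function.Surjective f)
    (hB : Nat.card B = 2) : f.ker = (powMonoidHom 2 : Multiplicative (ZMod 6) →* _).range := by
  refine Schur.ker_eq_pow_range 2 f hf (fun b => by rw [← hB]; exact pow_card_eq_one') ?_
  rw [hB, Nat.card_eq_fintype_card, Nat.card_eq_fintype_card]
  decide

theorem nine (hL : IsQuasisimple L) (h2 : IsPGroup 2 (center L)) (h0 : center L ≠ ⊥)
    (e : L ⧸ center L ≃* alternatingGroup (Fin 6)) :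
    ∃ (F : Type) (_ : Field F) (_ : Fintype F), Fintype.card F = 9 ∧ Nonempty (L ≃* SL(2, F)) := by
  have := Fact.mk Nat.prime_three
  have := Fintype.ofFinite (GaloisField 3 2)
  have h9 : Fintype.card (GaloisField 3 2) = 9 := by
    rw [← Nat.card_eq_fintype_card, GaloisField.card 3 2 (by decide)]; rfl
  refine ⟨GaloisField 3 2, inferInstance, inferInstance, h9, ?_⟩
  obtain ⟨e'⟩ := Cfsg.Agent.S0254.result h9
  have hA := Cfsg.Agent.S2116.result 6 (.inl rfl)
  obtain ⟨a, ha, ha2⟩ := Classical.sl_exists_sq_ne_one (F := GaloisField 3 2) (by simp [h9])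
  have hp : Group.IsPerfect SL(2, GaloisField 3 2) := ⟨Matrix.SL2.commutator_eq_top ha ha2⟩
  obtain ⟨s1, k1⟩ := stem hL e
  have k2 : (e'.toMonoidHom.comp (QuotientGroup.mk' (center SL(2, GaloisField 3 2)))).ker =
      center SL(2, GaloisField 3 2) := by
    ext x; simp
  have s2 : IsStemExtension (e'.toMonoidHom.comp (QuotientGroup.mk' (center SL(2, GaloisField 3 2)))) :=
    ⟨e'.surjective.comp (QuotientGroup.mk'_surjective _), k2.le, by rw [hp.commutator_eq_top]; exact le_top⟩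
  have := hL.1
  have : Group.IsPerfect (alternatingGroup (Fin 6)) := Group.IsPerfect.ofSurjective s1.1
  have c1 := two hL h2 h0 hA (by decide) e
  have c2 : Nat.card (center SL(2, GaloisField 3 2)) = 2 := SL2.card_center_odd (by
    have : (3 : GaloisField 3 2) = 0 := by exact_mod_cast CharP.cast_eq_zero (GaloisField 3 2) 3
    intro h
    exact one_ne_zero (by linear_combination this - h : (1 : GaloisField 3 2) = 0))
  exact Schur.nonempty_equiv_of_ker_unique hA s1 s2 fun f₁ f₂ h₁ h₂ =>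
    (ker6 f₁ h₁ (by rw [k1, c1])).trans (ker6 f₂ h₂ (by rw [k2, c2])).symm

theorem l34 (hL : IsQuasisimple L) (h2 : IsPGroup 2 (center L)) (h0 : center L ≠ ⊥)
    (he : ∀ c : center L, c ^ 2 = 1) {F : Type} [Field F] [Fintype F] (h : Fintype.card F = 4)
    (e : L ⧸ center L ≃* PSL(3, F)) : Nat.card (center L) = 2 ∨ IsKleinFour (center L) := by
  obtain ⟨f, hf⟩ := onto hL (Cfsg.Agent.S2088.result h) e
  obtain ⟨k, hk⟩ := pow h2 h0
  have hle : (powMonoidHom 2 : Multiplicative (ZMod 3 × ZMod 4 × ZMod 4) →* _).range ≤ f.ker := by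
    rintro _ ⟨a, rfl⟩
    rw [MonoidHom.mem_ker, powMonoidHom_apply, map_pow, he]
  have h1 := index_dvd_of_le hle
  have h3 : (powMonoidHom 2 : Multiplicative (ZMod 3 × ZMod 4 × ZMod 4) →* _).range.index = 4 := by
    have h4 := (powMonoidHom 2 : Multiplicative (ZMod 3 × ZMod 4 × ZMod 4) →* _).range.card_mul_index
    have h5 : Nat.card (powMonoidHom 2 : Multiplicative (ZMod 3 × ZMod 4 × ZMod 4) →* _).range = 12 := by
      rw [Nat.card_eq_fintype_card]; decide
    have h6 : Nat.card (Multiplicative (ZMod 3 × ZMod 4 × ZMod 4)) = 48 := by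
      rw [Nat.card_eq_fintype_card]; decide
    rw [h5, h6] at h4
    omega
  rw [h3, index_ker, MonoidHom.range_eq_top.2 hf, card_top, hk] at h1
  rcases k with _ | _ | k
  · exact .inl hk
  · refine .inr ⟨hk, ?_⟩
    have : Nontrivial (center L) := (nontrivial_iff_ne_bot _).2 h0
    exact (Monoid.exponent_eq_prime_iff Nat.prime_two).2 fun g hg => orderOf_eq_prime (he g) hg
  · have := Nat.le_of_dvd (by decide) h1
    rw [pow_succ, pow_succ, pow_succ] at this
    have := Nat.two_pow_pos k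
    omega

end LI

theorem covs {L : Type*} [Group L] [Finite L] (hL : IsQuasisimple L) (h2 : IsPGroup 2 (center L))
    (h : IsQTEvenTypeComponent L) (hr : R2 (L ⧸ center L)) (h0 : center L ≠ ⊥) : Covs L := by
  have hz := pCore_eq_center hL h2
  have := hL.1
  unfold IsQTEvenTypeComponent at h
  rcases h with ⟨h, k, k8, k4⟩ | (⟨F, _, _, hF, ⟨e⟩⟩ | ⟨F, _, _, hF, ⟨e⟩⟩) | h
  · have h : IsChevSimple 2 (L ⧸ center L) := tr_quot (fun X => IsChevSimple 2 X) hz h
    have key : ∀ {F : Type} [Field F] [Fintype F], Fintype.card F = 5 ∨ Fintype.card F = 7 →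
        (L ⧸ center L ≃* PSL(2, F)) → False := fun {F} _ _ hF e =>
      h0 ((WCor.cover_psl2 (by omega) (by omega) e).resolve_right fun s => k ⟨F, _, _, hF.imp_right .inl, s.2⟩)
    have ez := QuotientGroup.quotientMulEquivOfEq hz
    rcases l13 h hr with ⟨F, _, _, _, h⟩ | h | ⟨K, _, _, m, hm, hK, ⟨e⟩⟩ | ⟨⟨e⟩⟩ | ⟨⟨e⟩⟩ | ⟨F, _, _, hF, ⟨e⟩⟩
    · have hev := FiniteField.even_card_of_char_two (ringChar.eq F 2)
      have h1 : 1 < Fintype.card F := Fintype.one_lt_card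
      rcases h with ⟨h4, ⟨e⟩⟩ | ⟨⟨e⟩⟩ | ⟨hF, ⟨e⟩⟩ | ⟨hF, ⟨e⟩⟩ | ⟨hF, ⟨e⟩⟩ | ⟨hF, ⟨e⟩⟩ | ⟨q, hF, hq, ⟨e⟩⟩ |
        ⟨q, hq, hF, ⟨e⟩⟩
      · rcases h4.eq_or_lt with h4 | h4
        · have := Fact.mk Nat.prime_five
          exact (key (.inl (ZMod.card 5)) (e.trans (psl2_four_five h4.symm (ZMod.card 5)).some)).elim
        · exact absurd ((WCor.cover_psl2 h4 (by omega) e).resolve_right fun s => by
            have := Nat.odd_iff.1 s.1
            omega) h0
      · by_cases c2 : Fintype.card F = 2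
        · have := Fact.mk Nat.prime_seven
          exact (key (.inr (ZMod.card 7)) (e.trans (Cfsg.Agent.S0255.result (ZMod.card 7) c2).some.symm)).elim
        by_cases c4 : Fintype.card F = 4
        · have he := k4 ⟨F, _, _, c4, ⟨ez.trans e⟩⟩
          rw [hz] at he
          rcases LI.l34 hL h2 h0 (fun c => Subtype.ext (he.2 c c.2)) c4 e with h | h
          · exact .inr (.inl ⟨h, .inr (.inr (.inr (.inr (.inr ⟨F, _, _, c4, .inr ⟨e⟩⟩))))⟩)
          · exact .inr (.inr (.inr ⟨h, F, _, _, c4, ⟨e⟩⟩))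
        · exact (LI.odd hL h2 h0 (Cfsg.Agent.S2086.result rfl 3 (by decide) (by omega) (by simp [c2, c4]))
            (LI.gcd_odd (by decide)) e).elim
      · exact (k8 ⟨hz ▸ h0, ⟨(ez.trans e).trans (Cfsg.Agent.S0256.result hF).some⟩⟩).elim
      · exact (LI.odd hL h2 h0 (Cfsg.Agent.S2086.result rfl 5 (by decide) (by omega) (by simp))
          (LI.gcd_odd (by decide)) e).elim
      · refine (LI.odd hL h2 h0 (Cfsg.Agent.S2092.result rfl 2 le_rfl (fun _ => hF) (by omega)) ?_ e).elim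
        exact Odd.of_dvd_nat (Nat.odd_iff.2 (by omega)) (Nat.gcd_dvd_right _ _)
      · by_cases c4 : Fintype.card F = 4
        · exact .inr (.inl ⟨LI.two hL h2 h0 (Cfsg.Agent.S2102.result c4) (by decide) e,
            .inr (.inr (.inr (.inr (.inr ⟨F, _, _, c4, .inl ⟨e⟩⟩))))⟩)
        · exact (LI.odd hL h2 h0 (Cfsg.Agent.S2100.result (by omega)) odd_one e).elim
      · exact (LI.odd hL h2 h0 (Cfsg.Agent.S2089.result 3 q hF le_rfl (by omega) (by simp))
          (LI.gcd_odd (by decide)) e).elim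
      · exact (LI.odd hL h2 h0 (Cfsg.Agent.S2110.result hq hF) odd_one e).elim
    · exact .inl (cov_sz hL h2 h0 h)
    · exact (LI.odd hL h2 h0 (Cfsg.Agent.S2114.result hm hK) odd_one e).elim
    · exact (LI.odd hL h2 h0 Cfsg.Agent.S2115.result odd_one e).elim
    · obtain ⟨F, _, _, hF, e'⟩ := LI.nine hL h2 h0 e
      exact (k ⟨F, _, _, .inr (.inr hF), e'⟩).elim
    · exact (LI.odd hL h2 h0 (Cfsg.Agent.S2089.result 3 3 hF le_rfl (by omega) (by simp))
        (LI.gcd_odd (by decide)) e).elim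
  · exact absurd (center_bot_L33 hL e) h0
  · have := simple_L2p hL hF e
    exact absurd ((inferInstance : (center L).Normal).eq_bot_or_eq_top.resolve_right
      (Comp.qs_center_ne_top hL)) h0
  · rcases (tr_quot (fun X => Sp9 X) hz h) with ⟨⟨e⟩⟩ | ⟨⟨e⟩⟩ | ⟨⟨e⟩⟩ | ⟨⟨e⟩⟩ | ⟨⟨e⟩⟩ | ⟨⟨e⟩⟩ | ⟨⟨e⟩⟩ | ⟨⟨e⟩⟩ |
      ⟨⟨e⟩⟩
    · exact (LI.odd hL h2 h0 Cfsg.Agent.S2034.result odd_one e).elim
    · exact .inr (.inl ⟨LI.two hL h2 h0 Cfsg.Agent.S2035.result (by decide) e, .inl ⟨e⟩⟩)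
    · obtain ⟨k, hk⟩ := LI.pow h2 h0
      obtain ⟨h1, h3⟩ := LI.dvd hL Cfsg.Agent.S2036.result e
      rcases k with _ | _ | k
      · exact .inr (.inl ⟨hk, .inr (.inl ⟨e⟩)⟩)
      · exact .inr (.inr (.inl ⟨h1, hk, ⟨e⟩⟩))
      · rw [hk, pow_succ, pow_succ, pow_succ, mul_assoc, mul_assoc] at h3
        exact absurd ((dvd_mul_left _ _).trans h3) (by decide)
    · exact (LI.odd hL h2 h0 Cfsg.Agent.S2037.result odd_one e).elim
    · exact (LI.odd hL h2 h0 Cfsg.Agent.S2038.result odd_one e).elim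
    · exact .inr (.inl ⟨LI.two hL h2 h0 Cfsg.Agent.S2040.result (by decide) e, .inr (.inr (.inl ⟨e⟩))⟩)
    · exact (LI.odd hL h2 h0 Cfsg.Agent.S2042.result odd_one e).elim
    · exact .inr (.inl ⟨LI.two hL h2 h0 Cfsg.Agent.S2046.result (by decide) e, .inr (.inr (.inr (.inl ⟨e⟩)))⟩)
    · exact .inr (.inl ⟨LI.two hL h2 h0 Cfsg.Agent.S2051.result (by decide) e,
        .inr (.inr (.inr (.inr (.inl ⟨e⟩))))⟩)

end CfsgLib.QT4
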