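import Mathlib
import Cfsg.Agent.Lib.QT4.BS
import Cfsg.Agent.Lib.QT4.ZQA

/-!
Full pairs: special Sylow subgroups.
-/

set_option autoImplicit false

namespace CfsgLib.QT4

open Cfsg Subgroup CfsgLib.LBal CfsgLib.LAE CfsgLib.QT2 CfsgLib.QT3
open scoped MatrixGroups commutatorElement

variable {G : Type*} [Group G] [Finite G] {T : Sylow 2 G} {z : G} {L M P : Subgroup G}

omit [Finite G] in
theorem zq_comm (h : Sd T z L) {u r : G} (hu : u ∈ (T : Subgroup G) ⊓ L) (hr : r ∈ (T : Subgroup G)) :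
    ⁅u, r⁆ ∈ (T : Subgroup G) ⊓ L :=
  ⟨St.comm_mem_left hu.1 (le_normalizer hr), St.comm_mem_left hu.2 (h.TN hr)⟩

theorem zq_bad (h : Sd T z L) (h0 : center L = ⊥) (q : aZQU L ((T : Subgroup G) ⊓ L)) (hM : (T : Subgroup G) ≤ nor M)
    (hb : ¬ (T : Subgroup G) ⊓ cen M ≤ cen ((T : Subgroup G) ⊓ L)) :
    ∃ a ∈ (T : Subgroup G) ⊓ L, a ∉ ZU ((T : Subgroup G) ⊓ L) ∧ (∀ x ∈ (T : Subgroup G) ⊓ L, ⁅a, x⁆ ∈ cen M) ∧
      ((∀ r ∈ (T : Subgroup G) ⊓ cen M, r * r = 1) → a * a = 1) := by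
  by_cases e : ∃ a ∈ (T : Subgroup G) ⊓ L, a ∈ cen M ∧ a ∉ ZU ((T : Subgroup G) ⊓ L)
  · obtain ⟨a, h1, h2, h3⟩ := e
    exact ⟨a, h1, h3, fun x hx => St.comm_mem_left h2 (St.norm_cent (hM hx.1)), fun k => k a ⟨h1.1, h2⟩⟩
  push Not at e
  obtain ⟨r, hr, h1⟩ := SetLike.not_le_iff_exists.1 hb
  obtain ⟨a, ha, c, hc, rfl⟩ := h.dec hr.1 (q.out r (h.TN hr.1) (ZA.e2 hr.1) fun u hu =>
    e _ (zq_comm h hu hr.1) (St.comm_mem_right (St.norm_cent (hM hu.1)) hr.2))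
  refine ⟨a, ha, fun k => h1 (mul_mem k.2 (centralizer_anti inf_le_right hc.2)), fun x hx => ?_,
    fun k => (ZA.sq_split h0 ha.2 hc.2 (k _ hr)).1⟩
  rw [← ZA.comm_left (hc.2 x hx.2)]
  exact St.comm_mem_left hr.2 (St.norm_cent (hM hx.1))

theorem zq_good (h : Sd T z L) (q : aZQU L ((T : Subgroup G) ⊓ L)) (hM : Cj L M) (hne : L ≠ M)
    (hg : (T : Subgroup G) ⊓ cen M ≤ cen ((T : Subgroup G) ⊓ L)) :
    (∀ r ∈ (T : Subgroup G) ⊓ cen M, r * r = 1) ∧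
      Nat.card ((T : Subgroup G) ⊓ cen M : Subgroup G) ≤ Nat.card (ZU ((T : Subgroup G) ⊓ L)) := by
  have k : ∀ r : ((T : Subgroup G) ⊓ cen M : Subgroup G), ∃ a : ZU ((T : Subgroup G) ⊓ L), ∃ c ∈ cen L,
      (r : G) = a * c := fun ⟨r, hr⟩ => by
    obtain ⟨a, ha, c, hc, rfl⟩ := h.dec hr.1 (q.out r (h.TN hr.1) (ZA.e2 hr.1) fun u hu => by
      rw [commutatorElement_eq_one_iff_mul_comm.2 (hg hr u hu)]
      exact one_mem _)
    exact ⟨⟨a, ha, (mul_mem_cancel_right (centralizer_anti inf_le_right hc.2)).1 (hg hr)⟩, c, hc.2, rfl⟩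
  refine ⟨fun r hr => ?_, ?_⟩
  · obtain ⟨a, c, hc, e⟩ := k ⟨r, hr⟩
    refine ZA.disj h (Cj.refl L) hM hne (mul_mem hr.1 hr.1) ?_ (mul_mem hr.2 hr.2)
    rw [show r = a * c from e, ZA.sq_mul (hc a a.2.1.2), q.el a a.2, one_mul]
    exact mul_mem hc hc
  · choose f c hc e using k
    refine Nat.card_le_card_of_injective f fun r s k => inv_mul_eq_one.1 (Subtype.ext
      (ZA.disj h (Cj.refl L) hM hne (r⁻¹ * s).2.1 ?_ (r⁻¹ * s).2.2))
    rw [coe_mul, coe_inv, e r, e s, k, mul_inv_rev, mul_assoc, inv_mul_cancel_left]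
    exact mul_mem (inv_mem (hc r)) (hc s)

theorem zq_cent (h : Sd T z L) (h0 : center L = ⊥) (q : aZQU L ((T : Subgroup G) ⊓ L)) (hF : Full T L)
    (hM : M ∈ Gam (T : Subgroup G) L) : (T : Subgroup G) ⊓ cen M ≤ cen ((T : Subgroup G) ⊓ L) := by
  by_contra hb
  obtain ⟨a, a1, a2, a3, a4⟩ := zq_bad h h0 q hM.2 hb
  obtain ⟨A, hA, h1, h2⟩ : ∃ A ∈ Gam (T : Subgroup G) L, A ≠ L ∧ A ≠ M := by
    obtain ⟨A, hA, B, hB, h1, h2, h3⟩ := h.three hF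
    by_cases e : A = M
    · exact ⟨B, hB, h2, fun e' => h3 (e.trans e'.symm)⟩
    · exact ⟨A, hA, h1, e⟩
  obtain ⟨h3, h4⟩ := zq_good h q hA.1 h1.symm (by
    by_contra hb'
    obtain ⟨b, b1, b2, b3, -⟩ := zq_bad h h0 q hA.2 hb'
    obtain ⟨x, hx, y, hy, e, e'⟩ := q.cm a a1 b b1 a2 b2
    exact e' (ZA.disj h hA.1 hM.1 h2 (zq_comm h a1 hx.1).1 (e ▸ b3 y hy) (a3 x hx)))
  obtain ⟨n, hn, rfl⟩ := ZA.gam2 h hA hM
  rw [← ZA.cj_cen, ← ZA.cj_inf hn] at a4 hb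
  have h5 : ZU ((T : Subgroup G) ⊓ L) ≤ cj n ((T : Subgroup G) ⊓ cen A) := fun w hw => by
    obtain ⟨x, hx, rfl⟩ := q.inv a a1 a2 (a4 fun r hr => by
      have := h3 _ (St.mem_cj.1 hr)
      rwa [show n⁻¹ * r * n * (n⁻¹ * r * n) = n⁻¹ * (r * r) * n⁻¹⁻¹ by group, conj_eq_one_iff] at this) w hw
    rw [ZA.cj_inf hn, ZA.cj_cen]
    exact ⟨hw.1.1, a3 x hx⟩
  rw [← eq_of_le_of_card_ge h5 (by rwa [St.card_cj])] at hb
  exact hb inf_le_right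

theorem Sd.zq (h : Sd T z L) (h0 : center L = ⊥) (hq : Al aZQ L) (ab : Al aOAb L) (hF : Full T L)
    (hk : ∀ l, TC L l → KT L l) : False := by
  have fin : ∀ D ≤ (T : Subgroup G), (T : Subgroup G) ≤ nor D → (∀ M ∈ Gam (T : Subgroup G) L, D ≤ M) → D = ⊥ :=
    fun D h1 h2 h3 => by
      by_contra e
      obtain ⟨l, l1, l2, l3⟩ := ZA.exists_z h1 h2 e
      obtain ⟨M, hM, k⟩ := hk l (tc_of_le h.sylL (h3 L h.self_gam l1) l2 (inf_le_left.trans l3))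
      exact ZA.ne1 l2 (St.center_bot.1 (hM.center h0) l (h3 M ⟨hM, l3.trans (h.cent_le hM k l2)⟩ l1) k)
  let C : Subgroup G := (T : Subgroup G) ⊓ ⨅ M ∈ Gam (T : Subgroup G) L, cen ((T : Subgroup G) ⊓ cen M)
  have cT : C ≤ T := inf_le_left
  have cQ : ∀ M ∈ Gam (T : Subgroup G) L, C ≤ cen ((T : Subgroup G) ⊓ cen M) := fun M hM =>
    inf_le_right.trans (iInf₂_le M hM)
  have uC : ∀ M ∈ Gam (T : Subgroup G) L, (T : Subgroup G) ⊓ M ≤ C := fun M hM => by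
    obtain ⟨y, -, k⟩ := h.gam_sd hM
    exact le_inf inf_le_left (le_iInf₂ fun N hN => le_centralizer_iff.1 (zq_cent k (hM.1.center h0)
      (hq M hM.1 _ k.sylL) ((h.full_iff k hM.1).1 hF) (by rwa [ZA.gam_eq hM.1])))
  have nC : (T : Subgroup G) ≤ nor C := fun t ht => St.norm_of_le fun x hx => by
    obtain ⟨c, hc, rfl⟩ := exists_of_mem_conjS hx
    refine ⟨St.conj_mem (le_normalizer ht) (cT hc), mem_iInf.2 fun M => mem_iInf.2 fun hM => ?_⟩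
    exact St.conj_mem (St.norm_cent (LAE.le_normalizer_inf le_normalizer (le_normalizer_centralizer hM.2) ht)) (cQ M hM hc)
  have key : ∀ W ≤ (T : Subgroup G), (T : Subgroup G) ≤ nor W → (∀ M ∈ Gam (T : Subgroup G) L, W ≤ LK M) →
      ⁅W, C⁆ = ⊥ := fun W h1 h2 h3 => fin _ ((commutator_mono h1 cT).trans (commutator_le_self _))
    (le_normalizer_commutator h2 nC) fun M hM => commutator_le.2 fun w hw c hc => by
      obtain ⟨y, -, k⟩ := h.gam_sd hM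
      obtain ⟨u, hu, q, hq, rfl⟩ := k.dec (h1 hw) (h3 M hM hw)
      rw [ZA.comm_left (cQ M hM hc q hq).symm]
      exact St.comm_mem_left hu.2 (hM.2 (cT hc))
  have h1 := key ⁅C, C⁆ ((commutator_le_self _).trans cT) (le_normalizer_commutator nC nC) fun M hM =>
    commutator_le.2 fun a ha b hb => ab M hM.1 T hM.2 T.isPGroup' a (cT ha) b (cT hb)
  have h2 := key C cT nC fun M hM c hc => by
    obtain ⟨y, -, k⟩ := h.gam_sd hM
    exact (hq M hM.1 _ k.sylL).out c (hM.2 (cT hc)) (ZA.e2 (cT hc)) fun u hu => ⟨zq_comm k hu (cT hc),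
      centralizer_anti (uC M hM) (commutator_eq_bot_iff_le_centralizer.1 h1
        (commutator_mem_commutator (uC M hM hu) hc))⟩
  exact (hq.self _ h.sylL).na (((uC L h.self_gam).trans (commutator_eq_bot_iff_le_centralizer.1 h2)).trans
    (centralizer_anti (uC L h.self_gam)))


end CfsgLib.QT4
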